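import Cfsg.Agent.Mrg.Omega.KL.StarX.Odd
import Cfsg.Agent.Mrg.Omega.KL.TwoS.Inp
import Cfsg.Agent.Mrg.Omega.NOThreeL.RZ.TwoC.AbP
import Cfsg.Agent.Mrg.Omega.NOThreeL.RZ.TwoC.EndV
import Cfsg.Agent.Mrg.Omega.KL.Star.ViaRed
import Cfsg.Agent.Mrg.Omega.KL.StarR.Alt
import Cfsg.Agent.Mrg.Omega.NOThreeL.RZ.TwoC.FrEOf
import Cfsg.Agent.Mrg.Omega.NOThreeL.RRed.EOneTr
import Cfsg.Agent.Mrg.Omega.HOne.PairP
import Cfsg.Agent.Mrg.Omega.NOThreeL.RRed.Blk.AsmInp
import Cfsg.Agent.Mrg.Omega.NOThreeL.RRed.Blk.FXDef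
import Cfsg.Agent.Mrg.Omega.NOThreeL.RRed.TvKind
import Cfsg.Agent.Mrg.Omega.NOThreeL.RZ.TwoC.BadE
import Cfsg.Agent.Mrg.Omega.NOThreeL.RRed.Ex.Sg
import Cfsg.Agent.Mrg.Omega.NOThreeL.RRed.AtomTv
import Cfsg.Agent.Mrg.Omega.NOThreeL.RRed.Ex.Lat
import Cfsg.Agent.Mrg.Omega.NOThreeL.RRed.Ex.Def
import Cfsg.Agent.Mrg.Omega.NOThreeL.RRed.Ex.Pf
import Cfsg.Agent.Mrg.Omega.NOThreeL.RRed.FourTree
import Cfsg.Agent.Mrg.Omega.NOThreeL.RZ.TwoE.Tv
import Cfsg.Agent.Mrg.Omega.NOThreeL.RRed.Blk.TypesNormN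
import Cfsg.Agent.Mrg.Omega.NOThreeL.RRed.Blk.AsmCore
import Cfsg.Agent.Mrg.Omega.NOThreeL.RRed.Blk.FxVec
import Cfsg.Agent.Mrg.Omega.NOThreeL.RRed.Blk.UniOf

-- merged: Cfsg.Agent.Mrg.Omega.KL.StarX.Grp
section

/-!
# The group plug of `KL/StarX` (KL* with foreign minimal parabolics, bb #24309 (alpha))

`C` acts on the elementary abelian `M` by conjugation, `T` is a Sylow 2-subgroup of `C`, `Z ≤ M` is centralised by `T`,
`U = ⟨Z ^ C⟩`; `Y ≤ M` is normalised by `N_C(T)`, `C_Y(T)` is centralised by `C`; `N_C(T) ≤ D ≤ C`, `A ≤ O₂(D)`;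
`A ≤ T` is exact modulo `C_A(U)`, `A ≤ O₂(C_C(Y) T)`.

* `PreX` : the input for an action which need not be faithful, with an `A` which is exact modulo the kernel;
  **`PreX.inpX`** : `PreX → InpX` for `C / C_C(M)` and an atom inside the image of `A`;
* `GInX` : the input on the level of subgroups; **`GInX.preX`**, **`GInX.false_of`**.
-/

set_option autoImplicit false
set_option linter.unusedSectionVars false

namespace Cfsg.Agent.Omega.KL.StarX

open Subgroup Cfsg Cfsg.Agent.Omega.MinPar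
open Cfsg.Agent.ZN (o2 zc)
open Cfsg.Agent.ClassTwoFusion.Quad Cfsg.Agent.Omega.ML.MinFrame
open Cfsg.Agent.MinSimple.MinParabolic (IsMinPar)
open Cfsg.Agent.Omega.NoFF.Basic (conj_conj mem_conj conj_le_iff comm_symm comm_mono Z_le_V V_le)
open Cfsg.Agent.MinSimple.VModule (le_o2 o2_isPGroup o2_le le_normalizer_o2 o2_le_of_sylow)
open Cfsg.Agent.Omega.KL.Quo (norm_lift exists_minPar)
open Cfsg.Agent.Omega.KL.TwoS (relIndex_anti relIndex_mono actX)
open scoped Pointwise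

universe u v

/-- the input for `C` acting on `M`, not necessarily faithfully, with an `A` which is exact modulo the kernel;
`Z ≤ U ≤ M`, `U` is the submodule generated by `Z`, `T` fixes `Z` -/
structure PreX {C : Type u} [Group C] {M : Type v} [Group M] [MulDistribMulAction C M] (T A D : Subgroup C)
    (Z U Y : Subgroup M) : Prop where
  sq : ∀ m : M, m * m = 1
  two : IsPGroup 2 T
  syl : ¬ 2 ∣ T.index
  TZ : ∀ t ∈ T, ∀ z ∈ Z, t • z = z
  gen : ∀ W : Subgroup M, Z ≤ W → (∀ c : C, ∀ w ∈ W, c • w ∈ W) → U ≤ W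
  el : ∀ a ∈ A, a * a = 1
  mv : ¬ A ≤ fxr C U
  ker : A ⊓ fxr C U ≤ fxr C (⊤ : Subgroup M)
  le : (cv M (A : Set C)).index ≤ (fxr C U).relIndex A
  no : ∀ B : Subgroup C, B ≤ A → (fxr C U).relIndex B ≤ (cv M (B : Set C)).relIndex U
  NY : ∀ g ∈ normalizer (T : Set C), ∀ w ∈ Y, g • w ∈ Y
  cY : ∀ w ∈ Y, (∀ t ∈ T, t • w = w) → ∀ g : C, g • w = w
  ND : normalizer (T : Set C) ≤ D
  AD : A ≤ o2 D
  par : ∀ P : Subgroup C, IsMinPar T P →
    ((∃ z ∈ Z, ∃ p ∈ P, p • z ≠ z) ∧ ∀ g ∈ P, Odd (orderOf g) → ∀ w ∈ Y, g • w = w) ∨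
    (P ≤ D ∧ ((∀ z ∈ Z, ∀ p ∈ P, p • z = z) ∨ ∀ p ∈ P, ∀ w ∈ Y, p • w ∈ Y))
  low : A ≤ o2 (fxr C Y ⊔ T)
  KC : IsKGroup C

theorem PreX.inpX {C : Type u} [Group C] [Finite C] {M : Type v} [Group M] [Finite M] [MulDistribMulAction C M]
    {T A D : Subgroup C} {Z U Y : Subgroup M} (h : PreX T A D Z U Y) :
    ∃ (X : Type u) (_ : Group X) (_ : Finite X) (_ : MulDistribMulAction X M) (T' A' D' : Subgroup X),
      InpX T' A' D' Z Y := by
  have htriv : ∀ k ∈ fxr C (⊤ : Subgroup M), ∀ m : M, k • m = m := fun k hk m => hk m (mem_top m)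
  have hN : (fxr C (⊤ : Subgroup M)).Normal := fxr_normal fun _ _ _ => mem_top _
  set N := fxr C (⊤ : Subgroup M) with hNdef
  let _ : MulDistribMulAction (C ⧸ N) M := quoAct N htriv
  let π : C →* C ⧸ N := QuotientGroup.mk' N
  have hπ : Function.Surjective π := QuotientGroup.mk'_surjective N
  have he : ∀ (g : C) (v : M), π g • v = g • v := fun _ _ => rfl
  have hker : ∀ k : C, (∀ v : M, k • v = v) → π k = 1 := fun k hk =>
    (QuotientGroup.eq_one_iff k).2 fun v _ => hk v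
  have hker2 : ∀ k : C, π k = 1 → ∀ v : M, k • v = v := fun k hk v =>
    (QuotientGroup.eq_one_iff k).1 hk v (mem_top v)
  have hfxm : ∀ Y : Subgroup M, (fxr C Y).map π = fxr (C ⧸ N) Y := by
    intro Y
    ext g
    constructor
    · rintro ⟨c, hc, rfl⟩
      exact hc
    · intro hg
      obtain ⟨c, rfl⟩ := hπ g
      exact ⟨c, hg, rfl⟩
  have ho2 : ∀ S : Subgroup C, A ≤ o2 S → A.map π ≤ o2 (S.map π) := by
    intro S hS
    refine (map_mono hS).trans (le_o2 (map_mono (o2_le _)) ((o2_isPGroup _).map π) ?_)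
    exact (map_mono (le_normalizer_o2 _)).trans (le_normalizer_map π)
  have hlow : A.map π ≤ o2 (fxr (C ⧸ N) Y ⊔ T.map π) := by
    rw [← hfxm, ← Subgroup.map_sup]
    exact ho2 _ h.low
  have hsyl : ¬ 2 ∣ (T.map π).index := fun h2 => h.syl (h2.trans (index_map_dvd T hπ))
  have hKH : IsKGroup (C ⧸ N) := ML.Final.sec_KG.quo C h.KC N
  have hel : ∀ a ∈ A.map π, a * a = 1 := by
    rintro _ ⟨a, ha, rfl⟩
    rw [← map_mul, h.el a ha, map_one]
  -- `A.map π` is faithful on `U`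
  have hfx : ∀ B : Subgroup (C ⧸ N), B ≤ A.map π → B ⊓ fxr (C ⧸ N) U = ⊥ := by
    intro B hB
    rw [Subgroup.eq_bot_iff_forall]
    rintro g ⟨hg, hg2⟩
    obtain ⟨a, ha, rfl⟩ := hB hg
    have h1 : a ∈ fxr C (⊤ : Subgroup M) := h.ker ⟨ha, hg2⟩
    exact hker a fun m => h1 m (mem_top m)
  -- the fixed points of a subgroup and of its preimage in `A`
  have hcvm : ∀ B : Subgroup C, cv M (B.map π : Set (C ⧸ N)) = cv M (B : Set C) := by
    intro B
    ext v
    constructor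
    · exact fun hv a ha => hv _ ⟨a, ha, rfl⟩
    · rintro hv _ ⟨a, ha, rfl⟩
      exact hv a ha
  have hcardm : ∀ B : Subgroup C, Nat.card (B.map π) = N.relIndex B := by
    intro B
    rw [← relIndex_bot_left, ← relIndex_comap, MonoidHom.comap_bot, QuotientGroup.ker_mk']
  have hNU : N ≤ fxr C U := fun g hg m _ => hg m (mem_top m)
  have hrelm : ∀ B : Subgroup C, B ≤ A → N.relIndex B = (fxr C U).relIndex B := by
    intro B hB
    have e : B ⊓ fxr C U = B ⊓ N := by
      apply le_antisymm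
      · exact le_inf inf_le_left ((inf_le_inf_right _ hB).trans h.ker)
      · exact inf_le_inf_left _ hNU
    rw [← inf_relIndex_left B N, ← e, inf_relIndex_left]
  -- (NO)
  have hno : ∀ B : Subgroup (C ⧸ N), B ≤ A.map π → Nat.card B ≤ (cv M (B : Set (C ⧸ N))).index := by
    intro B hB
    set B0 : Subgroup C := B.comap π ⊓ A with hB0
    have hBm : B0.map π = B := by
      apply le_antisymm
      · rintro _ ⟨b, hb, rfl⟩
        exact hb.1
      · intro b hb
        obtain ⟨a, ha, rfl⟩ := hB hb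
        exact ⟨a, ⟨hb, ha⟩, rfl⟩
    rw [← hBm, hcardm, hcvm, hrelm B0 inf_le_right]
    refine (h.no B0 inf_le_right).trans ?_
    rw [← relIndex_top_right (cv M (B0 : Set C))]
    exact relIndex_mono le_top
  have hex : (cv M (A.map π : Set (C ⧸ N))).index = Nat.card (A.map π) := by
    refine le_antisymm ?_ (hno _ le_rfl)
    rw [hcvm, hcardm, hrelm A le_rfl]
    exact h.le
  have hA1 : A.map π ≠ ⊥ := by
    intro h1
    apply h.mv
    intro a ha m _
    refine hker2 a ?_ m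
    rw [← mem_bot, ← h1]
    exact ⟨a, ha, rfl⟩
  -- an atom
  obtain ⟨B, ⟨hBA, hB1, hBe⟩, hmin⟩ : ∃ B : Subgroup (C ⧸ N), (B ≤ A.map π ∧ B ≠ ⊥ ∧
      (cv M (B : Set (C ⧸ N))).index = Nat.card B) ∧ ∀ B' : Subgroup (C ⧸ N), (B' ≤ A.map π ∧ B' ≠ ⊥ ∧
      (cv M (B' : Set (C ⧸ N))).index = Nat.card B') → B' ≤ B → B' = B := by
    obtain ⟨B, hB⟩ := (Set.toFinite {B : Subgroup (C ⧸ N) | B ≤ A.map π ∧ B ≠ ⊥ ∧
      (cv M (B : Set (C ⧸ N))).index = Nat.card B}).exists_minimal ⟨A.map π, le_rfl, hA1, hex⟩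
    exact ⟨B, hB.prop, fun B' hB' hle => le_antisymm hle (hB.le_of_le hB' hle)⟩
  refine ⟨C ⧸ N, inferInstance, inferInstance, inferInstance, T.map π, B, D.map π, ?_⟩
  refine ⟨h.sq, h.two.map π, hsyl, ?_, ?_, ?_, ?_, hBA.trans (ho2 D h.AD), ?_, fun a ha => hel a (hBA ha), hBe, ?_, ?_,
    hBA.trans hlow, hKH⟩
  · rintro z hz _ ⟨t, ht, rfl⟩
    exact h.TZ t ht z hz
  · intro g hg w hw
    obtain ⟨t, ht, n, hn, rfl⟩ := norm_lift π hπ h.two h.syl hg
    rw [he, mul_smul]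
    exact h.NY t (le_normalizer ht) _ (h.NY n hn w hw)
  · intro w hw htw g
    obtain ⟨c, rfl⟩ := hπ g
    exact h.cY w hw (fun t ht => htw _ ⟨t, ht, rfl⟩) c
  · intro g hg
    obtain ⟨t, ht, n, hn, rfl⟩ := norm_lift π hπ h.two h.syl hg
    exact ⟨t * n, D.mul_mem (h.ND (le_normalizer ht)) (h.ND hn), rfl⟩
  · intro P hP
    obtain ⟨R, hR, rfl⟩ := exists_minPar π hπ hP
    rcases h.par R hR with ⟨⟨z, hz, p, hp, hpz⟩, h1⟩ | ⟨h1, h2⟩
    · refine Or.inl ⟨⟨z, hz, _, ⟨p, hp, rfl⟩, hpz⟩, fun g hg hog w hw => ?_⟩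
      obtain ⟨c, hc, hco, rfl⟩ := KL.TwoS.exists_odd π hg hog
      exact h1 c hc hco w hw
    · refine Or.inr ⟨map_mono h1, ?_⟩
      rcases h2 with h2 | h2
      · left
        rintro z hz _ ⟨p, hp, rfl⟩
        exact h2 z hz p hp
      · right
        rintro _ ⟨p, hp, rfl⟩ w hw
        exact h2 p hp w hw
  · intro B' hB' hB1' hne
    refine lt_of_le_of_ne (hno B' (hB'.trans hBA)) fun h1 => hne ?_
    exact hmin B' ⟨hB'.trans hBA, hB1', h1.symm⟩ hB'
  · -- `B ≰ O₂(X)`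
    intro hle
    apply hB1
    rw [← hfx B hBA, eq_comm, inf_eq_left]
    have hoT : o2 (⊤ : Subgroup (C ⧸ N)) ≤ T.map π :=
      o2_le_of_sylow (h.two.map π) (by rw [relIndex_top_right]; exact hsyl)
    have h1 : U ≤ cv M (o2 (⊤ : Subgroup (C ⧸ N)) : Set (C ⧸ N)) := by
      refine h.gen _ ?_ ?_
      · intro z hz g hg
        obtain ⟨t, ht, rfl⟩ := hoT hg
        exact h.TZ t ht z hz
      · intro c w hw g hg
        have h2 : (π c)⁻¹ * g * (π c)⁻¹⁻¹ ∈ o2 (⊤ : Subgroup (C ⧸ N)) :=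
          (mem_normalizer_iff.1 (le_normalizer_o2 (⊤ : Subgroup (C ⧸ N)) (mem_top (π c)⁻¹)) g).1 hg
        have h3 := hw _ h2
        rw [inv_inv] at h3
        rw [← he c w, ← mul_smul]
        have e : g * π c = π c * ((π c)⁻¹ * g * π c) := by group
        rw [e, mul_smul, h3]
    exact fun b hb m hm => h1 hm b (hle hb)

/-! ### Subgroups -/

/-- the input on the level of subgroups of `G` -/
structure GInX {G : Type u} [Group G] (C T A M D Z Y : Subgroup G) : Prop where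
  CM : C ≤ normalizer (M : Set G)
  sqM : ∀ m ∈ M, m ^ 2 = 1
  TC : T ≤ C
  two : IsPGroup 2 T
  syl : ¬ 2 ∣ T.relIndex C
  ZM : Z ≤ M
  TZ : T ≤ centralizer (Z : Set G)
  YM : Y ≤ M
  NY : C ⊓ normalizer (T : Set G) ≤ normalizer (Y : Set G)
  /-- `C_Y(T)` is centralised by `C` -/
  cY : C ≤ centralizer ((Y ⊓ centralizer (T : Set G) : Subgroup G) : Set G)
  ND : C ⊓ normalizer (T : Set G) ≤ D
  AD : A ≤ o2 (C ⊓ D)
  /-- a `T`-minimal `P ≤ C` moves `Z` and its elements of odd order centralise `Y`, or `P ≤ D` and `P` centralises `Z`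
  or normalises `Y` -/
  par : ∀ P : Subgroup G, IsMinPar T P → P ≤ C →
    (¬ P ≤ centralizer (Z : Set G) ∧ ∀ g ∈ P, Odd (orderOf g) → g ∈ centralizer (Y : Set G)) ∨
    (P ≤ D ∧ (P ≤ centralizer (Z : Set G) ∨ P ≤ normalizer (Y : Set G)))
  low : A ≤ o2 (C ⊓ centralizer (Y : Set G) ⊔ T)
  AT : A ≤ T
  sqA : ∀ a ∈ A, a ^ 2 = 1
  mv : ¬ A ≤ centralizer (NoFF.Basic.V Z C : Set G)
  ker : A ⊓ centralizer (NoFF.Basic.V Z C : Set G) ≤ centralizer (M : Set G)
  le : (centralizer (A : Set G)).relIndex M ≤ (centralizer (NoFF.Basic.V Z C : Set G)).relIndex A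
  no : ∀ B : Subgroup G, B ≤ A → (centralizer (NoFF.Basic.V Z C : Set G)).relIndex B ≤
    (centralizer (B : Set G)).relIndex (NoFF.Basic.V Z C)
  K : IsKGroup C

namespace GInX

variable {G : Type u} [Group G] {C T A M D Z Y : Subgroup G}

theorem preX [Finite G] (h : GInX C T A M D Z Y) :
    letI := actX h.CM
    PreX (T.subgroupOf C) (A.subgroupOf C) (D.subgroupOf C) (Z.subgroupOf M) ((NoFF.Basic.V Z C).subgroupOf M)
      (Y.subgroupOf M) := by
  let := actX h.CM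
  change PreX (T.subgroupOf C) (A.subgroupOf C) (D.subgroupOf C) (Z.subgroupOf M) ((NoFF.Basic.V Z C).subgroupOf M)
      (Y.subgroupOf M)
  have hAC : A ≤ C := h.AT.trans h.TC
  have hNM : NoFF.Basic.V Z C ≤ M := V_le fun c hc => by
    have e : MulAut.conj c • M = M := NOThreeL.Pair.conj_eq_of_mem (h.CM hc)
    rw [← e]
    exact conj_le_iff.2 h.ZM
  have hsm : ∀ (c : C) (m : M), ((c • m : M) : G) = c * m * (c : G)⁻¹ := fun _ _ => rfl
  have hfix : ∀ (c : C) (m : M), c • m = m ↔ (m : G) * c = c * m := by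
    intro c m
    rw [Subtype.ext_iff, hsm, mul_inv_eq_iff_eq_mul, eq_comm]
  have hfxr : ∀ Y : Subgroup G, Y ≤ M → fxr C (Y.subgroupOf M) = (centralizer (Y : Set G)).subgroupOf C := by
    intro Y hY
    ext c
    rw [mem_subgroupOf, mem_centralizer_iff]
    constructor
    · intro h y hy
      exact (hfix c ⟨y, hY hy⟩).1 (h _ (mem_subgroupOf.2 hy))
    · intro h y hy
      exact (hfix c y).2 (h _ (mem_subgroupOf.1 hy))
  have hfxt : fxr C (⊤ : Subgroup M) = (centralizer (M : Set G)).subgroupOf C := by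
    rw [← hfxr M le_rfl, subgroupOf_self]
  have hcv : ∀ B : Subgroup G, B ≤ C → cv M (B.subgroupOf C : Set C) = (centralizer (B : Set G)).subgroupOf M := by
    intro B hB
    ext m
    rw [mem_subgroupOf, mem_centralizer_iff]
    constructor
    · intro h b hb
      exact ((hfix ⟨b, hB hb⟩ m).1 (h _ (mem_subgroupOf.2 hb))).symm
    · intro h b hb
      exact (hfix b m).2 (h b (mem_subgroupOf.1 hb)).symm
  -- normalizers of `T`
  have hNN : ∀ g : C, g ∈ normalizer ((T.subgroupOf C : Subgroup C) : Set C) →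
      (g : G) ∈ C ⊓ normalizer (T : Set G) := by
    intro g hg
    refine mem_inf.2 ⟨g.2, ?_⟩
    rw [mem_normalizer_iff] at hg ⊢
    intro t
    constructor
    · intro ht
      exact mem_subgroupOf.1 ((hg ⟨t, h.TC ht⟩).1 (mem_subgroupOf.2 ht))
    · intro ht
      have h1 : t ∈ C := by
        have h2 := C.mul_mem (C.mul_mem (C.inv_mem g.2) (h.TC ht)) g.2
        have e : (g : G)⁻¹ * (g * t * (g : G)⁻¹) * g = t := by group
        rwa [e] at h2
      exact mem_subgroupOf.1 ((hg ⟨t, h1⟩).2 (mem_subgroupOf.2 ht))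
  have hnor : ∀ g : C, (g : G) ∈ normalizer (Y : Set G) → ∀ w ∈ Y.subgroupOf M, g • w ∈ Y.subgroupOf M := by
    intro g hg w hw
    refine mem_subgroupOf.2 ?_
    rw [hsm]
    exact (mem_normalizer_iff.1 hg _).1 (mem_subgroupOf.1 hw)
  refine ⟨?_, ?_, h.syl, ?_, ?_, ?_, ?_, ?_, ?_, ?_, ?_, ?_, ?_, ?_, ?_, ?_, h.K⟩
  · intro m
    apply Subtype.ext
    have h1 := h.sqM m m.2
    rw [pow_two] at h1
    exact h1
  · exact h.two.comap_of_injective C.subtype C.subtype_injective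
  · intro t ht z hz
    rw [hfix]
    exact mem_centralizer_iff.1 (h.TZ (mem_subgroupOf.1 ht)) z (mem_subgroupOf.1 hz)
  · -- generation
    intro W hZW hW
    have h1 : NoFF.Basic.V Z C ≤ W.map M.subtype := by
      refine V_le fun c hc => ?_
      intro x hx
      rw [mem_conj] at hx
      have h2 := hW ⟨c, hc⟩ ⟨_, h.ZM hx⟩ (hZW (mem_subgroupOf.2 hx))
      refine ⟨_, h2, ?_⟩
      change c * (c⁻¹ * x * c) * c⁻¹ = x
      group
    intro m hm
    obtain ⟨w, hw, hwm⟩ := h1 (mem_subgroupOf.1 hm)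
    rw [← (Subtype.ext hwm : w = m)]
    exact hw
  · intro a ha
    apply Subtype.ext
    have h1 := h.sqA a (mem_subgroupOf.1 ha)
    rw [pow_two] at h1
    exact h1
  · rw [hfxr _ hNM]
    intro h1
    apply h.mv
    intro b hb
    exact mem_subgroupOf.1 (h1 (mem_subgroupOf.2 hb : (⟨b, hAC hb⟩ : C) ∈ A.subgroupOf C))
  · rw [hfxr _ hNM, hfxt]
    rintro c ⟨h1, h2⟩
    exact mem_subgroupOf.2 (h.ker ⟨mem_subgroupOf.1 h1, mem_subgroupOf.1 h2⟩)
  · rw [hfxr _ hNM, hcv A hAC, relIndex_subgroupOf hAC]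
    exact h.le
  · intro B hB
    set B' : Subgroup G := B.map C.subtype with hB'
    have hBB : B'.subgroupOf C = B := comap_map_eq_self_of_injective C.subtype_injective B
    have hB'A : B' ≤ A := by
      rintro _ ⟨b, hb, rfl⟩
      exact mem_subgroupOf.1 (hB hb)
    have h1 := h.no B' hB'A
    rw [hfxr _ hNM, ← hBB, hcv B' (hB'A.trans hAC), relIndex_subgroupOf (hB'A.trans hAC), relIndex_subgroupOf hNM]
    exact h1
  · exact fun g hg => hnor g (h.NY (hNN g hg))
  · intro w hw htw g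
    rw [hfix]
    refine mem_centralizer_iff.1 (h.cY g.2) w ⟨mem_subgroupOf.1 hw, mem_centralizer_iff.2 fun t ht => ?_⟩
    exact ((hfix ⟨t, h.TC ht⟩ w).1 (htw _ (mem_subgroupOf.2 ht))).symm
  · exact fun g hg => mem_subgroupOf.2 (h.ND (hNN g hg))
  · refine Plug.sub_o2 (S := C ⊓ D) (fun c => ?_) h.AD
    rw [mem_subgroupOf, mem_inf, and_iff_right c.2]
  · intro P hP
    have hR := Plug.minPar_map h.TC hP
    rcases h.par _ hR (map_subtype_le P) with ⟨h1, h2⟩ | ⟨h1, h2⟩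
    · left
      obtain ⟨_, ⟨p, hp, rfl⟩, hpz⟩ := SetLike.not_le_iff_exists.1 h1
      constructor
      · by_contra hc
        push Not at hc
        apply hpz
        rw [mem_centralizer_iff]
        intro z hz
        exact (hfix p ⟨z, h.ZM hz⟩).1 (hc _ (mem_subgroupOf.2 hz) p hp)
      · intro g hg hog w hw
        rw [hfix]
        exact mem_centralizer_iff.1 (h2 g (mem_map_of_mem C.subtype hg) (by rwa [orderOf_coe])) w (mem_subgroupOf.1 hw)
    · right
      refine ⟨fun p hp => mem_subgroupOf.2 (h1 (mem_map_of_mem C.subtype hp)), ?_⟩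
      rcases h2 with h2 | h2
      · left
        intro z hz p hp
        rw [hfix]
        exact mem_centralizer_iff.1 (h2 (mem_map_of_mem C.subtype hp)) z (mem_subgroupOf.1 hz)
      · right
        exact fun p hp => hnor p (h2 (mem_map_of_mem C.subtype hp))
  · refine Plug.sub_o2 (S := C ⊓ centralizer (Y : Set G) ⊔ T) (fun c => ?_) h.low
    have e : (C ⊓ centralizer (Y : Set G)).subgroupOf C = (centralizer (Y : Set G)).subgroupOf C := by
      rw [inf_subgroupOf_left]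
    rw [hfxr Y h.YM, ← e, ← subgroupOf_sup inf_le_left h.TC, mem_subgroupOf]

/-- **KL* with foreign minimal parabolics on the level of subgroups** -/
theorem false_of [Finite G] (hML : ML.Final.MLK.{u, u}) (hE : ML.Ex.Two.Ext.{u, u}) (h : GInX C T A M D Z Y) :
    False := by
  let := actX h.CM
  obtain ⟨X, _, _, _, T', A', D', h1⟩ := h.preX.inpX
  exact h1.false_of hML hE

end GInX

end Cfsg.Agent.Omega.KL.StarX

end

-- merged: Cfsg.Agent.Mrg.Omega.NOThreeL.RZ.TwoC.Alpha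
section

section


/-!
# [R-z], case (II) (helper513, #24309 (4)): (alpha) is impossible

Over the abstract frame `Ab` of helper652, with `R₁ ≤ V`, `C_{R₁}(S) ≤ Z₁`, `N_G(S) ≤ N_G(R₁)`, `E ≤ C_G(R₁) S`:
no `A ∈ AA(C_O(U₁))` has `F = C_A(NR)` exact on `W₂` and `[F, W₂] ≠ 1`.

* `cent_of_nn` : `W ∈ NN(T)`, `A ≤ T`, `|W : C_W(A)| ≤ |A : C_A(W)|` imply `[A, W] = 1`;
* `ker_of_exact` : `F` exact on `W`, `|F : C_F(U)| ≤ |U : C_U(F)|`, `U ≤ W ∈ NN(T)`, `C_F(U) ≤ T` imply `[C_F(U), W] = 1`;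
* **`Ab.alpha`** : (alpha) is impossible, from `MLK`, `Ext` (`KL/StarX`: the L-types in `C_G(Z₁)` may move `Z` and `R₁`).
-/

set_option autoImplicit false
set_option linter.unusedSectionVars false

namespace Cfsg.Agent.Omega.NOThreeL.RZ.TwoC.Alpha

open Subgroup Cfsg
open Cfsg.Agent.ZN (o2 zc zl jj)
open Cfsg.Agent.ZN.ChoiceBase hiding mem_zc
open Cfsg.Agent.Omega.ML.Final (MLK)
open Cfsg.Agent.Omega.ML.GMod (hul hul_le hul_le_of le_hul cj_le_hul le_normalizer_hul nc ri_mono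
  normalizer_le_normalizer_o2)
open Cfsg.Agent.Omega.ML.GNN (card_mul)
open Cfsg.Agent.Omega.FFThm
open Cfsg.Agent.Omega.MinPar Cfsg.Agent.Omega.Frame Cfsg.Agent.Omega.FrameNOFF
open Cfsg.Agent.Omega.NO3b.Bang
open Cfsg.Agent.Omega.NO3S.EThree.ExactA (eab_iff eab_mono)
open Cfsg.Agent.Omega.EK3.Rank (NoOn)
open Cfsg.Agent.Omega.NoFF.Basic (comm_symm Z_le_V V_le)
open Cfsg.Agent.MinSimple.VModule (zc_le_zl le_normalizer_zl zl_le zc_le zc_sq zc_comm mem_zc le_centralizer_zc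
  le_normalizer_o2 o2_isPGroup o2_le le_o2 normalizer_le_normalizer_zc)
open Cfsg.Agent.MinSimple.Basic (not_dvd_relIndex)
open Cfsg.Agent.MinSimple.MinParabolic (IsMinPar)
open Cfsg.Agent.Omega.NOThreeL.RZ.TwoC.Loc
open Cfsg.Agent.Omega.KL.StarX (GInX)
open scoped Pointwise

universe u

variable {G : Type u} [Group G] [Finite G]

/-- no offender in `T` -/
theorem cent_of_nn {T W A : Subgroup G} (hW : NN T W) (hA : A ≤ T) (hel : IsElementaryAbelian 2 A)
    (hle : (centralizer (A : Set G)).relIndex W ≤ (centralizer (W : Set G)).relIndex A) :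
    A ≤ centralizer (W : Set G) := by
  by_contra hc
  refine hW.nff A hA ⟨offM_of_abel (eab_iff.1 hel).1 fun a ha => (eab_iff.1 hel).2 a ha, hc, ?_⟩
  have e1 : Nat.card ↥(A ⊓ centralizer (W : Set G)) * (centralizer (W : Set G)).relIndex A = Nat.card A := by
    rw [← inf_relIndex_left]
    exact card_mul inf_le_left
  have e2 : Nat.card ↥(W ⊓ centralizer (A : Set G)) * (centralizer (A : Set G)).relIndex W = Nat.card W := by
    rw [← inf_relIndex_left]
    exact card_mul inf_le_left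
  rw [← e1, ← e2]
  calc _ ≤ Nat.card ↥(W ⊓ centralizer (A : Set G)) * (centralizer (W : Set G)).relIndex A *
          Nat.card ↥(A ⊓ centralizer (W : Set G)) := by
          exact Nat.mul_le_mul_right _ (Nat.mul_le_mul_left _ hle)
      _ = _ := by ring

/-- `C_F(U)` is trivial on `W` if `F` is exact on `W` -/
theorem ker_of_exact {T W U F : Subgroup G} (hW : NN T W) (hUW : U ≤ W) (hel : IsElementaryAbelian 2 F)
    (hF : F ⊓ centralizer (U : Set G) ≤ T)
    (he : (centralizer (W : Set G)).relIndex F = (centralizer (F : Set G)).relIndex W)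
    (hno : (centralizer (U : Set G)).relIndex F ≤ (centralizer (F : Set G)).relIndex U) :
    F ⊓ centralizer (U : Set G) ≤ centralizer (W : Set G) := by
  set F₀ : Subgroup G := F ⊓ centralizer (U : Set G) with hF₀
  refine cent_of_nn hW hF (eab_mono hel inf_le_left) ?_
  have hWU : centralizer (W : Set G) ≤ centralizer (U : Set G) := centralizer_le hUW
  have hFF : centralizer (F : Set G) ≤ centralizer (F₀ : Set G) := centralizer_le inf_le_left
  -- `|F : C_F(W)| = |F₀ : C(W)| |F : F₀|`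
  have h1 : (centralizer (W : Set G)).relIndex F₀ * (centralizer (U : Set G)).relIndex F =
      (centralizer (W : Set G)).relIndex F := by
    have h2 := relIndex_inf_mul_relIndex (centralizer (W : Set G)) (centralizer (U : Set G)) F
    rw [inf_eq_left.2 hWU, inf_comm] at h2
    exact h2
  -- `|W : C_W(F)| = |W : C_W(F₀)| |C_W(F₀) : C_W(F)|`
  have h3 : (centralizer (F : Set G)).relIndex (centralizer (F₀ : Set G) ⊓ W) *
      (centralizer (F₀ : Set G)).relIndex W = (centralizer (F : Set G)).relIndex W := by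
    have h2 := relIndex_inf_mul_relIndex (centralizer (F : Set G)) (centralizer (F₀ : Set G)) W
    rw [inf_eq_left.2 hFF] at h2
    exact h2
  have h4 : (centralizer (F : Set G)).relIndex U ≤
      (centralizer (F : Set G)).relIndex (centralizer (F₀ : Set G) ⊓ W) :=
    KL.TwoS.relIndex_mono (le_inf (comm_symm inf_le_right) hUW)
  have h5 : 0 < (centralizer (F : Set G)).relIndex U := Nat.pos_of_ne_zero (ML.GMod.ri_ne _ _)
  have h6 : (centralizer (F₀ : Set G)).relIndex W * (centralizer (F : Set G)).relIndex U ≤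
      (centralizer (W : Set G)).relIndex F₀ * (centralizer (F : Set G)).relIndex U := by
    calc (centralizer (F₀ : Set G)).relIndex W * (centralizer (F : Set G)).relIndex U
        ≤ (centralizer (F : Set G)).relIndex (centralizer (F₀ : Set G) ⊓ W) *
          (centralizer (F₀ : Set G)).relIndex W := by
          rw [mul_comm]
          exact Nat.mul_le_mul_right _ h4
      _ = (centralizer (W : Set G)).relIndex F₀ * (centralizer (U : Set G)).relIndex F := by rw [h3, ← he, h1]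
      _ ≤ _ := Nat.mul_le_mul_left _ hno
  exact Nat.le_of_mul_le_mul_right h6 h5

/-- `⟨Z^L⟩` in the two notations -/
theorem zl_eq (S L : Subgroup G) : NoFF.Basic.V (zc S) L = zl S L := by
  apply le_antisymm
  · refine V_le fun g hg => ?_
    have h1 : cj g (zl S L) = zl S L := cj_eq_of_mem_normalizer (le_normalizer_zl S L hg)
    calc MulAut.conj g • zc S = cj g (zc S) := rfl
      _ ≤ cj g (zl S L) := cj_mono g (zc_le_zl S L)
      _ = _ := h1
  · exact iSup_le fun g => Z_le_V g.2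

variable {S : Sylow 2 G} {L E Z₀ B V Z₁ R₁ : Subgroup G}

/-- **(alpha) is impossible.** -/
theorem _root_.Cfsg.Agent.Omega.NOThreeL.RZ.TwoC.Ab.alpha (h : Ab S L E Z₀ B V Z₁ R₁) (hM : MLK.{u, u})
    (hX : ML.Ex.Two.Ext.{u, u}) (RV : R₁ ≤ V)
    (nR : normalizer ((S : Subgroup G) : Set G) ≤ normalizer (R₁ : Set G))
    (cR : R₁ ⊓ centralizer ((S : Subgroup G) : Set G) ≤ Z₁) (hE : E ≤ centralizer (R₁ : Set G) ⊔ (S : Subgroup G))
    {A : Subgroup G}
    (hA : A ∈ AA (o2 (CZ (S : Subgroup G)) ⊓ centralizer (zl (S : Subgroup G) (K1 (S : Subgroup G) L) : Set G)))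
    (hm : ¬ A ⊓ centralizer (hul V (centralizer (R₁ : Set G)) : Set G) ≤
      centralizer (hul V (K2 (S : Subgroup G) Z₁) : Set G))
    (he : (centralizer (hul V (K2 (S : Subgroup G) Z₁) : Set G)).relIndex
        (A ⊓ centralizer (hul V (centralizer (R₁ : Set G)) : Set G) : Subgroup G) =
      (centralizer ((A ⊓ centralizer (hul V (centralizer (R₁ : Set G)) : Set G) : Subgroup G) : Set G)).relIndex
        (hul V (K2 (S : Subgroup G) Z₁))) : False := by
  set F : Subgroup G := A ⊓ centralizer (hul V (centralizer (R₁ : Set G)) : Set G) with hF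
  set W : Subgroup G := hul V (K2 (S : Subgroup G) Z₁) with hW
  set H : Subgroup G := centralizer (Z₁ : Set G) with hH
  have l2 := h.locK2
  have hSH : (S : Subgroup G) ≤ H := (le_CZ S).trans (centralizer_le h.Z1_le)
  have hHK : H ≤ K2 (S : Subgroup G) Z₁ := le_sup_left
  have lH : IsLoc (S : Subgroup G) H :=
    isLoc_of_le_normalizer S hSH (S.isPGroup'.to_le (h.Z1_le.trans (zc_le _))) h.ne1 (centralizer_le_normalizer _)
  have hAO : A ≤ o2 (CZ (S : Subgroup G)) := hA.2.1.trans inf_le_left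
  have hFA : F ≤ A := inf_le_left
  have hFO : F ≤ o2 (CZ (S : Subgroup G)) := hFA.trans hAO
  have hFS : F ≤ (S : Subgroup G) := hFO.trans o2C_le
  have helF : IsElementaryAbelian 2 F := eab_mono hA.1 hFA
  have hnn := nn_hul hM h.ctx l2 (h.kg l2) h.nn h.low
  have hnW : K2 (S : Subgroup G) Z₁ ≤ normalizer (W : Set G) := le_normalizer_hul _ _
  have hZW : zc (S : Subgroup G) ≤ W := h.ZV.trans (le_hul _ _)
  have hUW : zl (S : Subgroup G) H ≤ W := zl_le hZW (hHK.trans hnW)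
  have hgml : ∀ B : Subgroup G, B ≤ F → (centralizer (zl (S : Subgroup G) H : Set G)).relIndex B ≤
      (centralizer (B : Set G)).relIndex (zl (S : Subgroup G) H) := fun B hB =>
    gml hM h.ctx lH (h.kg lH) (hB.trans hFO) (eab_iff.1 (eab_mono helF hB)).2
  -- `O ∩ C(⟨Z^H⟩) ≤ O₂(K₂)`
  have hnU : K2 (S : Subgroup G) Z₁ ≤ normalizer (zl (S : Subgroup G) H : Set G) := by
    have e : zl (S : Subgroup G) H = hul (zc (S : Subgroup G)) H :=
      le_antisymm (zl_le (le_hul _ _) (le_normalizer_hul _ _)) (hul_le_of (zc_le_zl _ _) (le_normalizer_zl _ _))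
    rw [e]
    refine sup_le (le_normalizer_hul _ _) ?_
    exact norm_hul (normalizer_le_normalizer_zc _) (h.n1.trans (nc _))
  have hker : F ⊓ centralizer (zl (S : Subgroup G) H : Set G) ≤ centralizer (W : Set G) := by
    refine ker_of_exact hnn hUW helF ?_ he (hgml F le_rfl)
    exact (inf_le_inf_right _ hFO).trans (inf_cent_le l2.le (zc_le_zl _ _) hnU)
  have hmv : ¬ F ≤ centralizer (zl (S : Subgroup G) H : Set G) := fun hc => hm ((le_inf le_rfl hc).trans hker)
  have hRH : centralizer (R₁ : Set G) ≤ H := centralizer_le h.ZR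
  have hEH : E ≤ H := h.EZ.trans (centralizer_le h.le1)
  refine (GInX.false_of hM hX (C := H) (T := (S : Subgroup G)) (A := F) (M := W) (D := K1 (S : Subgroup G) L)
    (Z := zc (S : Subgroup G)) (Y := R₁) ?_)
  rw [← zl_eq] at hmv hker hgml
  exact
  { CM := hHK.trans hnW
    sqM := hnn.sq
    TC := hSH
    two := S.isPGroup'
    syl := not_dvd_relIndex S hSH
    ZM := hZW
    TZ := le_centralizer_zc _
    YM := RV.trans (le_hul _ _)
    NY := inf_le_right.trans nR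
    cY := centralizer_le cR
    ND := inf_le_right.trans le_sup_right
    AD := by
      refine le_trans (le_inf ((le_inf hFO ?_).trans h.le_o2K1) (le_inf (hFS.trans hSH) (hFS.trans h.S_le_K1))) ?_
      · exact hFA.trans (hA.2.1.trans inf_le_right)
      · rw [inf_comm]
        refine le_o2 inf_le_left ((o2_isPGroup _).to_le inf_le_right) ?_
        exact le_trans (le_inf Subgroup.le_normalizer (inf_le_right.trans (le_normalizer_o2 _)))
          inf_normalizer_le_normalizer_inf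
    par := by
      intro P hP0 hPH
      have hP := lH.isPar S hP0 hPH
      by_cases hz : P ≤ normalizer (zc (S : Subgroup G) : Set G)
      · have h1 := Nz.le_centralizer_of hP hz
        exact Or.inr ⟨h1.trans h.C_le_K1, Or.inl h1⟩
      rcases h.dich P ⟨hP, hz⟩ with h1 | h1
      · exact Or.inr ⟨h1.trans h.L_le_K1, Or.inr (h1.trans h.LR)⟩
      · refine Or.inl ⟨fun hc => hz (hc.trans (centralizer_le_normalizer _)), fun g hg hgo => ?_⟩
        -- odd elements of `C(R₁) S`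
        have h2 : g ∈ centralizer (R₁ : Set G) ⊔ (S : Subgroup G) := hE (h1 hg)
        set X : Subgroup G := centralizer (R₁ : Set G) ⊔ (S : Subgroup G) with hXd
        have hSR : X ≤ normalizer (centralizer (R₁ : Set G) : Set G) :=
          sup_le Subgroup.le_normalizer ((Subgroup.le_normalizer.trans nR).trans (nc _))
        have h3 : ((centralizer (R₁ : Set G)).subgroupOf X).Normal := normal_subgroupOf_of_le_normalizer hSR
        have h4 : (centralizer (R₁ : Set G)).subgroupOf X ⊔ (S : Subgroup G).subgroupOf X = ⊤ := by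
          rw [← subgroupOf_sup le_sup_left le_sup_right, subgroupOf_self]
        have h5 := KL.Star.Core.mem_of_odd (K := (centralizer (R₁ : Set G)).subgroupOf X)
          (T := (S : Subgroup G).subgroupOf X) S.isPGroup'.comap_subtype h4 (g := ⟨g, h2⟩) (by rwa [orderOf_mk])
        exact h5
    low := by
      have e : H ⊓ centralizer (R₁ : Set G) = centralizer (R₁ : Set G) := inf_eq_right.2 hRH
      rw [e]
      exact (le_inf hFO inf_le_right).trans h.le_o2R
    AT := hFS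
    sqA := (eab_iff.1 helF).2
    mv := hmv
    ker := hker
    le := by
      have h1 := relIndex_inf_mul_relIndex (centralizer (W : Set G))
        (centralizer (NoFF.Basic.V (zc (S : Subgroup G)) H : Set G)) F
      have h2 : centralizer (W : Set G) ≤ centralizer (NoFF.Basic.V (zc (S : Subgroup G)) H : Set G) := by
        rw [zl_eq]
        exact centralizer_le hUW
      rw [inf_eq_left.2 h2, inf_comm] at h1
      have h3 : (centralizer (W : Set G)).relIndex
          (F ⊓ centralizer (NoFF.Basic.V (zc (S : Subgroup G)) H : Set G) : Subgroup G) = 1 := relIndex_eq_one.2 hker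
      rw [h3, one_mul] at h1
      rw [h1]
      exact he.ge
    no := hgml
    K := h.kg lH }

end Cfsg.Agent.Omega.NOThreeL.RZ.TwoC.Alpha

end

section


/-!
# [R-z] (helper133 #25243, helper855 #24885): the minimal parabolics over the frame `FrP`

* `FrP.alt` : `P ∈ P*(S)`: `C_S(R) ≤ O₂(P)` or `P = C_P(R) S`;
* `FrP.le_o2_one` : `F ≤ O`, `F ≤ C(R)`, `F ≤ O₂(K₂)` imply `F ≤ O₂(P)` for all `P ∈ P(S)` (side 1);
* `FrP.le_o2_two` : `F ≤ O`, `F ≤ O₂(C_G(R))` imply `F ≤ O₂(P)` for all `P ∈ P(S)` (side 2);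
* `FrP.fixR`, `fixV` : `C_R(S) = R ∩ Z`, `C_{V*}(S) ≤ Z`;  `FrP.nJ` : `P ≤ N(C_S(R))` if `C_S(R) ≤ O₂(P)`;
* `FrE.sep` : `g ∈ N(R) ∩ N(B)` which centralises `z y`, `z ∈ R`, `y ∈ B`, centralises `z` and `y`.
-/

set_option autoImplicit false
set_option linter.unusedSectionVars false

namespace Cfsg.Agent.Omega.NOThreeL.RZ.TwoC

open Subgroup Cfsg
open Cfsg.Agent.ZN (o2 zc zl jj)
open Cfsg.Agent.ZN.ChoiceBase hiding mem_zc
open Cfsg.Agent.Omega.ML.GMod (nc normalizer_le_normalizer_o2)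
open Cfsg.Agent.Omega.MinPar Cfsg.Agent.Omega.Frame Cfsg.Agent.Omega.FrameNOFF
open Cfsg.Agent.Omega.NOThreeL.Star (YS le_YS S_le_YS)
open Cfsg.Agent.Omega.NoFF.Basic (comm_symm)
open Cfsg.Agent.MinSimple.VModule (zc_le_zl le_normalizer_zl zl_le zc_le zc_sq zc_comm mem_zc le_centralizer_zc
  le_normalizer_o2 o2_isPGroup o2_le le_o2 normalizer_le_normalizer_zc)

universe u

variable {G : Type u} [Group G]

namespace FrP

variable [Finite G] {S : Sylow 2 G} {R B : Subgroup G} {e : G} (h : FrP S R B e)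
include h

/-- `P ∈ P*(S)`: `C_S(R) ≤ O₂(P)` or `P = C_P(R) S` -/
theorem alt {P : Subgroup G} (hP : IsParS (S : Subgroup G) P) :
    (S : Subgroup G) ⊓ centralizer (R : Set G) ≤ o2 P ∨ (P ⊓ centralizer (R : Set G)) ⊔ (S : Subgroup G) = P := by
  have hPR : P ≤ normalizer (R : Set G) := (le_YS hP).trans h.nR
  have hn : P ≤ normalizer ((P ⊓ centralizer (R : Set G) : Subgroup G) : Set G) := by
    intro p hp
    rw [mem_normalizer_iff_cj, cj_inf, cj_centralizer, cj_eq_of_mem_normalizer (le_normalizer hp),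
      cj_eq_of_mem_normalizer (hPR hp)]
  rcases hP.toIsPar.sup_eq_or_inf_le S inf_le_left hn with h1 | h1
  · exact Or.inr h1
  · exact Or.inl ((le_inf inf_le_left (le_inf (inf_le_left.trans hP.le) inf_le_right)).trans h1)

/-- then `P ≤ K₂` -/
theorem le_K2 {P : Subgroup G} (h1 : (P ⊓ centralizer (R : Set G)) ⊔ (S : Subgroup G) = P) :
    P ≤ centralizer ((R ⊓ zc (S : Subgroup G) : Subgroup G) : Set G) := by
  rw [← h1]
  exact sup_le (inf_le_right.trans h.RK) ((le_CZ S).trans h.C2)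

theorem o2C_le_o2 {P : Subgroup G} (hS : (S : Subgroup G) ≤ P) (hP : P ≤ CZ (S : Subgroup G)) :
    o2 (CZ (S : Subgroup G)) ≤ o2 P := o2_le_o2 S hS hP

/-- **side 1**: `F ≤ O₂(P)` for all `P ∈ P(S)` -/
theorem le_o2_one {F : Subgroup G} (hFO : F ≤ o2 (CZ (S : Subgroup G))) (hFR : F ≤ centralizer (R : Set G))
    (hF2 : F ≤ o2 (centralizer ((R ⊓ zc (S : Subgroup G) : Subgroup G) : Set G))) {P : Subgroup G}
    (hP : IsPar (S : Subgroup G) P) : F ≤ o2 P := by
  rcases h.le_of_par hP with h1 | ⟨h1, _⟩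
  · exact hFO.trans (h.o2C_le_o2 hP.le h1)
  · rcases h.alt h1 with h2 | h2
    · exact (le_inf (hFO.trans Loc.o2C_le) hFR).trans h2
    · exact hF2.trans (o2_le_o2 S hP.le (h.le_K2 h2))

theorem nQR : (S : Subgroup G) ≤ normalizer (o2 (centralizer (R : Set G)) : Set G) :=
  ((h.S_le_ys.trans h.nR).trans (nc _)).trans (normalizer_le_normalizer_o2 _)

theorem QR_le : o2 (centralizer (R : Set G)) ≤ (S : Subgroup G) :=
  le_of_le_normalizer S (o2_isPGroup _) h.nQR

/-- **side 2**: `F ≤ O₂(P)` for all `P ∈ P(S)` -/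
theorem le_o2_two {F : Subgroup G} (hFO : F ≤ o2 (CZ (S : Subgroup G)))
    (hFQ : F ≤ o2 (centralizer (R : Set G))) {P : Subgroup G}
    (hP : IsPar (S : Subgroup G) P) : F ≤ o2 P := by
  rcases h.le_of_par hP with h1 | ⟨h1, _⟩
  · exact hFO.trans (h.o2C_le_o2 hP.le h1)
  · rcases h.alt h1 with h2 | h2
    · exact (le_inf (hFO.trans Loc.o2C_le) (hFQ.trans (o2_le _))).trans h2
    · refine hFQ.trans (le_o2 (h.QR_le.trans hP.le) (o2_isPGroup _) ?_)
      rw [← h2]
      exact sup_le (inf_le_right.trans (le_normalizer_o2 _)) h.nQR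

/-- `P ∈ P*(S)` with `C_S(R) ≤ O₂(P)` normalises `C_S(R)` -/
theorem nJ {P : Subgroup G} (hP : IsParS (S : Subgroup G) P)
    (h1 : (S : Subgroup G) ⊓ centralizer (R : Set G) ≤ o2 P) :
    P ≤ normalizer (((S : Subgroup G) ⊓ centralizer (R : Set G) : Subgroup G) : Set G) := by
  have e : (S : Subgroup G) ⊓ centralizer (R : Set G) = o2 P ⊓ centralizer (R : Set G) :=
    le_antisymm (le_inf h1 inf_le_right) (inf_le_inf_right _ (hP.isLoc.o2_le S))
  rw [e]
  intro p hp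
  rw [mem_normalizer_iff_cj, cj_inf, cj_centralizer, cj_eq_of_mem_normalizer (le_normalizer_o2 P hp),
    cj_eq_of_mem_normalizer (h.nR (le_YS hP hp))]

/-- `C_{V*}(S) ≤ Z` -/
theorem fixV {v : G} (hv : v ∈ zl (S : Subgroup G) (YS S)) (hs : ∀ s ∈ (S : Subgroup G), s * v = v * s) :
    v ∈ zc (S : Subgroup G) := mem_zc.2 ⟨h.vS hv, hs, h.vs v hv⟩

/-- `C_R(S) = R ∩ Z` -/
theorem fixR {v : G} (hv : v ∈ R) (hs : ∀ s ∈ (S : Subgroup G), s * v = v * s) :
    v ∈ R ⊓ zc (S : Subgroup G) := ⟨hv, h.fixV (h.RV hv) hs⟩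

end FrP

/-- **`g ∈ N(R) ∩ N(B)` which centralises `z y` centralises `z` and `y`** -/
theorem FrE.sep [Finite G] {S : Sylow 2 G} {R B : Subgroup G} {e : G} (h : FrE S R B e) {g z y : G}
    (hgR : g ∈ normalizer (R : Set G)) (hgB : g ∈ normalizer (B : Set G)) (hz : z ∈ R) (hy : y ∈ B)
    (hc : g * (z * y) = z * y * g) : g * z = z * g ∧ g * y = y * g := by
  have h1 : g * z * g⁻¹ ∈ R := (mem_normalizer_iff.1 hgR z).1 hz
  have h2 : g * y * g⁻¹ ∈ B := (mem_normalizer_iff.1 hgB y).1 hy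
  have e1 : z⁻¹ * (g * z * g⁻¹) = y * (g * y * g⁻¹)⁻¹ := by
    have e2 : g * z * g⁻¹ * (g * y * g⁻¹) = z * y := by
      calc g * z * g⁻¹ * (g * y * g⁻¹) = g * (z * y) * g⁻¹ := by group
        _ = z * y * g * g⁻¹ := by rw [hc]
        _ = z * y := by group
    calc z⁻¹ * (g * z * g⁻¹) = z⁻¹ * (g * z * g⁻¹ * (g * y * g⁻¹)) * (g * y * g⁻¹)⁻¹ := by group
      _ = z⁻¹ * (z * y) * (g * y * g⁻¹)⁻¹ := by rw [e2]
      _ = y * (g * y * g⁻¹)⁻¹ := by group
  have h3 : z⁻¹ * (g * z * g⁻¹) ∈ B ⊓ R :=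
    ⟨by rw [e1]; exact B.mul_mem hy (B.inv_mem h2), R.mul_mem (R.inv_mem hz) h1⟩
  rw [h.spl, mem_bot] at h3
  have h4 : g * z * g⁻¹ = z := (inv_mul_eq_one.1 h3).symm
  have h5 : g * y * g⁻¹ = y := by
    rw [h3] at e1
    exact (mul_inv_eq_one.1 e1.symm).symm
  exact ⟨mul_inv_eq_iff_eq_mul.1 h4, mul_inv_eq_iff_eq_mul.1 h5⟩

end Cfsg.Agent.Omega.NOThreeL.RZ.TwoC

end

section


/-!
# The two sides over a frame with a variable `X ≤ Z ∩ R` (THEOREM REL: helper849 #25853, helper863 #25809)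

`FrX S R B X e` : helper652's `FrP` with `R ∩ Z` replaced by a subgroup `1 ≠ X ≤ Z ∩ R` and `hA` only for `A ≤ O₂(K₂)`,
`K₂ = C_G(X)` (e.g. `X = Z ∩ R`, or `X = ⟨z₀⟩`); `K₁ = C_G(e)`.

* **`FrX.main`** : (alpha) or (beta), as in `TwoC/AbP.lean`;
* `FrP.toX` : `X = R ∩ Z`;
* `FrX.alt`, `le_o2_one`, `le_o2_two`, `nJ`, `fixV`, `fixR` : as in `TwoC/ParP.lean`;  `FrX.sep` if `B ∩ R = 1`.
-/

set_option autoImplicit false
set_option linter.unusedSectionVars false

namespace Cfsg.Agent.Omega.NOThreeL.RZ.TwoC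

open Subgroup Cfsg
open Cfsg.Agent.ZN (o2 zc zl jj)
open Cfsg.Agent.ZN.ChoiceBase hiding mem_zc
open Cfsg.Agent.Omega.ML.Final (MLK)
open Cfsg.Agent.Omega.ML.GMod (hul hul_le hul_le_of le_hul cj_le_hul le_normalizer_hul nc ri_mono
  normalizer_le_normalizer_o2)
open Cfsg.Agent.Omega.MinPar Cfsg.Agent.Omega.Frame Cfsg.Agent.Omega.FrameNOFF
open Cfsg.Agent.Omega.NO3b.Bang (le_normalizer_sup cent_symm)
open Cfsg.Agent.Omega.NOThreeL.Star (YS le_YS S_le_YS zl_mono)
open Cfsg.Agent.Omega.NO3S.EThree.ExactA (eab_iff eab_mono)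
open Cfsg.Agent.Omega.EK3.Rank (NoOn)
open Cfsg.Agent.Omega.NoFF.Basic (comm_symm)
open Cfsg.Agent.Omega.GI (relIndex_congr relIndex_sup_of_comm)
open Cfsg.Agent.MinSimple.VModule (zc_le_zl le_normalizer_zl zl_le zc_le zc_sq zc_comm mem_zc le_centralizer_zc
  le_normalizer_o2 o2_isPGroup o2_le le_o2 normalizer_le_normalizer_zc)
open Cfsg.Agent.Omega.NOThreeL.RZ.TwoC.Loc (gml o2C_le inf_cent_le norm_inf)
open Cfsg.Agent.Omega.NOThreeL.RZ.TwoC.SideP (NoA TwoP)

universe u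

variable {G : Type u} [Group G]

/-- **The frame with a variable `X`.** -/
structure FrX [Finite G] (S : Sylow 2 G) (R B X : Subgroup G) (e : G) : Prop where
  ctx : Ctx G
  full : Full (S : Subgroup G)
  nR : YS (S : Subgroup G) ≤ normalizer (R : Set G)
  nB : YS (S : Subgroup G) ≤ normalizer (B : Set G)
  sE : centralizer ({e} : Set G) ⊓ normalizer ((S : Subgroup G) : Set G) ≤ normalizer (R : Set G) ⊓ normalizer (B : Set G)
  sZ : centralizer (X : Set G) ⊓ normalizer ((S : Subgroup G) : Set G) ≤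
    normalizer (R : Set G) ⊓ normalizer (B : Set G)
  RV : R ≤ zl (S : Subgroup G) (YS S)
  BV : B ≤ zl (S : Subgroup G) (YS S)
  XR : X ≤ R
  XZ : X ≤ zc (S : Subgroup G)
  X1 : X ≠ ⊥
  hA : ∀ A ∈ AA (o2 (CZ (S : Subgroup G))), A ≤ o2 (centralizer (X : Set G)) → A ≤ centralizer (R : Set G)
  low : zl (S : Subgroup G) (YS S) ≤ o2 (CZ (S : Subgroup G))
  vc : zl (S : Subgroup G) (YS S) ≤ centralizer (zl (S : Subgroup G) (YS S) : Set G)
  vs : ∀ v ∈ zl (S : Subgroup G) (YS S), v ^ 2 = 1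
  eZ : e ∈ zc (S : Subgroup G)
  eB : e ∈ B
  e1 : e ≠ 1
  tr : YS (S : Subgroup G) ≤ (YS (S : Subgroup G) ⊓ centralizer (R : Set G)) ⊔
    (YS (S : Subgroup G) ⊓ centralizer ({e} : Set G))

/-- `X = R ∩ Z` -/
theorem FrP.toX [Finite G] {S : Sylow 2 G} {R B : Subgroup G} {e : G} (h : FrP S R B e) :
    FrX S R B (R ⊓ zc (S : Subgroup G)) e :=
  { ctx := h.ctx, full := h.full, nR := h.nR, nB := h.nB, sE := h.sE, sZ := h.sZ, RV := h.RV, BV := h.BV
    XR := inf_le_left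
    XZ := inf_le_right
    X1 := h.ne
    hA := fun A hA _ => h.hA A hA
    low := h.low, vc := h.vc, vs := h.vs, eZ := h.eZ, eB := h.eB, e1 := h.e1, tr := h.tr }

namespace FrX

variable [Finite G] {S : Sylow 2 G} {R B X : Subgroup G} {e : G} (h : FrX S R B X e)
include h

theorem S_le_ys : (S : Subgroup G) ≤ YS (S : Subgroup G) := S_le_YS h.ctx h.full

theorem vel : IsElementaryAbelian 2 (zl (S : Subgroup G) (YS S)) := eab_iff.2 ⟨h.vc, h.vs⟩

theorem vS : zl (S : Subgroup G) (YS S) ≤ (S : Subgroup G) := h.low.trans o2C_le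

theorem R2 : IsPGroup 2 R := S.isPGroup'.to_le (h.RV.trans h.vS)

theorem R1 : R ≠ ⊥ := fun e => h.X1 (le_bot_iff.1 (e ▸ h.XR))

theorem zc_ne : zc (S : Subgroup G) ≠ ⊥ := MinSimple.Basic.zc_ne_bot S.isPGroup' (h.ctx.sylow_ne_bot S)

theorem kg {L : Subgroup G} (hL : IsLoc (S : Subgroup G) L) : IsKGroup L :=
  ML.GNN.kgroup_of_isLoc h.ctx h.ctx.not_isPGroup hL

/-! ### `K₁`, `K₂` -/

theorem C1 : CZ (S : Subgroup G) ≤ centralizer ({e} : Set G) := centralizer_le (Set.singleton_subset_iff.2 h.eZ)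

theorem C2 : CZ (S : Subgroup G) ≤ centralizer (X : Set G) := centralizer_le h.XZ

theorem lK1 : IsLoc (S : Subgroup G) (centralizer ({e} : Set G)) := RZ.LowR.isLoc_cent h.eZ h.e1

theorem lK2 : IsLoc (S : Subgroup G) (centralizer (X : Set G)) :=
  isLoc_of_le_normalizer S ((le_CZ S).trans h.C2) (h.R2.to_le h.XR) h.X1 (centralizer_le_normalizer _)

theorem RK : centralizer (R : Set G) ≤ centralizer (X : Set G) := centralizer_le h.XR

/-- `Y C_G(R)` is local -/
theorem lX : IsLoc (S : Subgroup G) (YS (S : Subgroup G) ⊔ centralizer (R : Set G)) :=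
  isLoc_of_le_normalizer S (h.S_le_ys.trans le_sup_left) h.R2 h.R1 (sup_le h.nR (centralizer_le_normalizer _))

/-- **`⟨K₁, C_Y(R)⟩` is nonlocal** -/
theorem nl {U : Subgroup G} (hU : IsPGroup 2 U) (h1 : centralizer ({e} : Set G) ≤ normalizer (U : Set G))
    (h2 : YS (S : Subgroup G) ⊓ centralizer (R : Set G) ≤ normalizer (U : Set G)) : U = ⊥ := by
  refine eq_bot_of_norm h.ctx S h.full hU (fun P hP => ?_) (h.C1.trans h1)
  exact (le_YS hP).trans (h.tr.trans (sup_le h2 (inf_le_right.trans h1)))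

/-- `⟨K₁, K₂⟩` is nonlocal -/
theorem nonLoc : NonLoc (centralizer ({e} : Set G)) (centralizer (X : Set G)) :=
  fun _ hU h1 h2 => h.nl hU h1 ((inf_le_right.trans h.RK).trans h2)

/-- `P ∈ P(S)`, `P ≤ K` is in `C` or in `Y` -/
theorem le_of_par {P : Subgroup G} (hP : IsPar (S : Subgroup G) P) : P ≤ CZ (S : Subgroup G) ∨
    (IsParS (S : Subgroup G) P ∧ P ≤ YS (S : Subgroup G)) := by
  by_cases hz : P ≤ normalizer (zc (S : Subgroup G) : Set G)
  · exact Or.inl (Nz.le_centralizer_of hP hz)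
  · exact Or.inr ⟨⟨hP, hz⟩, le_YS ⟨hP, hz⟩⟩

/-! ### `V* ≤ A` -/

/-- **`O₂(C_G(R))` centralises `V*`** -/
theorem QR_cent : o2 (centralizer (R : Set G)) ≤ centralizer (zl (S : Subgroup G) (YS S) : Set G) := by
  have hn : YS (S : Subgroup G) ≤ normalizer (o2 (centralizer (R : Set G)) : Set G) :=
    (h.nR.trans (nc _)).trans (normalizer_le_normalizer_o2 _)
  have hS : o2 (centralizer (R : Set G)) ≤ (S : Subgroup G) :=
    le_of_le_normalizer S (o2_isPGroup _) (h.S_le_ys.trans hn)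
  refine comm_symm (zl_le (comm_symm (hS.trans (le_CZ S))) ?_)
  exact hn.trans (nc _)

/-- `O₂(K) ∩ C_G(R) ≤ O₂(C_G(R))` for `K ≥ C_G(R)` -/
theorem inf_le_QR {K : Subgroup G} (hK : centralizer (R : Set G) ≤ K) :
    o2 K ⊓ centralizer (R : Set G) ≤ o2 (centralizer (R : Set G)) :=
  le_o2 inf_le_right ((o2_isPGroup _).to_le inf_le_left)
    (le_trans (le_inf (hK.trans (le_normalizer_o2 _)) Subgroup.le_normalizer) inf_normalizer_le_normalizer_inf)

theorem inf_le_QB {K : Subgroup G} (hK : centralizer (B : Set G) ≤ K) :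
    o2 K ⊓ centralizer (B : Set G) ≤ o2 (centralizer (B : Set G)) :=
  le_o2 inf_le_right ((o2_isPGroup _).to_le inf_le_left)
    (le_trans (le_inf (hK.trans (le_normalizer_o2 _)) Subgroup.le_normalizer) inf_normalizer_le_normalizer_inf)

theorem BK : centralizer (B : Set G) ≤ centralizer ({e} : Set G) :=
  centralizer_le (Set.singleton_subset_iff.2 h.eB)

/-- `NR = ⟨Z^{Y C_G(R)}⟩ ≤ W₂` -/
theorem NR_le : zl (S : Subgroup G) (YS (S : Subgroup G) ⊔ centralizer (R : Set G)) ≤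
    hul (zl (S : Subgroup G) (YS S)) (centralizer (X : Set G)) := by
  refine le_trans (zl_le ((zc_le_zl _ _).trans (le_hul (zl (S : Subgroup G) (YS S)) (centralizer (R : Set G)))) ?_)
    (hul_mono h.RK)
  exact sup_le (norm_hul (le_normalizer_zl _ _) (h.nR.trans (nc _))) (le_normalizer_hul _ _)

/-! ### the minimal parabolics -/

/-- `P ∈ P*(S)`: `C_S(R) ≤ O₂(P)` or `P = C_P(R) S` -/
theorem alt {P : Subgroup G} (hP : IsParS (S : Subgroup G) P) :
    (S : Subgroup G) ⊓ centralizer (R : Set G) ≤ o2 P ∨ (P ⊓ centralizer (R : Set G)) ⊔ (S : Subgroup G) = P := by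
  have hPR : P ≤ normalizer (R : Set G) := (le_YS hP).trans h.nR
  have hn : P ≤ normalizer ((P ⊓ centralizer (R : Set G) : Subgroup G) : Set G) := by
    intro p hp
    rw [mem_normalizer_iff_cj, cj_inf, cj_centralizer, cj_eq_of_mem_normalizer (le_normalizer hp),
      cj_eq_of_mem_normalizer (hPR hp)]
  rcases hP.toIsPar.sup_eq_or_inf_le S inf_le_left hn with h1 | h1
  · exact Or.inr h1
  · exact Or.inl ((le_inf inf_le_left (le_inf (inf_le_left.trans hP.le) inf_le_right)).trans h1)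

/-- then `P ≤ K₂` -/
theorem le_K2 {P : Subgroup G} (h1 : (P ⊓ centralizer (R : Set G)) ⊔ (S : Subgroup G) = P) :
    P ≤ centralizer (X : Set G) := by
  rw [← h1]
  exact sup_le (inf_le_right.trans h.RK) ((le_CZ S).trans h.C2)

theorem o2C_le_o2 {P : Subgroup G} (hS : (S : Subgroup G) ≤ P) (hP : P ≤ CZ (S : Subgroup G)) :
    o2 (CZ (S : Subgroup G)) ≤ o2 P := o2_le_o2 S hS hP

/-- **side 1**: `F ≤ O₂(P)` for all `P ∈ P(S)` -/
theorem le_o2_one {F : Subgroup G} (hFO : F ≤ o2 (CZ (S : Subgroup G))) (hFR : F ≤ centralizer (R : Set G))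
    (hF2 : F ≤ o2 (centralizer (X : Set G))) {P : Subgroup G}
    (hP : IsPar (S : Subgroup G) P) : F ≤ o2 P := by
  rcases h.le_of_par hP with h1 | ⟨h1, _⟩
  · exact hFO.trans (h.o2C_le_o2 hP.le h1)
  · rcases h.alt h1 with h2 | h2
    · exact (le_inf (hFO.trans Loc.o2C_le) hFR).trans h2
    · exact hF2.trans (o2_le_o2 S hP.le (h.le_K2 h2))

theorem nQR : (S : Subgroup G) ≤ normalizer (o2 (centralizer (R : Set G)) : Set G) :=
  ((h.S_le_ys.trans h.nR).trans (nc _)).trans (normalizer_le_normalizer_o2 _)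

theorem QR_le : o2 (centralizer (R : Set G)) ≤ (S : Subgroup G) :=
  le_of_le_normalizer S (o2_isPGroup _) h.nQR

/-- **side 2**: `F ≤ O₂(P)` for all `P ∈ P(S)` -/
theorem le_o2_two {F : Subgroup G} (hFO : F ≤ o2 (CZ (S : Subgroup G)))
    (hFQ : F ≤ o2 (centralizer (R : Set G))) {P : Subgroup G}
    (hP : IsPar (S : Subgroup G) P) : F ≤ o2 P := by
  rcases h.le_of_par hP with h1 | ⟨h1, _⟩
  · exact hFO.trans (h.o2C_le_o2 hP.le h1)
  · rcases h.alt h1 with h2 | h2
    · exact (le_inf (hFO.trans Loc.o2C_le) (hFQ.trans (o2_le _))).trans h2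
    · refine hFQ.trans (le_o2 (h.QR_le.trans hP.le) (o2_isPGroup _) ?_)
      rw [← h2]
      exact sup_le (inf_le_right.trans (le_normalizer_o2 _)) h.nQR

/-- `P ∈ P*(S)` with `C_S(R) ≤ O₂(P)` normalises `C_S(R)` -/
theorem nJ {P : Subgroup G} (hP : IsParS (S : Subgroup G) P)
    (h1 : (S : Subgroup G) ⊓ centralizer (R : Set G) ≤ o2 P) :
    P ≤ normalizer (((S : Subgroup G) ⊓ centralizer (R : Set G) : Subgroup G) : Set G) := by
  have e : (S : Subgroup G) ⊓ centralizer (R : Set G) = o2 P ⊓ centralizer (R : Set G) :=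
    le_antisymm (le_inf h1 inf_le_right) (inf_le_inf_right _ (hP.isLoc.o2_le S))
  rw [e]
  intro p hp
  rw [mem_normalizer_iff_cj, cj_inf, cj_centralizer, cj_eq_of_mem_normalizer (le_normalizer_o2 P hp),
    cj_eq_of_mem_normalizer (h.nR (le_YS hP hp))]

/-- `C_{V*}(S) ≤ Z` -/
theorem fixV {v : G} (hv : v ∈ zl (S : Subgroup G) (YS S)) (hs : ∀ s ∈ (S : Subgroup G), s * v = v * s) :
    v ∈ zc (S : Subgroup G) := mem_zc.2 ⟨h.vS hv, hs, h.vs v hv⟩

/-- `C_R(S) = R ∩ Z` -/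
theorem fixR {v : G} (hv : v ∈ R) (hs : ∀ s ∈ (S : Subgroup G), s * v = v * s) :
    v ∈ R ⊓ zc (S : Subgroup G) := ⟨hv, h.fixV (h.RV hv) hs⟩

variable (hM : MLK.{u, u})
include hM

/-- every `A ∈ AA(C_O(⟨Z^{K₂}⟩))` centralises `V*` -/
theorem cent_V {A : Subgroup G} (hA : A ∈ AA (o2 (CZ (S : Subgroup G)) ⊓
    centralizer (zl (S : Subgroup G) (centralizer (X : Set G)) : Set G))) :
    A ≤ centralizer (zl (S : Subgroup G) (YS S) : Set G) := by
  have hU := h.lK2.zl_le S h.ctx.char2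
  have hO2 : o2 (centralizer (X : Set G)) ≤ o2 (CZ (S : Subgroup G)) :=
    o2_le_o2 S (le_CZ S) h.C2
  have hel : IsElementaryAbelian 2 (zl (S : Subgroup G) (centralizer (X : Set G))) :=
    eab_iff.2 ⟨fun x hx => mem_centralizer_iff.2 fun y hy => zc_comm _ _ (hU hy) _ (hU hx), fun x hx => zc_sq _ _ (hU hx)⟩
  have h1 : A ∈ AA (o2 (CZ (S : Subgroup G))) :=
    EK3.Rank.mem_AA_of_inf hel ((hU.trans (zc_le _)).trans hO2)
      (fun A' hel' hA' => gml hM h.ctx h.lK2 (h.kg h.lK2) hA' (eab_iff.1 hel').2) hA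
  have h2 : A ≤ o2 (centralizer (X : Set G)) :=
    hA.2.1.trans (inf_cent_le h.lK2.le (zc_le_zl _ _) (le_normalizer_zl _ _))
  exact ((le_inf h2 (h.hA A h1 h2)).trans (h.inf_le_QR h.RK)).trans h.QR_cent

/-- `W₂`: contained in every `A ∈ AA(C_O(⟨Z^{K₂}⟩))`, elementary abelian, `≤ O`, `(NO)` -/
theorem W2 :
    (∀ A ∈ AA (o2 (CZ (S : Subgroup G)) ⊓
      centralizer (zl (S : Subgroup G) (centralizer (X : Set G)) : Set G)),
      hul (zl (S : Subgroup G) (YS S)) (centralizer (X : Set G)) ≤ A) ∧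
    IsElementaryAbelian 2
      (hul (zl (S : Subgroup G) (YS S)) (centralizer (X : Set G))) ∧
    hul (zl (S : Subgroup G) (YS S)) (centralizer (X : Set G)) ≤
      o2 (CZ (S : Subgroup G)) ∧
    NoA (o2 (CZ (S : Subgroup G)))
      (hul (zl (S : Subgroup G) (YS S)) (centralizer (X : Set G))) := by
  have hU := h.lK2.zl_le S h.ctx.char2
  have hO2 : o2 (centralizer (X : Set G)) ≤ o2 (CZ (S : Subgroup G)) :=
    o2_le_o2 S (le_CZ S) h.C2
  refine SideP.noA_hul (U := zl (S : Subgroup G) (centralizer (X : Set G)))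
    (eab_iff.2 ⟨fun x hx => mem_centralizer_iff.2 fun y hy => zc_comm _ _ (hU hy) _ (hU hx),
      fun x hx => zc_sq _ _ (hU hx)⟩) ((hU.trans (zc_le _)).trans hO2)
    (fun A hA => gml hM h.ctx h.lK2 (h.kg h.lK2) hA.2.1 (eab_iff.1 hA.1).2)
    (norm_inf h.C2 (zc_le_zl _ _) (le_normalizer_zl _ _)) h.vel h.low ?_ fun A hA => h.cent_V hM hA
  exact zl_le ((zc_le_zl _ _).trans (le_hul _ _)) (le_normalizer_hul _ _)

/-- **The two sides.** -/
theorem twoP :
    TwoP (o2 (CZ (S : Subgroup G))) (CZ (S : Subgroup G)) (centralizer ({e} : Set G))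
      (centralizer (X : Set G))
      ((centralizer ({e} : Set G) ⊓ YS (S : Subgroup G)) ⊔
        (centralizer ({e} : Set G) ⊓ normalizer ((S : Subgroup G) : Set G)))
      (YS (S : Subgroup G) ⊓ centralizer (R : Set G))
      (zl (S : Subgroup G) (centralizer ({e} : Set G)))
      (hul (zl (S : Subgroup G) (YS S)) (centralizer (X : Set G)))
      (zl (S : Subgroup G) (YS (S : Subgroup G) ⊔ centralizer (R : Set G)))
      (o2 (centralizer (B : Set G))) := by
  have hO1 : o2 (centralizer ({e} : Set G)) ≤ o2 (CZ (S : Subgroup G)) := o2_le_o2 S (le_CZ S) h.C1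
  have hz1 := h.lK1.zl_le S h.ctx.char2
  have hVW : zl (S : Subgroup G) (YS S) ≤
      hul (zl (S : Subgroup G) (YS S)) (centralizer (X : Set G)) := le_hul _ _
  obtain ⟨_, w1, w2, w3⟩ := h.W2 hM
  exact
  { D1 := h.C1
    D2 := h.C2
    e1 := sup_le inf_le_left inf_le_left
    g1 := by
      refine h.lK1.le_of_forall S (le_sup_right.trans le_sup_right) fun P hP hPK => ?_
      rcases h.le_of_par hP with h1 | h1
      · exact h1.trans le_sup_left
      · exact ((le_inf hPK h1.2).trans le_sup_left).trans le_sup_right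
    e2 := inf_le_right.trans h.RK
    el1 := eab_iff.2 ⟨fun x hx => mem_centralizer_iff.2 fun y hy => zc_comm _ _ (hz1 hy) _ (hz1 hx),
      fun x hx => zc_sq _ _ (hz1 hx)⟩
    el2 := w1
    UO := (hz1.trans (zc_le _)).trans hO1
    WO := w2
    KU := le_normalizer_zl _ _
    KW := le_normalizer_hul _ _
    q1 := norm_inf h.C1 (zc_le_zl _ _) (le_normalizer_zl _ _)
    q2 := norm_inf h.C2 ((zc_le_zl _ _).trans hVW) (le_normalizer_hul _ _)
    core1 := by
      intro D hX hn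
      have h1 : D ≤ o2 (centralizer ({e} : Set G)) := le_o2 (hX.trans ((o2_le _).trans h.C1)) ((o2_isPGroup _).to_le hX) hn
      intro x hx
      rw [mem_centralizer_iff]
      intro y hy
      exact ((mem_zc.1 (hz1 hy)).2.1 _ (h1 hx)).symm
    no1 := fun A hA => gml hM h.ctx h.lK1 (h.kg h.lK1) hA.2.1 (eab_iff.1 hA.1).2
    no2 := w3
    RW := h.NR_le
    ER := by
      refine sup_le (inf_le_right.trans (le_sup_left.trans (le_normalizer_zl _ _))) ?_
      intro n hn'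
      have hn := hn'.2
      have hnR := (h.sE hn').1
      have h1 : cj n (zl (S : Subgroup G) (YS (S : Subgroup G) ⊔ centralizer (R : Set G))) =
          zl (cj n (S : Subgroup G)) (cj n (YS (S : Subgroup G) ⊔ centralizer (R : Set G))) :=
        (MinSimple.CosetFam.zl_conj n _ _).symm
      rw [mem_normalizer_iff_cj, h1, cj_eq_of_mem_normalizer hn,
        cj_eq_of_mem_normalizer (le_normalizer_sup (A := zpowers n) (by rw [zpowers_le]; exact nS_ys hn)
          (by rw [zpowers_le]; exact nc _ hnR) (mem_zpowers n))]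
    noR := fun A hA => gml hM h.ctx h.lX (h.kg h.lX) (hA.2.1.trans inf_le_left) (eab_iff.1 hA.1).2
    qB := by
      refine le_trans (le_inf ?_ ?_) (h.inf_le_QB h.BK)
      · exact inf_le_left.trans (inf_cent_le h.lK1.le (zc_le_zl _ _) (le_normalizer_zl _ _))
      · exact inf_le_right.trans (centralizer_le (h.BV.trans hVW))
    EQ := (inf_le_left.trans h.nB).trans ((nc _).trans (normalizer_le_normalizer_o2 _))
    nonloc := fun _ hX h1 h2 => h.nl ((o2_isPGroup _).to_le hX) h1 h2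
    ne := fun e => h.zc_ne (le_bot_iff.1 (e ▸ zc_le_zl _ _)) }

/-- **(alpha) or (beta).** -/
theorem main :
    (∃ A ∈ AA (o2 (CZ (S : Subgroup G))), zl (S : Subgroup G) (centralizer ({e} : Set G)) ≤ A ∧
      A ≤ o2 (centralizer ({e} : Set G)) ∧ ∃ F : Subgroup G, F ≤ A ∧ F ≤ o2 (centralizer (R : Set G)) ∧
      ¬ F ≤ centralizer
        (hul (zl (S : Subgroup G) (YS S)) (centralizer (X : Set G)) : Set G) ∧
      (centralizer (hul (zl (S : Subgroup G) (YS S))
        (centralizer (X : Set G)) : Set G)).relIndex F =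
        (centralizer (F : Set G)).relIndex
          (hul (zl (S : Subgroup G) (YS S)) (centralizer (X : Set G)))) ∨
    (∃ X₁ : Subgroup G, IsElementaryAbelian 2 X₁ ∧ centralizer ({e} : Set G) ≤ normalizer (X₁ : Set G) ∧
      zl (S : Subgroup G) (YS S) ≤ X₁ ∧ zl (S : Subgroup G) (centralizer ({e} : Set G)) ≤ X₁ ∧
      X₁ ≤ o2 (CZ (S : Subgroup G)) ∧
      ∃ F ∈ AA (o2 (CZ (S : Subgroup G))), zl (S : Subgroup G) (YS S) ≤ F ∧
        F ≤ o2 (centralizer (X : Set G)) ∧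
        F ≤ centralizer (R : Set G) ∧ F ≤ o2 (centralizer (B : Set G)) ∧
        ¬ F ≤ centralizer (zl (S : Subgroup G) (centralizer ({e} : Set G)) : Set G) ∧
        ¬ F ≤ o2 (centralizer ({e} : Set G)) ∧
        F ⊓ centralizer (zl (S : Subgroup G) (centralizer ({e} : Set G)) : Set G) ≤ centralizer (X₁ : Set G) ∧
        (centralizer (X₁ : Set G)).relIndex F = (centralizer (F : Set G)).relIndex X₁) := by
  have D := h.twoP hM
  have hVW : zl (S : Subgroup G) (YS S) ≤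
      hul (zl (S : Subgroup G) (YS S)) (centralizer (X : Set G)) := le_hul _ _
  rcases D.main with ⟨A, hA, hAO, hU, hm, he⟩ | ⟨X₁, _, hel, hn, hW, hU, hO, _, _, F, hF, hFO, hWF, hQ, hm, hc, he⟩
  · refine Or.inl ⟨A, hAO, hU, hA.2.1.trans (inf_cent_le h.lK1.le (zc_le_zl _ _) (le_normalizer_zl _ _)), _,
      inf_le_left, ?_, hm, he⟩
    have h1 : A ⊓ centralizer (zl (S : Subgroup G) (YS (S : Subgroup G) ⊔ centralizer (R : Set G)) : Set G) ≤
        o2 (YS (S : Subgroup G) ⊔ centralizer (R : Set G)) :=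
      (inf_le_inf_right _ hAO.2.1).trans (inf_cent_le h.lX.le (zc_le_zl _ _) (le_normalizer_zl _ _))
    exact (le_inf h1 (inf_le_right.trans (centralizer_le (h.RV.trans (zl_mono le_sup_left))))).trans
      (h.inf_le_QR le_sup_right)
  · have hF2 : F ≤ o2 (centralizer (X : Set G)) :=
      hF.2.1.trans (inf_cent_le h.lK2.le ((zc_le_zl _ _).trans hVW) (le_normalizer_hul _ _))
    refine Or.inr ⟨X₁, hel, hn, hVW.trans hW, hU, hO, F, hFO, hVW.trans hWF, hF2, h.hA F hFO hF2, hQ, hm, ?_, hc, he⟩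
    · intro hcon
      apply hm
      have hz1 := h.lK1.zl_le S h.ctx.char2
      intro x hx
      rw [mem_centralizer_iff]
      intro y hy
      exact ((mem_zc.1 (hz1 hy)).2.1 _ (hcon hx)).symm

end FrX

/-- **`g ∈ N(R) ∩ N(B)` which centralises `z y` centralises `z` and `y`** -/
theorem FrX.sep {R B : Subgroup G} (spl : B ⊓ R = ⊥) {g z y : G}
    (hgR : g ∈ normalizer (R : Set G)) (hgB : g ∈ normalizer (B : Set G)) (hz : z ∈ R) (hy : y ∈ B)
    (hc : g * (z * y) = z * y * g) : g * z = z * g ∧ g * y = y * g := by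
  have h1 : g * z * g⁻¹ ∈ R := (mem_normalizer_iff.1 hgR z).1 hz
  have h2 : g * y * g⁻¹ ∈ B := (mem_normalizer_iff.1 hgB y).1 hy
  have e1 : z⁻¹ * (g * z * g⁻¹) = y * (g * y * g⁻¹)⁻¹ := by
    have e2 : g * z * g⁻¹ * (g * y * g⁻¹) = z * y := by
      calc g * z * g⁻¹ * (g * y * g⁻¹) = g * (z * y) * g⁻¹ := by group
        _ = z * y * g * g⁻¹ := by rw [hc]
        _ = z * y := by group
    calc z⁻¹ * (g * z * g⁻¹) = z⁻¹ * (g * z * g⁻¹ * (g * y * g⁻¹)) * (g * y * g⁻¹)⁻¹ := by group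
      _ = z⁻¹ * (z * y) * (g * y * g⁻¹)⁻¹ := by rw [e2]
      _ = y * (g * y * g⁻¹)⁻¹ := by group
  have h3 : z⁻¹ * (g * z * g⁻¹) ∈ B ⊓ R :=
    ⟨by rw [e1]; exact B.mul_mem hy (B.inv_mem h2), R.mul_mem (R.inv_mem hz) h1⟩
  rw [spl, mem_bot] at h3
  have h4 : g * z * g⁻¹ = z := (inv_mul_eq_one.1 h3).symm
  have h5 : g * y * g⁻¹ = y := by
    rw [h3] at e1
    exact (mul_inv_eq_one.1 e1.symm).symm
  exact ⟨mul_inv_eq_iff_eq_mul.1 h4, mul_inv_eq_iff_eq_mul.1 h5⟩

end Cfsg.Agent.Omega.NOThreeL.RZ.TwoC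

end

section


/-!
# (beta) over the frame `FrX` (side 1 of THEOREM REL; #24309 (6), #24934, #25079, #25809)

* `QQ S R B J`, `BadG Q J Y` : helper820's literals (#26172);
* **`FrX.beta`** : the exit (beta) of `FrX.main` is impossible: helper127's `GInR` with `C = C_G(e)`, `T = S`, `A = F`,
  `J = C_S(R)`, `M = X₁`, `Z = R ∩ Z(S)`, `Y = B`, and helper345's `InpR.false_of`.
-/

set_option autoImplicit false
set_option linter.unusedSectionVars false

namespace Cfsg.Agent.Omega.NOThreeL.RZ.TwoC.BetaX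

open Subgroup Cfsg
open Cfsg.Agent.ZN (o2 zc zl jj)
open Cfsg.Agent.ZN.ChoiceBase hiding mem_zc
open Cfsg.Agent.Omega.ML.Final (MLK)
open Cfsg.Agent.Omega.ML.GMod (hul hul_le hul_le_of le_hul cj_le_hul le_normalizer_hul nc ri_mono
  normalizer_le_normalizer_o2)
open Cfsg.Agent.Omega.MinPar Cfsg.Agent.Omega.Frame Cfsg.Agent.Omega.FrameNOFF
open Cfsg.Agent.Omega.NOThreeL.Star (YS le_YS S_le_YS zl_mono)
open Cfsg.Agent.Omega.NO3S.EThree.ExactA (eab_iff eab_mono)
open Cfsg.Agent.MinSimple.VModule (zc_le_zl le_normalizer_zl zl_le zc_le zc_sq zc_comm mem_zc le_centralizer_zc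
  le_normalizer_o2 o2_isPGroup o2_le le_o2 normalizer_le_normalizer_zc)
open Cfsg.Agent.MinSimple.Basic (not_dvd_relIndex)
open Cfsg.Agent.MinSimple.MinParabolic (IsMinPar)
open Cfsg.Agent.Omega.NOThreeL.RZ.TwoC.Loc
open Cfsg.Agent.Omega.NOThreeL.RZ.TwoC.Alpha (zl_eq)
open Cfsg.Agent.Omega.KL.StarR (GInR)

universe u

variable {G : Type u} [Group G]

/-- the odd elements to be tested: they permute the blocks and normalise `R`, `B`, `J` -/
def QQ (S R B J : Subgroup G) : Subgroup G :=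
  (YS S ⊔ normalizer (S : Set G)) ⊓ normalizer (R : Set G) ⊓ normalizer (B : Set G) ⊓ normalizer (J : Set G)

/-- `d ∈ Q` of odd order with `[[Y, d], [J, d]] = 1` centralises `Y` -/
def BadG (Q J Y : Subgroup G) : Prop :=
  ∀ d ∈ Q, Odd (orderOf d) → (∀ j ∈ J, ∀ w ∈ Y,
    (j * d * j⁻¹ * d⁻¹) * (d * w * d⁻¹ * w⁻¹) = (d * w * d⁻¹ * w⁻¹) * (j * d * j⁻¹ * d⁻¹)) → d ∈ centralizer (Y : Set G)

variable [Finite G] {S : Sylow 2 G} {R B X : Subgroup G} {e : G}

/-- `N_{K}(S) ≤ QQ` if `N_K(S)` normalises `R`, `B` -/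
theorem nS_QQ {K C : Subgroup G} (hK : K ⊓ normalizer ((S : Subgroup G) : Set G) ≤ normalizer (R : Set G) ⊓
    normalizer (B : Set G)) (hC : C = R ∨ C = B) :
    K ⊓ normalizer ((S : Subgroup G) : Set G) ≤ QQ (S : Subgroup G) R B ((S : Subgroup G) ⊓ centralizer (C : Set G)) := by
  intro n hn
  have h1 := hK hn
  have hCn : n ∈ normalizer (C : Set G) := by
    rcases hC with rfl | rfl
    · exact h1.1
    · exact h1.2
  refine ⟨⟨⟨(le_sup_right : normalizer ((S : Subgroup G) : Set G) ≤ _) hn.2, h1.1⟩, h1.2⟩, ?_⟩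
  change n ∈ normalizer (((S : Subgroup G) ⊓ centralizer (C : Set G) : Subgroup G) : Set G)
  rw [mem_normalizer_iff_cj, cj_inf, cj_centralizer, cj_eq_of_mem_normalizer hn.2, cj_eq_of_mem_normalizer hCn]

/-- **(beta) is impossible.** -/
theorem _root_.Cfsg.Agent.Omega.NOThreeL.RZ.TwoC.FrX.beta (h : FrX S R B X e) (spl : B ⊓ R = ⊥) (hM : MLK.{u, u})
    (hRp : NO3b.EndX.RedP.{u, u}) (hE : ML.Ex.Two.Ext.{u, u})
    (b1 : BadG (centralizer ({e} : Set G) ⊓ QQ (S : Subgroup G) R B ((S : Subgroup G) ⊓ centralizer (R : Set G)))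
      ((S : Subgroup G) ⊓ centralizer (R : Set G)) B)
    {X₁ F : Subgroup G} (hel : IsElementaryAbelian 2 X₁) (hn : centralizer ({e} : Set G) ≤ normalizer (X₁ : Set G))
    (hV : zl (S : Subgroup G) (YS S) ≤ X₁) (hU : zl (S : Subgroup G) (centralizer ({e} : Set G)) ≤ X₁)
    (hFO : F ∈ AA (o2 (CZ (S : Subgroup G)))) (hFX : F ≤ o2 (centralizer (X : Set G)))
    (hFR : F ≤ centralizer (R : Set G)) (hFB : F ≤ o2 (centralizer (B : Set G)))
    (hm : ¬ F ≤ centralizer (zl (S : Subgroup G) (centralizer ({e} : Set G)) : Set G))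
    (hc : F ⊓ centralizer (zl (S : Subgroup G) (centralizer ({e} : Set G)) : Set G) ≤ centralizer (X₁ : Set G))
    (he : (centralizer (X₁ : Set G)).relIndex F = (centralizer (F : Set G)).relIndex X₁) : False := by
  have hSK : (S : Subgroup G) ≤ centralizer ({e} : Set G) := h.lK1.le
  have hFO' : F ≤ o2 (CZ (S : Subgroup G)) := hFO.2.1
  have helF : IsElementaryAbelian 2 F := hFO.1
  have hFS : F ≤ (S : Subgroup G) := hFO'.trans o2C_le
  have hzV : zc (S : Subgroup G) ≤ zl (S : Subgroup G) (YS S) := zc_le_zl _ _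
  have hSB : (S : Subgroup G) ≤ normalizer (B : Set G) := h.S_le_ys.trans h.nB
  have hPar : ∀ P : Subgroup G, IsMinPar (S : Subgroup G) P → P ≤ centralizer ({e} : Set G) →
      P ≤ centralizer ((R ⊓ zc (S : Subgroup G) : Subgroup G) : Set G) ∨
        (∀ g ∈ P, Odd (orderOf g) → g ∈ centralizer (B : Set G)) ∨
        (F ≤ o2 P ∧ (S : Subgroup G) ⊓ centralizer (R : Set G) ≤ o2 P ∧
          P ≤ QQ (S : Subgroup G) R B ((S : Subgroup G) ⊓ centralizer (R : Set G))) := by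
    intro P hP0 hPH
    have hP := h.lK1.isPar S hP0 hPH
    rcases h.le_of_par hP with h1 | ⟨h1, h2⟩
    · exact Or.inl (h1.trans (centralizer_le inf_le_right))
    rcases h.alt h1 with h3 | h3
    · refine Or.inr (Or.inr ⟨h.le_o2_one hFO' hFR hFX hP, h3, ?_⟩)
      exact le_inf (le_inf (le_inf (h2.trans le_sup_left) (h2.trans h.nR)) (h2.trans h.nB)) (h.nJ h1 h3)
    · left
      rw [← h3]
      refine sup_le (inf_le_right.trans (centralizer_le inf_le_left)) ?_
      exact (le_CZ S).trans (centralizer_le inf_le_right)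
  have hno : ∀ D : Subgroup G, D ≤ F →
      (centralizer (X₁ : Set G)).relIndex D ≤ (centralizer (D : Set G)).relIndex X₁ := by
    intro D hD
    have h1 := gml hM h.ctx h.lK1 (h.kg h.lK1) (hD.trans hFO') (eab_iff.1 (eab_mono helF hD)).2
    have h2 : (centralizer (X₁ : Set G)).relIndex D =
        (centralizer (zl (S : Subgroup G) (centralizer ({e} : Set G)) : Set G)).relIndex D := by
      rw [← inf_relIndex_left (H := D) (K := centralizer (X₁ : Set G)), ← inf_relIndex_left (H := D)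
        (K := centralizer (zl (S : Subgroup G) (centralizer ({e} : Set G)) : Set G))]
      congr 1
      refine le_antisymm (inf_le_inf_left _ (centralizer_le hU)) (le_inf inf_le_left ?_)
      exact (inf_le_inf_right _ hD).trans hc
    rw [h2]
    exact h1.trans (ri_mono _ hU)
  have hg : GInR (centralizer ({e} : Set G)) (S : Subgroup G) F ((S : Subgroup G) ⊓ centralizer (R : Set G))
      (QQ (S : Subgroup G) R B ((S : Subgroup G) ⊓ centralizer (R : Set G))) X₁ (R ⊓ zc (S : Subgroup G))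
      (zc (S : Subgroup G)) B :=
    { CM := hn
      sqM := (eab_iff.1 hel).2
      TC := hSK
      two := S.isPGroup'
      syl := not_dvd_relIndex S hSK
      ZM := inf_le_right.trans (hzV.trans hV)
      ZM' := hzV.trans hV
      YM := h.BV.trans hV
      TZ := (le_CZ S).trans (centralizer_le inf_le_right)
      TZ' := le_CZ S
      NZ := by
        intro n hn'
        rw [mem_normalizer_iff_cj, cj_inf, cj_eq_of_mem_normalizer (h.sE hn').1,
          cj_eq_of_mem_normalizer (normalizer_le_normalizer_zc _ hn'.2)]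
      NQ := nS_QQ h.sE (Or.inl rfl)
      QY := fun q hq => hq.2.1.2
      QJ := fun q hq => hq.2.2
      JT := inf_le_left
      AT := hFS
      par := hPar
      sep := fun g _ hg _ z hz y hy hgz => (FrX.sep spl hg.1.1.2 hg.1.2 hz.1 hy hgz).1
      hb := Or.inl fun d hd hQ ho hj => b1 d ⟨hd, hQ⟩ ho hj
      sqA := (eab_iff.1 helF).2
      AZ := by
        exact hFX.trans (o2_le_o2 S (le_inf hSK ((le_CZ S).trans (centralizer_le inf_le_right)))
          (inf_le_right.trans (centralizer_le (le_inf h.XR h.XZ))))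
      AY := by
        have e1 : centralizer ({e} : Set G) ⊓ centralizer (B : Set G) = centralizer (B : Set G) := inf_eq_right.2 h.BK
        rw [e1]
        refine hFB.trans (le_o2 ((o2_le _).trans le_sup_left) (o2_isPGroup _) ?_)
        exact sup_le (le_normalizer_o2 _) ((hSB.trans (nc _)).trans (normalizer_le_normalizer_o2 _))
      nk := by
        rw [zl_eq]
        exact hc
      mv := fun hcon => hm (hcon.trans (centralizer_le hU))
      no := hno
      le := he.ge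
      K := h.kg h.lK1 }
  obtain ⟨_, _, _, _, _, _, _, _, _, _, _, _, _, hI⟩ := hg.inpR
  exact hI.false_of hM hRp hE

end Cfsg.Agent.Omega.NOThreeL.RZ.TwoC.BetaX

end

end

-- merged: Cfsg.Agent.Mrg.Omega.NOThreeL.RZ.TwoC.EndP
section

/-!
# [R-z] (helper133 #25243, helper855 #24885, helper481 #25034): the frame `FrE` is contradictory

Over `FrP.main` (`AbP.lean`), helper127's `GInR` and helper345's `InpR.false_of`.

* `FrP.nk2`, `FrP.no2` : `C_A(⟨Z^{K₂}⟩)` centralises `W₂`, `|X : C_X(W₂)| ≤ |W₂ : C(X)|` for `X ≤ A ∈ AA(O)`;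
* `FrE.ginR2` : side 2 (alpha);  `FrE.ginR1` : side 1 (beta);
* **`FrE.false_of`**.
-/

set_option autoImplicit false
set_option linter.unusedSectionVars false

namespace Cfsg.Agent.Omega.NOThreeL.RZ.TwoC

open Subgroup Cfsg
open Cfsg.Agent.ZN (o2 zc zl jj)
open Cfsg.Agent.ZN.ChoiceBase hiding mem_zc
open Cfsg.Agent.Omega.ML.Final (MLK)
open Cfsg.Agent.Omega.ML.GMod (hul hul_le hul_le_of le_hul cj_le_hul le_normalizer_hul nc ri_mono
  normalizer_le_normalizer_o2)
open Cfsg.Agent.Omega.MinPar Cfsg.Agent.Omega.Frame Cfsg.Agent.Omega.FrameNOFF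
open Cfsg.Agent.Omega.NOThreeL.Star (YS le_YS S_le_YS)
open Cfsg.Agent.Omega.NO3S.EThree.ExactA (eab_iff eab_mono)
open Cfsg.Agent.Omega.NoFF.Basic (comm_symm)
open Cfsg.Agent.Omega.GI (relIndex_congr)
open Cfsg.Agent.Omega.KL.StarR (GInR)
open Cfsg.Agent.MinSimple.VModule (zc_le_zl le_normalizer_zl zl_le zc_le zc_sq zc_comm mem_zc le_centralizer_zc
  le_normalizer_o2 o2_isPGroup o2_le le_o2 normalizer_le_normalizer_zc)
open Cfsg.Agent.Omega.NOThreeL.RZ.TwoC.Loc (gml o2C_le inf_cent_le norm_inf)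

universe u

variable {G : Type u} [Group G]

section frp

variable [Finite G] {S : Sylow 2 G} {R B : Subgroup G} {e : G} (h : FrP S R B e) (hM : MLK.{u, u})
include h hM

/-- `C_A(⟨Z^{K₂}⟩)` centralises `W₂`, `A ∈ AA(O)` -/
theorem FrP.nk2 {A : Subgroup G} (hA : A ∈ AA (o2 (CZ (S : Subgroup G)))) :
    A ⊓ centralizer (zl (S : Subgroup G) (centralizer ((R ⊓ zc (S : Subgroup G) : Subgroup G) : Set G)) : Set G) ≤
      centralizer (hul (zl (S : Subgroup G) (YS S))
        (centralizer ((R ⊓ zc (S : Subgroup G) : Subgroup G) : Set G)) : Set G) := by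
  have hU := h.lK2.zl_le S h.ctx.char2
  have hO2 : o2 (centralizer ((R ⊓ zc (S : Subgroup G) : Subgroup G) : Set G)) ≤ o2 (CZ (S : Subgroup G)) :=
    o2_le_o2 S (le_CZ S) h.C2
  have hel : IsElementaryAbelian 2 (zl (S : Subgroup G) (centralizer ((R ⊓ zc (S : Subgroup G) : Subgroup G) : Set G))) :=
    eab_iff.2 ⟨fun x hx => mem_centralizer_iff.2 fun y hy => zc_comm _ _ (hU hy) _ (hU hx), fun x hx => zc_sq _ _ (hU hx)⟩
  have h2 := SideP.exch_inf hel ((hU.trans (zc_le _)).trans hO2)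
    (fun A' hA' => gml hM h.ctx h.lK2 (h.kg h.lK2) hA'.2.1 (eab_iff.1 hA'.1).2) hA
  exact le_sup_left.trans (((eab_iff.1 h2.1).1).trans (centralizer_le ((h.W2 hM).1 _ h2)))

/-- `|X : C_X(W₂)| ≤ |W₂ : C(X)|` for `X ≤ A ∈ AA(O)` -/
theorem FrP.no2 {A X : Subgroup G} (hA : A ∈ AA (o2 (CZ (S : Subgroup G)))) (hX : X ≤ A) :
    (centralizer (hul (zl (S : Subgroup G) (YS S))
      (centralizer ((R ⊓ zc (S : Subgroup G) : Subgroup G) : Set G)) : Set G)).relIndex X ≤
      (centralizer (X : Set G)).relIndex (hul (zl (S : Subgroup G) (YS S))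
        (centralizer ((R ⊓ zc (S : Subgroup G) : Subgroup G) : Set G))) := by
  have hUW : zl (S : Subgroup G) (centralizer ((R ⊓ zc (S : Subgroup G) : Subgroup G) : Set G)) ≤
      hul (zl (S : Subgroup G) (YS S)) (centralizer ((R ⊓ zc (S : Subgroup G) : Subgroup G) : Set G)) :=
    zl_le ((zc_le_zl _ _).trans (le_hul _ _)) (le_normalizer_hul _ _)
  have e1 : (centralizer (hul (zl (S : Subgroup G) (YS S))
      (centralizer ((R ⊓ zc (S : Subgroup G) : Subgroup G) : Set G)) : Set G)).relIndex X =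
      (centralizer (zl (S : Subgroup G)
        (centralizer ((R ⊓ zc (S : Subgroup G) : Subgroup G) : Set G)) : Set G)).relIndex X := by
    refine relIndex_congr (le_antisymm (inf_le_inf_left _ (centralizer_le hUW)) (le_inf inf_le_left ?_))
    exact (inf_le_inf_right _ hX).trans (h.nk2 hM hA)
  rw [e1]
  exact (gml hM h.ctx h.lK2 (h.kg h.lK2) (hX.trans hA.2.1) (fun a ha => (eab_iff.1 hA.1).2 a (hX ha))).trans
    (ri_mono _ hUW)

end frp

section fre

variable [Finite G] {S : Sylow 2 G} {R B : Subgroup G} {e : G} (h : FrE S R B e) (hM : MLK.{u, u})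
include h hM

/-- **side 2** -/
theorem FrE.ginR2 {A F : Subgroup G} (hA : A ∈ AA (o2 (CZ (S : Subgroup G)))) (hA1 : A ≤ o2 (centralizer ({e} : Set G)))
    (hFA : F ≤ A) (hFQ : F ≤ o2 (centralizer (R : Set G)))
    (hm : ¬ F ≤ centralizer (hul (zl (S : Subgroup G) (YS S))
      (centralizer ((R ⊓ zc (S : Subgroup G) : Subgroup G) : Set G)) : Set G))
    (he : (centralizer (hul (zl (S : Subgroup G) (YS S))
        (centralizer ((R ⊓ zc (S : Subgroup G) : Subgroup G) : Set G)) : Set G)).relIndex F =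
        (centralizer (F : Set G)).relIndex
          (hul (zl (S : Subgroup G) (YS S)) (centralizer ((R ⊓ zc (S : Subgroup G) : Subgroup G) : Set G)))) :
    GInR (centralizer ((R ⊓ zc (S : Subgroup G) : Subgroup G) : Set G)) (S : Subgroup G) F ⊥
      (normalizer (R : Set G) ⊓ normalizer (B : Set G))
      (hul (zl (S : Subgroup G) (YS S)) (centralizer ((R ⊓ zc (S : Subgroup G) : Subgroup G) : Set G)))
      (zc (S : Subgroup G) ⊓ B) (zc (S : Subgroup G)) R := by
  have hP := h.toFrP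
  have hVW : zl (S : Subgroup G) (YS S) ≤
      hul (zl (S : Subgroup G) (YS S)) (centralizer ((R ⊓ zc (S : Subgroup G) : Subgroup G) : Set G)) := le_hul _ _
  have hZW : zc (S : Subgroup G) ≤
      hul (zl (S : Subgroup G) (YS S)) (centralizer ((R ⊓ zc (S : Subgroup G) : Subgroup G) : Set G)) :=
    (zc_le_zl _ _).trans hVW
  have hFO : F ≤ o2 (CZ (S : Subgroup G)) := hFA.trans hA.2.1
  have hFS : F ≤ (S : Subgroup G) := hFO.trans o2C_le
  have hSK : (S : Subgroup G) ≤ centralizer ((R ⊓ zc (S : Subgroup G) : Subgroup G) : Set G) := hP.lK2.le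
  exact
  { CM := le_normalizer_hul _ _
    sqM := (eab_iff.1 (hP.W2 hM).2.1).2
    TC := hSK
    two := S.isPGroup'
    syl := MinSimple.Basic.not_dvd_relIndex S hSK
    ZM := inf_le_left.trans hZW
    ZM' := hZW
    YM := hP.RV.trans hVW
    TZ := (le_CZ S).trans (centralizer_le inf_le_left)
    TZ' := le_CZ S
    NZ := fun n hn => inf_normalizer_le_normalizer_inf ⟨normalizer_le_normalizer_zc _ hn.2, (hP.sZ hn).2⟩
    NQ := hP.sZ
    QY := inf_le_right.trans inf_le_left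
    QJ := fun n _ => by
      rw [mem_normalizer_iff_cj]
      exact Subgroup.map_bot _
    JT := bot_le
    AT := hFS
    par := by
      intro P hP1 hPK
      have hPP := hP.lK2.isPar S hP1 hPK
      rcases hP.le_of_par hPP with h1 | ⟨_, h1⟩
      · exact Or.inl (h1.trans (centralizer_le inf_le_left))
      · exact Or.inr (Or.inr ⟨hP.le_o2_two hFO hFQ hPP, bot_le, le_inf (h1.trans hP.nR) (h1.trans hP.nB)⟩)
    sep := by
      intro g _ hgQ _ z hz y hy hc
      have hzy : z * y = y * z := mem_centralizer_iff.1 (hP.vc (hP.RV hy)) z (hP.BV hz.2)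
      rw [hzy] at hc
      exact (h.sep hgQ.1 hgQ.2 hy hz.2 hc).2
    hb := by
      right
      rintro v ⟨hv, hvS⟩
      have h1 := hP.fixR hv fun s hs => mem_centralizer_iff.1 hvS s hs
      rw [mem_centralizer_iff]
      intro c hc
      exact (mem_centralizer_iff.1 hc v h1).symm
    sqA := fun a ha => (eab_iff.1 hA.1).2 a (hFA ha)
    AZ := by
      refine (hFA.trans hA1).trans (o2_le_o2 S (le_inf hSK ((le_CZ S).trans (centralizer_le inf_le_left))) ?_)
      exact inf_le_right.trans (centralizer_le (Set.singleton_subset_iff.2 ⟨hP.eZ, hP.eB⟩))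
    AY := by
      refine hFQ.trans (le_o2 (hP.QR_le.trans le_sup_right) (o2_isPGroup _) ?_)
      exact sup_le (inf_le_right.trans (le_normalizer_o2 _)) hP.nQR
    nk := by
      rw [V_eq_zl]
      exact (inf_le_inf_right _ hFA).trans (hP.nk2 hM hA)
    mv := hm
    no := fun X hX => hP.no2 hM hA (hX.trans hFA)
    le := he.ge
    K := hP.kg hP.lK2 }

/-- **side 1** -/
theorem FrE.ginR1 {X₁ F : Subgroup G} (hel : IsElementaryAbelian 2 X₁)
    (hn : centralizer ({e} : Set G) ≤ normalizer (X₁ : Set G)) (hVX : zl (S : Subgroup G) (YS S) ≤ X₁)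
    (hUX : zl (S : Subgroup G) (centralizer ({e} : Set G)) ≤ X₁)
    (hF : F ∈ AA (o2 (CZ (S : Subgroup G))))
    (hF2 : F ≤ o2 (centralizer ((R ⊓ zc (S : Subgroup G) : Subgroup G) : Set G)))
    (hFB : F ≤ o2 (centralizer (B : Set G)))
    (hm : ¬ F ≤ centralizer (zl (S : Subgroup G) (centralizer ({e} : Set G)) : Set G))
    (hc : F ⊓ centralizer (zl (S : Subgroup G) (centralizer ({e} : Set G)) : Set G) ≤ centralizer (X₁ : Set G))
    (he : (centralizer (X₁ : Set G)).relIndex F = (centralizer (F : Set G)).relIndex X₁)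
    (bad : ∀ d ∈ centralizer ({e} : Set G), d ∈ normalizer (R : Set G) → d ∈ normalizer (B : Set G) →
      d ∈ normalizer (((S : Subgroup G) ⊓ centralizer (R : Set G) : Subgroup G) : Set G) →
      d ∈ normalizer (YS (S : Subgroup G) : Set G) → Odd (orderOf d) →
      (∀ j ∈ (S : Subgroup G) ⊓ centralizer (R : Set G), ∀ w ∈ B,
        (j * d * j⁻¹ * d⁻¹) * (d * w * d⁻¹ * w⁻¹) = (d * w * d⁻¹ * w⁻¹) * (j * d * j⁻¹ * d⁻¹)) →
      d ∈ centralizer (B : Set G)) :
    GInR (centralizer ({e} : Set G)) (S : Subgroup G) F ((S : Subgroup G) ⊓ centralizer (R : Set G))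
      (normalizer (R : Set G) ⊓ normalizer (B : Set G) ⊓
        (normalizer (((S : Subgroup G) ⊓ centralizer (R : Set G) : Subgroup G) : Set G) ⊓
          normalizer (YS (S : Subgroup G) : Set G))) X₁
      (R ⊓ zc (S : Subgroup G)) (zc (S : Subgroup G)) B := by
  have hP := h.toFrP
  have hFO : F ≤ o2 (CZ (S : Subgroup G)) := hF.2.1
  have hFS : F ≤ (S : Subgroup G) := hFO.trans o2C_le
  have hSK : (S : Subgroup G) ≤ centralizer ({e} : Set G) := hP.lK1.le
  have hFR : F ≤ centralizer (R : Set G) := hP.hA F hF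
  have hZU : zc (S : Subgroup G) ≤ X₁ := (zc_le_zl _ _).trans hUX
  have hSB : (S : Subgroup G) ≤ normalizer (o2 (centralizer (B : Set G)) : Set G) :=
    ((hP.S_le_ys.trans hP.nB).trans (nc _)).trans (normalizer_le_normalizer_o2 _)
  exact
  { CM := hn
    sqM := (eab_iff.1 hel).2
    TC := hSK
    two := S.isPGroup'
    syl := MinSimple.Basic.not_dvd_relIndex S hSK
    ZM := inf_le_right.trans hZU
    ZM' := hZU
    YM := hP.BV.trans hVX
    TZ := (le_CZ S).trans (centralizer_le inf_le_right)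
    TZ' := le_CZ S
    NZ := fun n hn => inf_normalizer_le_normalizer_inf ⟨(hP.sE hn).1, normalizer_le_normalizer_zc _ hn.2⟩
    NQ := by
      intro n hn
      refine ⟨hP.sE hn, inf_normalizer_le_normalizer_inf ⟨hn.2, nc _ (hP.sE hn).1⟩, nS_ys hn.2⟩
    QY := inf_le_right.trans (inf_le_left.trans inf_le_right)
    QJ := inf_le_right.trans (inf_le_right.trans inf_le_left)
    JT := inf_le_left
    AT := hFS
    par := by
      intro P hP1 hPK
      have hPP := hP.lK1.isPar S hP1 hPK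
      rcases hP.le_of_par hPP with h1 | ⟨h0, h1⟩
      · exact Or.inl (h1.trans (centralizer_le inf_le_right))
      · rcases hP.alt h0 with h2 | h2
        · refine Or.inr (Or.inr ⟨hP.le_o2_one hFO hFR hF2 hPP, h2, ?_⟩)
          exact le_inf (le_inf (h1.trans hP.nR) (h1.trans hP.nB)) (le_inf (hP.nJ h0 h2) (h1.trans le_normalizer))
        · exact Or.inl (hP.le_K2 h2)
    sep := by
      intro g _ hgQ _ z hz y hy hc
      exact (h.sep hgQ.1.1 hgQ.1.2 hz.1 hy hc).1
    hb := Or.inl fun d hd hdQ hdo hcom => bad d hd hdQ.1.1 hdQ.1.2 hdQ.2.1 hdQ.2.2 hdo hcom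
    sqA := (eab_iff.1 hF.1).2
    AZ := hF2.trans (o2_le_o2 S (le_inf hSK hP.lK2.le) inf_le_right)
    AY := by
      refine hFB.trans (le_o2 ((le_of_le_normalizer S (o2_isPGroup _) hSB).trans le_sup_right) (o2_isPGroup _) ?_)
      exact sup_le (inf_le_right.trans (le_normalizer_o2 _)) hSB
    nk := by
      rw [V_eq_zl]
      exact hc
    mv := fun hcon => hm (hcon.trans (centralizer_le hUX))
    no := by
      intro X hX
      have e1 : (centralizer (X₁ : Set G)).relIndex X =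
          (centralizer (zl (S : Subgroup G) (centralizer ({e} : Set G)) : Set G)).relIndex X := by
        refine relIndex_congr (le_antisymm (inf_le_inf_left _ (centralizer_le hUX)) (le_inf inf_le_left ?_))
        exact (inf_le_inf_right _ hX).trans hc
      rw [e1]
      exact (gml hM h.ctx hP.lK1 (hP.kg hP.lK1) (hX.trans hFO) (fun a ha => (eab_iff.1 hF.1).2 a (hX ha))).trans
        (ri_mono _ hUX)
    le := he.ge
    K := hP.kg hP.lK1 }

/-- **The frame `FrE` is contradictory.** -/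
theorem FrE.false_of (hR : NO3b.EndX.RedP.{u, u}) (hE : ML.Ex.Two.Ext.{u, u})
    (bad : ∀ d ∈ centralizer ({e} : Set G), d ∈ normalizer (R : Set G) → d ∈ normalizer (B : Set G) →
      d ∈ normalizer (((S : Subgroup G) ⊓ centralizer (R : Set G) : Subgroup G) : Set G) →
      d ∈ normalizer (YS (S : Subgroup G) : Set G) → Odd (orderOf d) →
      (∀ j ∈ (S : Subgroup G) ⊓ centralizer (R : Set G), ∀ w ∈ B,
        (j * d * j⁻¹ * d⁻¹) * (d * w * d⁻¹ * w⁻¹) = (d * w * d⁻¹ * w⁻¹) * (j * d * j⁻¹ * d⁻¹)) →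
      d ∈ centralizer (B : Set G)) : False := by
  rcases h.main hM with ⟨A, hA, _, hA1, F, hFA, hFQ, hm, he⟩ |
    ⟨X₁, hel, hn, hVX, hUX, _, F, hF, _, hF2, hFB, hm, _, hc, he⟩
  · obtain ⟨X, i1, i2, N, i3, i4, i5, T', A', J', Q', Z₁, Y', hI⟩ := (h.ginR2 hM hA hA1 hFA hFQ hm he).inpR
    exact hI.false_of hM hR hE
  · obtain ⟨X, i1, i2, N, i3, i4, i5, T', A', J', Q', Z₁, Y', hI⟩ :=
      (h.ginR1 hM hel hn hVX hUX hF hF2 hFB hm hc he bad).inpR
    exact hI.false_of hM hR hE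

end fre

end Cfsg.Agent.Omega.NOThreeL.RZ.TwoC

end

-- merged: Cfsg.Agent.Mrg.Omega.KL.StarR.GrpN
section

/-!
# The nonsplit case of [R-z], side 1: the plug on the level of subgroups (helper878, after helper127's `GrpR.lean`)

* `PreN T A J Q Z Z' X Rm Y` : the input `InpN` for an action which need not be faithful and an `A` which is exact modulo
  the kernel;  **`PreN.inp`** : `InpN` for `C / C_C(M)` and an atom inside the image of `A`;
* `GInN C T A J Q M Z Z' X Rm Y` : the input on the level of subgroups of `G`;  **`GInN.false_of`**.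

Side 1 of the nonsplit case: `GInN C_G(e) S F C_S(R) Q X₁ (R ∩ Z) Z X R B`.
-/

set_option autoImplicit false
set_option linter.unusedSectionVars false

namespace Cfsg.Agent.Omega.KL.StarR.Alt

open Subgroup Cfsg Cfsg.Agent.Omega.MinPar
open Cfsg.Agent.ZN (o2)
open Cfsg.Agent.ClassTwoFusion.Quad Cfsg.Agent.Omega.ML.MinFrame
open Cfsg.Agent.MinSimple.MinParabolic (IsMinPar)
open Cfsg.Agent.Omega.NoFF.Basic (mem_conj conj_le_iff V_le Z_le_V)
open Cfsg.Agent.MinSimple.VModule (le_o2 o2_isPGroup o2_le le_normalizer_o2 o2_le_of_sylow oddGen oddGen_def)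
open Cfsg.Agent.Omega.KL.Quo (norm_lift exists_minPar)
open Cfsg.Agent.Omega.KL.TwoS (exists_odd actX)
open scoped Pointwise

universe u v

/-- the input `InpN` for `C` acting on `M`, with an `A` which is exact modulo the kernel -/
structure PreN {C : Type u} [Group C] {M : Type v} [Group M] [MulDistribMulAction C M] (T A J Q : Subgroup C)
    (Z Z' X Rm Y : Subgroup M) : Prop where
  sq : ∀ m : M, m * m = 1
  two : IsPGroup 2 T
  syl : ¬ 2 ∣ T.index
  tZ : ∀ z ∈ Z, ∀ t ∈ T, t • z = z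
  tZ' : ∀ z ∈ Z', ∀ t ∈ T, t • z = z
  NZ : ∀ g ∈ normalizer (T : Set C), ∀ z ∈ Z, g • z ∈ Z
  ZR : Z ≤ Rm
  NQ : normalizer (T : Set C) ≤ Q
  QX : ∀ q ∈ Q, ∀ w ∈ X, q • w ∈ X
  QR : ∀ q ∈ Q, ∀ w ∈ Rm, q • w ∈ Rm
  QJ : Q ≤ normalizer (J : Set C)
  JT : J ≤ T
  XR : X ⊓ Rm = ⊥
  XY : X ≤ Y
  RY : Rm ≤ Y
  alt : ∀ t ∈ T, (∀ w ∈ X, t • w = w) → ∀ w ∈ Rm, t • w = w
  par : ∀ P : Subgroup C, IsMinPar T P → (∀ m : M, (∀ t ∈ T, t • m = m) → ∀ p ∈ P, p • m = m) ∨
    (∀ m ∈ Rm, (∀ t ∈ T, t • m = m) → ∀ p ∈ P, p • m = m) ∨ (A ≤ o2 P ∧ J ≤ o2 P ∧ P ≤ Q)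
  bad : ∀ d ∈ Q, Odd (orderOf d) → (∀ j ∈ J, ∀ w ∈ Y, (j * d * j⁻¹ * d⁻¹) • ((d • w) * w⁻¹) = (d • w) * w⁻¹) →
    ∀ w ∈ Y, d • w = w
  el : ∀ a ∈ A, a * a = 1
  AZ : A ≤ o2 (fxr C Z)
  AX : ∀ a ∈ A, ∀ w ∈ X, a • w = w
  /-- `A` is faithful on `⟨Z'^C⟩` modulo the kernel -/
  nk : ∀ a ∈ A, (∀ (c : C), ∀ z ∈ Z', a • c • z = c • z) → ∀ m : M, a • m = m
  mv : ∃ a ∈ A, ∃ m : M, a • m ≠ m
  no : ∀ B : Subgroup C, B ≤ A → (fxr C (⊤ : Subgroup M)).relIndex B ≤ (cv M (B : Set C)).index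
  le : (cv M (A : Set C)).index ≤ (fxr C (⊤ : Subgroup M)).relIndex A
  KC : IsKGroup C

section pre

variable {C : Type u} [Group C] [Finite C] {M : Type v} [Group M] [Finite M] [MulDistribMulAction C M]
  {T A J Q : Subgroup C} {Z Z' X Rm Y : Subgroup M}

theorem PreN.inp (h : PreN T A J Q Z Z' X Rm Y) :
    ∃ (H : Type u) (_ : Group H) (_ : Finite H) (_ : MulDistribMulAction H M) (T' A' J' Q' : Subgroup H),
      InpN T' A' J' Q' Z X Rm Y := by
  have htriv : ∀ k ∈ fxr C (⊤ : Subgroup M), ∀ m : M, k • m = m := fun k hk m => hk m (mem_top m)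
  have hN : (fxr C (⊤ : Subgroup M)).Normal := fxr_normal fun _ _ _ => mem_top _
  set N := fxr C (⊤ : Subgroup M) with hNdef
  let _ : MulDistribMulAction (C ⧸ N) M := quoAct N htriv
  let π : C →* C ⧸ N := QuotientGroup.mk' N
  have hπ : Function.Surjective π := QuotientGroup.mk'_surjective N
  have he : ∀ (g : C) (v : M), π g • v = g • v := fun _ _ => rfl
  have hker : ∀ k : C, (∀ v : M, k • v = v) → π k = 1 := fun k hk =>
    (QuotientGroup.eq_one_iff k).2 fun v _ => hk v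
  have hker2 : ∀ k : C, π k = 1 → ∀ v : M, k • v = v := fun k hk v =>
    (QuotientGroup.eq_one_iff k).1 hk v (mem_top v)
  -- stabilisers
  have hfx : ∀ Y' : Subgroup M, (fxr C Y').map π = fxr (C ⧸ N) Y' := by
    intro Y'
    ext g
    constructor
    · rintro ⟨c, hc, rfl⟩
      exact hc
    · intro hg
      obtain ⟨c, rfl⟩ := hπ g
      exact ⟨c, hg, rfl⟩
  have ho2 : ∀ S : Subgroup C, A ≤ o2 S → A.map π ≤ o2 (S.map π) := by
    intro S hS
    exact (map_mono hS).trans (KL.GenTool.o2_map_le π S)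
  have hz' : A.map π ≤ o2 (fxr (C ⧸ N) Z) := by
    rw [← hfx]
    exact ho2 _ h.AZ
  have hsyl : ¬ 2 ∣ (T.map π).index := fun h2 => h.syl (h2.trans (index_map_dvd T hπ))
  have hKH : IsKGroup (C ⧸ N) := ML.Final.sec_KG.quo C h.KC N
  have hel : ∀ a ∈ A.map π, a * a = 1 := by
    rintro _ ⟨a, ha, rfl⟩
    rw [← map_mul, h.el a ha, map_one]
  -- `A.map π` is faithful on `⟨Z'^C⟩`
  have hfa : ∀ g ∈ A.map π, (∀ (c : C ⧸ N), ∀ z ∈ Z', g • c • z = c • z) → g = 1 := by
    rintro _ ⟨a, ha, rfl⟩ hg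
    exact hker a (h.nk a ha fun c z hz => hg (π c) z hz)
  -- (NO)
  have hcv : ∀ B : Subgroup C, cv M (B.map π : Set (C ⧸ N)) = cv M (B : Set C) := by
    intro B
    ext v
    constructor
    · exact fun hv a ha => hv _ ⟨a, ha, rfl⟩
    · rintro hv _ ⟨a, ha, rfl⟩
      exact hv a ha
  have hcard : ∀ B : Subgroup C, Nat.card (B.map π) = N.relIndex B := by
    intro B
    rw [← relIndex_bot_left, ← relIndex_comap, MonoidHom.comap_bot, QuotientGroup.ker_mk']
  have hno : ∀ B : Subgroup (C ⧸ N), B ≤ A.map π → Nat.card B ≤ (cv M (B : Set (C ⧸ N))).index := by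
    intro B hB
    have e : (A ⊓ B.comap π).map π = B := by
      apply le_antisymm
      · rintro _ ⟨a, ha, rfl⟩
        exact ha.2
      · intro g hg
        obtain ⟨a, ha, rfl⟩ := hB hg
        exact ⟨a, ⟨ha, hg⟩, rfl⟩
    rw [← e, hcv, hcard]
    exact h.no _ inf_le_left
  have hex : (cv M (A.map π : Set (C ⧸ N))).index = Nat.card (A.map π) := by
    refine le_antisymm ?_ (hno _ le_rfl)
    rw [hcv, hcard]
    exact h.le
  have hA1 : A.map π ≠ ⊥ := by
    intro h1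
    obtain ⟨a, ha, m, hm⟩ := h.mv
    apply hm
    refine hker2 a ?_ m
    rw [← mem_bot, ← h1]
    exact ⟨a, ha, rfl⟩
  -- an atom
  obtain ⟨B, ⟨hBA, hB1, hBe⟩, hmin⟩ : ∃ B : Subgroup (C ⧸ N), (B ≤ A.map π ∧ B ≠ ⊥ ∧
      (cv M (B : Set (C ⧸ N))).index = Nat.card B) ∧ ∀ B' : Subgroup (C ⧸ N), (B' ≤ A.map π ∧ B' ≠ ⊥ ∧
      (cv M (B' : Set (C ⧸ N))).index = Nat.card B') → B' ≤ B → B' = B := by
    obtain ⟨B, hB⟩ := (Set.toFinite {B : Subgroup (C ⧸ N) | B ≤ A.map π ∧ B ≠ ⊥ ∧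
      (cv M (B : Set (C ⧸ N))).index = Nat.card B}).exists_minimal ⟨A.map π, le_rfl, hA1, hex⟩
    exact ⟨B, hB.prop, fun B' hB' hle => le_antisymm hle (hB.le_of_le hB' hle)⟩
  have htZ' : ∀ z ∈ Z', ∀ t ∈ T.map π, t • z = z := by
    rintro z hz _ ⟨t, ht, rfl⟩
    exact h.tZ' z hz t ht
  have hnT : ∀ g ∈ normalizer ((T.map π : Subgroup (C ⧸ N)) : Set (C ⧸ N)),
      ∃ c ∈ normalizer (T : Set C), π c = g := by
    intro g hg
    obtain ⟨t, ht, n, hn, rfl⟩ := norm_lift π hπ h.two h.syl hg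
    exact ⟨t * n, mul_mem (le_normalizer ht) hn, rfl⟩
  refine ⟨C ⧸ N, inferInstance, inferInstance, inferInstance, T.map π, B, J.map π, Q.map π, ?_⟩
  exact
    { sq := h.sq
      two := h.two.map π
      syl := hsyl
      tZ := by
        rintro z hz _ ⟨t, ht, rfl⟩
        exact h.tZ z hz t ht
      NZ := by
        intro g hg z hz
        obtain ⟨n, hn, rfl⟩ := hnT g hg
        exact h.NZ n hn z hz
      NQ := by
        intro g hg
        obtain ⟨n, hn, rfl⟩ := hnT g hg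
        exact ⟨n, h.NQ hn, rfl⟩
      ZR := h.ZR
      QX := by
        rintro _ ⟨q, hq, rfl⟩ w hw
        exact h.QX q hq w hw
      QR := by
        rintro _ ⟨q, hq, rfl⟩ w hw
        exact h.QR q hq w hw
      QJ := (map_mono h.QJ).trans (le_normalizer_map π)
      JT := map_mono h.JT
      XR := h.XR
      XY := h.XY
      RY := h.RY
      alt := by
        rintro _ ⟨t, ht, rfl⟩ hw w hw'
        exact h.alt t ht hw w hw'
      par := by
        intro P hP
        obtain ⟨R, hR, rfl⟩ := exists_minPar π hπ hP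
        rcases h.par R hR with h1 | h1 | ⟨h1, h2, h3⟩
        · left
          rintro m hm _ ⟨r, hr, rfl⟩
          exact h1 m (fun t ht => hm (π t) ⟨t, ht, rfl⟩) r hr
        · right
          left
          rintro m hmR hm _ ⟨r, hr, rfl⟩
          exact h1 m hmR (fun t ht => hm (π t) ⟨t, ht, rfl⟩) r hr
        · right
          right
          exact ⟨hBA.trans ((map_mono h1).trans (KL.GenTool.o2_map_le π R)),
            (map_mono h2).trans (KL.GenTool.o2_map_le π R), map_mono h3⟩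
      bad := by
        intro d hd hdo hcomm w hw
        obtain ⟨c, hc, hco, rfl⟩ := exists_odd π hd hdo
        exact h.bad c hc hco (fun j hj w hw => hcomm (π j) ⟨j, hj, rfl⟩ w hw) w hw
      el := fun a ha => hel a (hBA ha)
      exact := hBe
      atom := by
        intro B' hB' hB1' hne
        refine lt_of_le_of_ne (hno B' (hB'.trans hBA)) fun h1 => hne ?_
        exact hmin B' ⟨hB'.trans hBA, hB1', h1.symm⟩ hB'
      nA := by
        -- `O₂(H)` centralises `⟨Z'^H⟩`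
        intro hle
        apply hB1
        rw [eq_bot_iff]
        intro b hb
        rw [mem_bot]
        refine hfa b (hBA hb) fun c z hz => ?_
        have h1 : c⁻¹ * b * c ∈ o2 (⊤ : Subgroup (C ⧸ N)) := by
          have := (mem_normalizer_iff.1 (le_normalizer_o2 (⊤ : Subgroup (C ⧸ N)) (mem_top c⁻¹)) b).1 (hle hb)
          rwa [inv_inv] at this
        have h2 : o2 (⊤ : Subgroup (C ⧸ N)) ≤ T.map π :=
          o2_le_of_sylow (h.two.map π) (by rwa [relIndex_top_right])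
        have h3 := htZ' z hz _ (h2 h1)
        rw [mul_smul, mul_smul, inv_smul_eq_iff] at h3
        exact h3
      AZ := hBA.trans hz'
      AX := by
        intro b hb w hw
        obtain ⟨a, ha, rfl⟩ := hBA hb
        exact h.AX a ha w hw
      KH := hKH }

end pre

/-! ### Subgroups -/

/-- **the input on the level of subgroups of `G`** -/
structure GInN {G : Type u} [Group G] (C T A J Q M Z Z' X Rm Y : Subgroup G) : Prop where
  CM : C ≤ normalizer (M : Set G)
  sqM : ∀ m ∈ M, m ^ 2 = 1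
  TC : T ≤ C
  two : IsPGroup 2 T
  syl : ¬ 2 ∣ T.relIndex C
  ZR : Z ≤ Rm
  ZM' : Z' ≤ M
  YM : Y ≤ M
  XY : X ≤ Y
  RY : Rm ≤ Y
  XR : X ⊓ Rm = ⊥
  TZ : T ≤ centralizer (Z : Set G)
  TZ' : T ≤ centralizer (Z' : Set G)
  NZ : C ⊓ normalizer (T : Set G) ≤ normalizer (Z : Set G)
  NQ : C ⊓ normalizer (T : Set G) ≤ Q
  QX : C ⊓ Q ≤ normalizer (X : Set G)
  QR : C ⊓ Q ≤ normalizer (Rm : Set G)
  QJ : C ⊓ Q ≤ normalizer (J : Set G)
  JT : J ≤ T
  AT : A ≤ T
  alt : T ⊓ centralizer (X : Set G) ≤ centralizer (Rm : Set G)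
  par : ∀ P : Subgroup G, IsMinPar T P → P ≤ C →
    (∀ m ∈ M, (∀ t ∈ T, t * m = m * t) → ∀ p ∈ P, p * m = m * p) ∨
    (∀ m ∈ Rm, (∀ t ∈ T, t * m = m * t) → ∀ p ∈ P, p * m = m * p) ∨ (A ≤ o2 P ∧ J ≤ o2 P ∧ P ≤ Q)
  bad : ∀ d ∈ C, d ∈ Q → Odd (orderOf d) →
      (∀ j ∈ J, ∀ w ∈ Y, (j * d * j⁻¹ * d⁻¹) * (d * w * d⁻¹ * w⁻¹) = (d * w * d⁻¹ * w⁻¹) * (j * d * j⁻¹ * d⁻¹)) →
      d ∈ centralizer (Y : Set G)
  sqA : ∀ a ∈ A, a ^ 2 = 1
  AZ : A ≤ o2 (C ⊓ centralizer (Z : Set G))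
  AX : A ≤ centralizer (X : Set G)
  nk : A ⊓ centralizer (NoFF.Basic.V Z' C : Set G) ≤ centralizer (M : Set G)
  mv : ¬ A ≤ centralizer (M : Set G)
  no : ∀ B : Subgroup G, B ≤ A →
    (centralizer (M : Set G)).relIndex B ≤ (centralizer (B : Set G)).relIndex M
  le : (centralizer (A : Set G)).relIndex M ≤ (centralizer (M : Set G)).relIndex A
  K : IsKGroup C

namespace GInN

variable {G : Type u} [Group G] {C T A J Q M Z Z' X Rm Y : Subgroup G}

theorem preN [Finite G] (h : GInN C T A J Q M Z Z' X Rm Y) :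
    letI := actX h.CM
    PreN (T.subgroupOf C) (A.subgroupOf C) (J.subgroupOf C) (Q.subgroupOf C) (Z.subgroupOf M) (Z'.subgroupOf M)
      (X.subgroupOf M) (Rm.subgroupOf M) (Y.subgroupOf M) := by
  let := actX h.CM
  change PreN (T.subgroupOf C) (A.subgroupOf C) (J.subgroupOf C) (Q.subgroupOf C) (Z.subgroupOf M) (Z'.subgroupOf M)
    (X.subgroupOf M) (Rm.subgroupOf M) (Y.subgroupOf M)
  have hRM : Rm ≤ M := h.RY.trans h.YM
  have hXM : X ≤ M := h.XY.trans h.YM
  have hZM : Z ≤ M := h.ZR.trans hRM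
  have hJC : J ≤ C := h.JT.trans h.TC
  have hAC : A ≤ C := h.AT.trans h.TC
  have hsm : ∀ (c : C) (m : M), ((c • m : M) : G) = c * m * (c : G)⁻¹ := fun _ _ => rfl
  have hfix : ∀ (c : C) (m : M), c • m = m ↔ (m : G) * c = c * m := by
    intro c m
    rw [Subtype.ext_iff, hsm, mul_inv_eq_iff_eq_mul, eq_comm]
  have hfxr : ∀ Y : Subgroup G, Y ≤ M → fxr C (Y.subgroupOf M) = (centralizer (Y : Set G)).subgroupOf C := by
    intro Y hY
    ext c
    rw [mem_subgroupOf, mem_centralizer_iff]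
    constructor
    · intro h y hy
      exact (hfix c ⟨y, hY hy⟩).1 (h _ (mem_subgroupOf.2 hy))
    · intro h y hy
      exact (hfix c y).2 (h _ (mem_subgroupOf.1 hy))
  have hfxt : fxr C (⊤ : Subgroup M) = (centralizer (M : Set G)).subgroupOf C := by
    rw [← hfxr M le_rfl, subgroupOf_self]
  have hcv : ∀ B : Subgroup G, B ≤ C → cv M (B.subgroupOf C : Set C) = (centralizer (B : Set G)).subgroupOf M := by
    intro B hB
    ext m
    rw [mem_subgroupOf, mem_centralizer_iff]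
    constructor
    · intro h b hb
      exact ((hfix ⟨b, hB hb⟩ m).1 (h _ (mem_subgroupOf.2 hb))).symm
    · intro h b hb
      exact (hfix b m).2 (h b (mem_subgroupOf.1 hb)).symm
  have hNT : ∀ g : C, g ∈ normalizer ((T.subgroupOf C : Subgroup C) : Set C) → (g : G) ∈ normalizer (T : Set G) := by
    intro g hg
    rw [mem_normalizer_iff] at hg ⊢
    intro t
    constructor
    · intro ht
      exact (hg ⟨t, h.TC ht⟩).1 ht
    · intro ht
      have h1 : t ∈ C := by
        have h2 := C.mul_mem (C.mul_mem (C.inv_mem g.2) (h.TC ht)) g.2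
        have e : (g : G)⁻¹ * (g * t * (g : G)⁻¹) * g = t := by group
        rwa [e] at h2
      exact (hg ⟨t, h1⟩).2 ht
  have hnsub : ∀ {X : Subgroup G} {c : C}, (c : G) ∈ normalizer (X : Set G) →
      c ∈ normalizer ((X.subgroupOf C : Subgroup C) : Set C) := by
    intro X c hc
    rw [mem_normalizer_iff]
    intro x
    exact mem_normalizer_iff.1 hc (x : G)
  have hnsub' : ∀ {X : Subgroup G} {c : C}, X ≤ C → c ∈ normalizer ((X.subgroupOf C : Subgroup C) : Set C) →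
      (c : G) ∈ normalizer (X : Set G) := by
    intro X c hX hc
    rw [mem_normalizer_iff] at hc ⊢
    intro t
    constructor
    · intro ht
      exact (hc ⟨t, hX ht⟩).1 ht
    · intro ht
      have h1 : t ∈ C := by
        have h2 := C.mul_mem (C.mul_mem (C.inv_mem c.2) (hX ht)) c.2
        have e : (c : G)⁻¹ * (c * t * (c : G)⁻¹) * c = t := by group
        rwa [e] at h2
      exact (hc ⟨t, h1⟩).2 ht
  exact
    { sq := by
        intro m
        apply Subtype.ext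
        have h1 := h.sqM m m.2
        rw [pow_two] at h1
        exact h1
      two := h.two.comap_of_injective C.subtype C.subtype_injective
      syl := h.syl
      tZ := by
        intro z hz t ht
        rw [hfix]
        exact mem_centralizer_iff.1 (h.TZ (mem_subgroupOf.1 ht)) z (mem_subgroupOf.1 hz)
      tZ' := by
        intro z hz t ht
        rw [hfix]
        exact mem_centralizer_iff.1 (h.TZ' (mem_subgroupOf.1 ht)) z (mem_subgroupOf.1 hz)
      NZ := by
        intro g hg w hw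
        refine mem_subgroupOf.2 ?_
        rw [hsm]
        exact (mem_normalizer_iff.1 (h.NZ ⟨g.2, hNT g hg⟩) _).1 (mem_subgroupOf.1 hw)
      NQ := fun g hg => mem_subgroupOf.2 (h.NQ ⟨g.2, hNT g hg⟩)
      ZR := fun w hw => mem_subgroupOf.2 (h.ZR (mem_subgroupOf.1 hw))
      XY := fun w hw => mem_subgroupOf.2 (h.XY (mem_subgroupOf.1 hw))
      RY := fun w hw => mem_subgroupOf.2 (h.RY (mem_subgroupOf.1 hw))
      XR := by
        rw [eq_bot_iff]
        rintro w ⟨hw1, hw2⟩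
        have h1 : (w : G) ∈ X ⊓ Rm := ⟨mem_subgroupOf.1 hw1, mem_subgroupOf.1 hw2⟩
        rw [h.XR, mem_bot] at h1
        rw [mem_bot]
        exact Subtype.ext h1
      QX := by
        intro g hg w hw
        refine mem_subgroupOf.2 ?_
        rw [hsm]
        exact (mem_normalizer_iff.1 (h.QX ⟨g.2, mem_subgroupOf.1 hg⟩) _).1 (mem_subgroupOf.1 hw)
      QR := by
        intro g hg w hw
        refine mem_subgroupOf.2 ?_
        rw [hsm]
        exact (mem_normalizer_iff.1 (h.QR ⟨g.2, mem_subgroupOf.1 hg⟩) _).1 (mem_subgroupOf.1 hw)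
      alt := by
        intro t ht hw w hw'
        rw [hfix]
        have h1 : (t : G) ∈ centralizer (X : Set G) := by
          rw [mem_centralizer_iff]
          intro x hx
          exact (hfix t ⟨x, hXM hx⟩).1 (hw _ (mem_subgroupOf.2 hx))
        exact mem_centralizer_iff.1 (h.alt ⟨mem_subgroupOf.1 ht, h1⟩) w (mem_subgroupOf.1 hw')
      QJ := fun g hg => hnsub (h.QJ ⟨g.2, mem_subgroupOf.1 hg⟩)
      JT := fun j hj => mem_subgroupOf.2 (h.JT (mem_subgroupOf.1 hj))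
      par := by
        intro P hP
        have hR := Plug.minPar_map h.TC hP
        have hPe : (P.map C.subtype).subgroupOf C = P := comap_map_eq_self_of_injective C.subtype_injective P
        have hft : ∀ m : M, (∀ t ∈ T.subgroupOf C, t • m = m) → ∀ t ∈ T, t * (m : G) = m * t := by
          intro m hm t ht
          exact ((hfix ⟨t, h.TC ht⟩ m).1 (hm _ (mem_subgroupOf.2 ht))).symm
        rcases h.par _ hR (map_subtype_le P) with h1 | h1 | ⟨h1, h2, h3⟩
        · left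
          intro m hm p hp
          rw [hfix]
          exact (h1 m m.2 (hft m hm) p (mem_map_of_mem C.subtype hp)).symm
        · right
          left
          intro m hmR hm p hp
          rw [hfix]
          exact (h1 m (mem_subgroupOf.1 hmR) (hft m hm) p (mem_map_of_mem C.subtype hp)).symm
        · right
          right
          refine ⟨?_, ?_, fun p hp => mem_subgroupOf.2 (h3 (mem_map_of_mem C.subtype hp))⟩
          · refine Plug.sub_o2 (S := P.map C.subtype) (fun c => ?_) h1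
            rw [← mem_subgroupOf, hPe]
          · refine Plug.sub_o2 (S := P.map C.subtype) (fun c => ?_) h2
            rw [← mem_subgroupOf, hPe]
      bad := by
        intro d hd hdo hcomm w hw
        rw [hfix]
        refine mem_centralizer_iff.1 (h.bad d d.2 (mem_subgroupOf.1 hd) (by rwa [orderOf_coe]) ?_) w
          (mem_subgroupOf.1 hw)
        intro j hj y hy
        have h1 := hcomm ⟨j, hJC hj⟩ (mem_subgroupOf.2 hj) ⟨y, h.YM hy⟩ (mem_subgroupOf.2 hy)
        rw [hfix] at h1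
        exact h1.symm
      el := by
        intro a ha
        apply Subtype.ext
        have h1 := h.sqA a (mem_subgroupOf.1 ha)
        rw [pow_two] at h1
        exact h1
      AZ := by
        refine Plug.sub_o2 (S := C ⊓ centralizer (Z : Set G)) (fun c => ?_) h.AZ
        rw [hfxr Z hZM, mem_subgroupOf]
        exact ⟨fun hc => ⟨c.2, hc⟩, fun hc => hc.2⟩
      AX := by
        intro a ha w hw
        rw [hfix]
        exact mem_centralizer_iff.1 (h.AX (mem_subgroupOf.1 ha)) w (mem_subgroupOf.1 hw)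
      nk := by
        intro a ha hc m
        rw [hfix]
        have h1 : NoFF.Basic.V Z' C ≤ centralizer ({(a : G)} : Set G) := by
          refine V_le fun c hcC => ?_
          intro x hx
          rw [mem_conj] at hx
          have h2 := hc ⟨c, hcC⟩ ⟨_, h.ZM' hx⟩ (mem_subgroupOf.2 hx)
          have h3 : ((⟨c, hcC⟩ : C) • (⟨_, h.ZM' hx⟩ : M) : M) = (⟨x, by
              have := ((⟨c, hcC⟩ : C) • (⟨_, h.ZM' hx⟩ : M) : M).2
              have e : c * (c⁻¹ * x * c) * c⁻¹ = x := by group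
              rw [hsm] at this
              change c * (c⁻¹ * x * c) * c⁻¹ ∈ M at this
              rwa [e] at this⟩ : M) := by
            apply Subtype.ext
            change c * (c⁻¹ * x * c) * c⁻¹ = x
            group
          rw [h3, hfix] at h2
          rw [mem_centralizer_singleton_iff]
          exact h2
        have h2 : (a : G) ∈ centralizer (NoFF.Basic.V Z' C : Set G) := by
          rw [mem_centralizer_iff]
          intro v hv
          exact mem_centralizer_singleton_iff.1 (h1 hv)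
        exact mem_centralizer_iff.1 (h.nk ⟨mem_subgroupOf.1 ha, h2⟩) m m.2
      mv := by
        by_contra hc
        push Not at hc
        apply h.mv
        intro a ha
        refine mem_centralizer_iff.2 fun m hm => ?_
        exact (hfix ⟨a, hAC ha⟩ ⟨m, hm⟩).1 (hc _ (mem_subgroupOf.2 ha) _)
      no := by
        intro B hB
        set B' : Subgroup G := B.map C.subtype with hB'
        have hBB : B'.subgroupOf C = B := comap_map_eq_self_of_injective C.subtype_injective B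
        have hB'A : B' ≤ A := by
          rintro _ ⟨b, hb, rfl⟩
          exact mem_subgroupOf.1 (hB hb)
        have h1 := h.no B' hB'A
        rw [hfxt, ← hBB, hcv B' (hB'A.trans hAC), relIndex_subgroupOf (hB'A.trans hAC)]
        exact h1
      le := by
        rw [hfxt, hcv A hAC, relIndex_subgroupOf hAC]
        exact h.le
      KC := h.K }

/-- **The nonsplit case, side 1, on the level of subgroups.** -/
theorem false_of [Finite G] (h : GInN C T A J Q M Z Z' X Rm Y) (hM : ML.Final.MLK.{u, u})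
    (hR : NO3b.EndX.RedP.{u, u}) (hE : ML.Ex.Two.Ext.{u, u}) : False := by
  let := actX h.CM
  obtain ⟨_, _, _, _, _, _, _, _, h1⟩ := h.preN.inp
  exact h1.false_of hM hR hE

end GInN

end Cfsg.Agent.Omega.KL.StarR.Alt

end

-- merged: Cfsg.Agent.Mrg.Omega.NOThreeL.RZ.TwoC.NonS
section

/-!
# [R-z], the nonsplit case (helper878, bb #24731, #25243 (6), #25374 [N], #25567)

`FrN S R B X e` : 652's frame `FrP S R B e` (without `B ∩ R = 1`), `R ≤ B`, and a subgroup `X ≤ B` with `e ∈ X`, which is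
normalised by `S`, by `N_{K₁}(S)`, `N_{K₂}(S)` and by every `P ∈ P*(S)` with `C_S(R) ≤ O₂(P)` which moves `R ∩ Z`;
`C_S(X) ≤ C(R)` (`alt`), and for `x, x' ∈ X`, `y ∈ ⟨P*(S)⟩`: `x^y ∈ x' R` implies `x^y = x'` (`sepX`).

* `FrN.ginR2` : side 2 (alpha), KL* over `K₂` with the object `R` and `Z := X ∩ Z`;
* `FrN.ginN1` : side 1 (beta), over `K₁` with the object `X`;
* **`FrN.false_of`** : the frame is contradictory.
-/

set_option autoImplicit false
set_option linter.unusedSectionVars false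

namespace Cfsg.Agent.Omega.NOThreeL.RZ.TwoC

open Subgroup Cfsg
open Cfsg.Agent.ZN (o2 zc zl jj)
open Cfsg.Agent.ZN.ChoiceBase hiding mem_zc
open Cfsg.Agent.Omega.ML.Final (MLK)
open Cfsg.Agent.Omega.ML.GMod (hul hul_le hul_le_of le_hul cj_le_hul le_normalizer_hul nc ri_mono
  normalizer_le_normalizer_o2)
open Cfsg.Agent.Omega.MinPar Cfsg.Agent.Omega.Frame Cfsg.Agent.Omega.FrameNOFF
open Cfsg.Agent.Omega.NOThreeL.Star (YS le_YS S_le_YS)
open Cfsg.Agent.Omega.NO3S.EThree.ExactA (eab_iff eab_mono)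
open Cfsg.Agent.Omega.NoFF.Basic (comm_symm)
open Cfsg.Agent.Omega.GI (relIndex_congr)
open Cfsg.Agent.Omega.KL.StarR (GInR)
open Cfsg.Agent.Omega.KL.StarR.Alt (GInN)
open Cfsg.Agent.MinSimple.VModule (zc_le_zl le_normalizer_zl zl_le zc_le zc_sq zc_comm mem_zc le_centralizer_zc
  le_normalizer_o2 o2_isPGroup o2_le le_o2 normalizer_le_normalizer_zc)
open Cfsg.Agent.Omega.NOThreeL.RZ.TwoC.Loc (gml o2C_le inf_cent_le norm_inf)

universe u

variable {G : Type u} [Group G]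

/-- **The frame of the nonsplit case.** -/
structure FrN [Finite G] (S : Sylow 2 G) (R B X : Subgroup G) (e : G) : Prop extends FrP S R B e where
  XB : X ≤ B
  RB : R ≤ B
  eX : e ∈ X
  sX : (S : Subgroup G) ≤ normalizer (X : Set G)
  sXE : centralizer ({e} : Set G) ⊓ normalizer ((S : Subgroup G) : Set G) ≤ normalizer (X : Set G)
  sXZ : centralizer ((R ⊓ zc (S : Subgroup G) : Subgroup G) : Set G) ⊓ normalizer ((S : Subgroup G) : Set G) ≤
    normalizer (X : Set G)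
  alt : (S : Subgroup G) ⊓ centralizer (X : Set G) ≤ centralizer (R : Set G)
  pX : ∀ P : Subgroup G, IsParS (S : Subgroup G) P → (S : Subgroup G) ⊓ centralizer (R : Set G) ≤ o2 P →
    ¬ P ≤ centralizer ((R ⊓ zc (S : Subgroup G) : Subgroup G) : Set G) → P ≤ normalizer (X : Set G)
  sepX : ∀ x ∈ X, ∀ x' ∈ X, ∀ y ∈ YS (S : Subgroup G), x'⁻¹ * (y * x * y⁻¹) ∈ R → y * x * y⁻¹ = x'

section frn

variable [Finite G] {S : Sylow 2 G} {R B X : Subgroup G} {e : G} (h : FrN S R B X e) (hM : MLK.{u, u})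
include h

theorem FrN.spX : X ⊓ R = ⊥ := by
  rw [eq_bot_iff]
  rintro x ⟨hx, hxR⟩
  have h1 := h.sepX x hx 1 X.one_mem 1 (YS (S : Subgroup G)).one_mem (by simpa using hxR)
  rw [mem_bot]
  simpa using h1

include hM

/-- **side 2** -/
theorem FrN.ginR2 {A F : Subgroup G} (hA : A ∈ AA (o2 (CZ (S : Subgroup G)))) (hA1 : A ≤ o2 (centralizer ({e} : Set G)))
    (hFA : F ≤ A) (hFQ : F ≤ o2 (centralizer (R : Set G)))
    (hm : ¬ F ≤ centralizer (hul (zl (S : Subgroup G) (YS S))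
      (centralizer ((R ⊓ zc (S : Subgroup G) : Subgroup G) : Set G)) : Set G))
    (he : (centralizer (hul (zl (S : Subgroup G) (YS S))
        (centralizer ((R ⊓ zc (S : Subgroup G) : Subgroup G) : Set G)) : Set G)).relIndex F =
        (centralizer (F : Set G)).relIndex
          (hul (zl (S : Subgroup G) (YS S)) (centralizer ((R ⊓ zc (S : Subgroup G) : Subgroup G) : Set G)))) :
    GInR (centralizer ((R ⊓ zc (S : Subgroup G) : Subgroup G) : Set G)) (S : Subgroup G) F ⊥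
      (YS (S : Subgroup G) ⊔
        (centralizer ((R ⊓ zc (S : Subgroup G) : Subgroup G) : Set G) ⊓ normalizer ((S : Subgroup G) : Set G)))
      (hul (zl (S : Subgroup G) (YS S)) (centralizer ((R ⊓ zc (S : Subgroup G) : Subgroup G) : Set G)))
      (zc (S : Subgroup G) ⊓ X) (zc (S : Subgroup G)) R := by
  have hP := h.toFrP
  have hVW : zl (S : Subgroup G) (YS S) ≤
      hul (zl (S : Subgroup G) (YS S)) (centralizer ((R ⊓ zc (S : Subgroup G) : Subgroup G) : Set G)) := le_hul _ _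
  have hZW : zc (S : Subgroup G) ≤
      hul (zl (S : Subgroup G) (YS S)) (centralizer ((R ⊓ zc (S : Subgroup G) : Subgroup G) : Set G)) :=
    (zc_le_zl _ _).trans hVW
  have hFO : F ≤ o2 (CZ (S : Subgroup G)) := hFA.trans hA.2.1
  have hFS : F ≤ (S : Subgroup G) := hFO.trans o2C_le
  have hSK : (S : Subgroup G) ≤ centralizer ((R ⊓ zc (S : Subgroup G) : Subgroup G) : Set G) := hP.lK2.le
  have hNZ : centralizer ((R ⊓ zc (S : Subgroup G) : Subgroup G) : Set G) ⊓ normalizer ((S : Subgroup G) : Set G) ≤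
      normalizer ((zc (S : Subgroup G) ⊓ X : Subgroup G) : Set G) := fun n hn =>
    inf_normalizer_le_normalizer_inf ⟨normalizer_le_normalizer_zc _ hn.2, h.sXZ hn⟩
  have hQR : YS (S : Subgroup G) ⊔
      (centralizer ((R ⊓ zc (S : Subgroup G) : Subgroup G) : Set G) ⊓ normalizer ((S : Subgroup G) : Set G)) ≤
      normalizer (R : Set G) := sup_le hP.nR (hP.sZ.trans inf_le_left)
  exact
  { CM := le_normalizer_hul _ _
    sqM := (eab_iff.1 (hP.W2 hM).2.1).2
    TC := hSK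
    two := S.isPGroup'
    syl := MinSimple.Basic.not_dvd_relIndex S hSK
    ZM := inf_le_left.trans hZW
    ZM' := hZW
    YM := hP.RV.trans hVW
    TZ := (le_CZ S).trans (centralizer_le inf_le_left)
    TZ' := le_CZ S
    NZ := hNZ
    NQ := le_sup_right
    QY := inf_le_right.trans hQR
    QJ := fun n _ => by
      rw [mem_normalizer_iff_cj]
      exact Subgroup.map_bot _
    JT := bot_le
    AT := hFS
    par := by
      intro P hP1 hPK
      have hPP := hP.lK2.isPar S hP1 hPK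
      rcases hP.le_of_par hPP with h1 | ⟨_, h1⟩
      · exact Or.inl (h1.trans (centralizer_le inf_le_left))
      · exact Or.inr (Or.inr ⟨hP.le_o2_two hFO hFQ hPP, bot_le, h1.trans le_sup_left⟩)
    sep := by
      intro g _ hgQ _ z hz y hy hc
      have hgR := hQR hgQ
      -- `g = y₀ n`
      have hg : g ∈ ((YS (S : Subgroup G) ⊔ (centralizer ((R ⊓ zc (S : Subgroup G) : Subgroup G) : Set G) ⊓
          normalizer ((S : Subgroup G) : Set G)) : Subgroup G) : Set G) := hgQ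
      rw [coe_mul_of_right_le_normalizer_left _ _ (inf_le_right.trans nS_ys)] at hg
      obtain ⟨y₀, hy₀, n, hn, rfl⟩ := hg
      have hz1 : n * z * n⁻¹ ∈ zc (S : Subgroup G) ⊓ X := (mem_normalizer_iff.1 (hNZ hn) z).1 hz
      have h1 : z⁻¹ * (y₀ * (n * z * n⁻¹) * y₀⁻¹) ∈ R := by
        have h2 : (y₀ * n) * y * (y₀ * n)⁻¹ ∈ R := (mem_normalizer_iff.1 hgR y).1 hy
        have e1 : z⁻¹ * (y₀ * (n * z * n⁻¹) * y₀⁻¹) = y * ((y₀ * n) * y * (y₀ * n)⁻¹)⁻¹ := by
          have e2 : y₀ * n * z * (y₀ * n)⁻¹ * (y₀ * n * y * (y₀ * n)⁻¹) = z * y := by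
            calc y₀ * n * z * (y₀ * n)⁻¹ * (y₀ * n * y * (y₀ * n)⁻¹) = y₀ * n * (z * y) * (y₀ * n)⁻¹ := by group
              _ = z * y * (y₀ * n) * (y₀ * n)⁻¹ := by rw [hc]
              _ = z * y := by group
          calc z⁻¹ * (y₀ * (n * z * n⁻¹) * y₀⁻¹)
              = z⁻¹ * (y₀ * n * z * (y₀ * n)⁻¹ * (y₀ * n * y * (y₀ * n)⁻¹)) * (y₀ * n * y * (y₀ * n)⁻¹)⁻¹ := by group
            _ = z⁻¹ * (z * y) * (y₀ * n * y * (y₀ * n)⁻¹)⁻¹ := by rw [e2]
            _ = y * ((y₀ * n) * y * (y₀ * n)⁻¹)⁻¹ := by group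
        rw [e1]
        exact R.mul_mem hy (R.inv_mem h2)
      have h3 := h.sepX _ hz1.2 z hz.2 y₀ hy₀ h1
      have e2 : y₀ * n * z = y₀ * (n * z * n⁻¹) * y₀⁻¹ * (y₀ * n) := by group
      rw [e2, h3]
    hb := by
      right
      rintro v ⟨hv, hvS⟩
      have h1 := hP.fixR hv fun s hs => mem_centralizer_iff.1 hvS s hs
      rw [mem_centralizer_iff]
      intro c hc
      exact (mem_centralizer_iff.1 hc v h1).symm
    sqA := fun a ha => (eab_iff.1 hA.1).2 a (hFA ha)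
    AZ := by
      refine (hFA.trans hA1).trans (o2_le_o2 S (le_inf hSK ((le_CZ S).trans (centralizer_le inf_le_left))) ?_)
      exact inf_le_right.trans (centralizer_le (Set.singleton_subset_iff.2 ⟨hP.eZ, h.eX⟩))
    AY := by
      refine hFQ.trans (le_o2 (hP.QR_le.trans le_sup_right) (o2_isPGroup _) ?_)
      exact sup_le (inf_le_right.trans (le_normalizer_o2 _)) hP.nQR
    nk := by
      rw [V_eq_zl]
      exact (inf_le_inf_right _ hFA).trans (hP.nk2 hM hA)
    mv := hm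
    no := fun X hX => hP.no2 hM hA (hX.trans hFA)
    le := he.ge
    K := hP.kg hP.lK2 }

/-- **side 1** -/
theorem FrN.ginN1 {X₁ F : Subgroup G} (hel : IsElementaryAbelian 2 X₁)
    (hn : centralizer ({e} : Set G) ≤ normalizer (X₁ : Set G)) (hVX : zl (S : Subgroup G) (YS S) ≤ X₁)
    (hUX : zl (S : Subgroup G) (centralizer ({e} : Set G)) ≤ X₁) (hXO : X₁ ≤ o2 (CZ (S : Subgroup G)))
    (hF : F ∈ AA (o2 (CZ (S : Subgroup G))))
    (hF2 : F ≤ o2 (centralizer ((R ⊓ zc (S : Subgroup G) : Subgroup G) : Set G)))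
    (hFB : F ≤ o2 (centralizer (B : Set G)))
    (hm : ¬ F ≤ centralizer (zl (S : Subgroup G) (centralizer ({e} : Set G)) : Set G))
    (hc : F ⊓ centralizer (zl (S : Subgroup G) (centralizer ({e} : Set G)) : Set G) ≤ centralizer (X₁ : Set G))
    (he : (centralizer (X₁ : Set G)).relIndex F = (centralizer (F : Set G)).relIndex X₁)
    (bad : ∀ d ∈ centralizer ({e} : Set G), d ∈ normalizer (R : Set G) → d ∈ normalizer (B : Set G) →
      d ∈ normalizer (((S : Subgroup G) ⊓ centralizer (R : Set G) : Subgroup G) : Set G) →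
      d ∈ normalizer (YS (S : Subgroup G) : Set G) → Odd (orderOf d) →
      (∀ j ∈ (S : Subgroup G) ⊓ centralizer (R : Set G), ∀ w ∈ B,
        (j * d * j⁻¹ * d⁻¹) * (d * w * d⁻¹ * w⁻¹) = (d * w * d⁻¹ * w⁻¹) * (j * d * j⁻¹ * d⁻¹)) →
      d ∈ centralizer (B : Set G)) :
    GInN (centralizer ({e} : Set G)) (S : Subgroup G) F ((S : Subgroup G) ⊓ centralizer (R : Set G))
      (normalizer (R : Set G) ⊓ normalizer (B : Set G) ⊓ normalizer (X : Set G) ⊓
        (normalizer (((S : Subgroup G) ⊓ centralizer (R : Set G) : Subgroup G) : Set G) ⊓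
          normalizer (YS (S : Subgroup G) : Set G))) X₁
      (R ⊓ zc (S : Subgroup G)) (zc (S : Subgroup G)) X R B := by
  have hP := h.toFrP
  have hFO : F ≤ o2 (CZ (S : Subgroup G)) := hF.2.1
  have hFS : F ≤ (S : Subgroup G) := hFO.trans o2C_le
  have hSK : (S : Subgroup G) ≤ centralizer ({e} : Set G) := hP.lK1.le
  have hFR : F ≤ centralizer (R : Set G) := hP.hA F hF
  have hZU : zc (S : Subgroup G) ≤ X₁ := (zc_le_zl _ _).trans hUX
  exact
  { CM := hn
    sqM := (eab_iff.1 hel).2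
    TC := hSK
    two := S.isPGroup'
    syl := MinSimple.Basic.not_dvd_relIndex S hSK
    ZR := inf_le_left
    ZM' := hZU
    YM := hP.BV.trans hVX
    XY := h.XB
    RY := h.RB
    XR := h.spX
    TZ := (le_CZ S).trans (centralizer_le inf_le_right)
    TZ' := le_CZ S
    NZ := fun n hn => inf_normalizer_le_normalizer_inf ⟨(hP.sE hn).1, normalizer_le_normalizer_zc _ hn.2⟩
    NQ := by
      intro n hn
      refine ⟨⟨hP.sE hn, h.sXE hn⟩, inf_normalizer_le_normalizer_inf ⟨hn.2, nc _ (hP.sE hn).1⟩, nS_ys hn.2⟩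
    QX := inf_le_right.trans (inf_le_left.trans inf_le_right)
    QR := inf_le_right.trans (inf_le_left.trans (inf_le_left.trans inf_le_left))
    QJ := inf_le_right.trans (inf_le_right.trans inf_le_left)
    JT := inf_le_left
    AT := hFS
    alt := h.alt
    par := by
      intro P hP1 hPK
      have hPP := hP.lK1.isPar S hP1 hPK
      rcases hP.le_of_par hPP with h1 | ⟨h0, h1⟩
      · left
        intro m hm htm p hp
        have h2 : m ∈ zc (S : Subgroup G) :=
          mem_zc.2 ⟨o2C_le (hXO hm), htm, (eab_iff.1 hel).2 m hm⟩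
        exact (mem_centralizer_iff.1 (h1 hp) m h2).symm
      · by_cases h2 : P ≤ centralizer ((R ⊓ zc (S : Subgroup G) : Subgroup G) : Set G)
        · right
          left
          intro m hm htm p hp
          exact (mem_centralizer_iff.1 (h2 hp) m (hP.fixR hm htm)).symm
        · right
          right
          rcases hP.alt h0 with h3 | h3
          · refine ⟨hP.le_o2_one hFO hFR hF2 hPP, h3, ?_⟩
            exact le_inf (le_inf (le_inf (h1.trans hP.nR) (h1.trans hP.nB)) (h.pX P h0 h3 h2))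
              (le_inf (hP.nJ h0 h3) (h1.trans le_normalizer))
          · exact (h2 (hP.le_K2 h3)).elim
    bad := fun d hd hdQ hdo hcom => bad d hd hdQ.1.1.1 hdQ.1.1.2 hdQ.2.1 hdQ.2.2 hdo hcom
    sqA := (eab_iff.1 hF.1).2
    AZ := hF2.trans (o2_le_o2 S (le_inf hSK hP.lK2.le) inf_le_right)
    AX := hFB.trans ((o2_le _).trans (centralizer_le h.XB))
    nk := by
      rw [V_eq_zl]
      exact hc
    mv := fun hcon => hm (hcon.trans (centralizer_le hUX))
    no := by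
      intro X hX
      have e1 : (centralizer (X₁ : Set G)).relIndex X =
          (centralizer (zl (S : Subgroup G) (centralizer ({e} : Set G)) : Set G)).relIndex X := by
        refine relIndex_congr (le_antisymm (inf_le_inf_left _ (centralizer_le hUX)) (le_inf inf_le_left ?_))
        exact (inf_le_inf_right _ hX).trans hc
      rw [e1]
      exact (gml hM h.ctx hP.lK1 (hP.kg hP.lK1) (hX.trans hFO) (fun a ha => (eab_iff.1 hF.1).2 a (hX ha))).trans
        (ri_mono _ hUX)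
    le := he.ge
    K := hP.kg hP.lK1 }

/-- **The frame of the nonsplit case is contradictory.** -/
theorem FrN.false_of (hR : NO3b.EndX.RedP.{u, u}) (hE : ML.Ex.Two.Ext.{u, u})
    (bad : ∀ d ∈ centralizer ({e} : Set G), d ∈ normalizer (R : Set G) → d ∈ normalizer (B : Set G) →
      d ∈ normalizer (((S : Subgroup G) ⊓ centralizer (R : Set G) : Subgroup G) : Set G) →
      d ∈ normalizer (YS (S : Subgroup G) : Set G) → Odd (orderOf d) →
      (∀ j ∈ (S : Subgroup G) ⊓ centralizer (R : Set G), ∀ w ∈ B,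
        (j * d * j⁻¹ * d⁻¹) * (d * w * d⁻¹ * w⁻¹) = (d * w * d⁻¹ * w⁻¹) * (j * d * j⁻¹ * d⁻¹)) →
      d ∈ centralizer (B : Set G)) : False := by
  rcases h.toFrP.main hM with ⟨A, hA, _, hA1, F, hFA, hFQ, hm, he⟩ |
    ⟨X₁, hel, hn, hVX, hUX, hXO, F, hF, _, hF2, hFB, hm, _, hc, he⟩
  · obtain ⟨X, i1, i2, N, i3, i4, i5, T', A', J', Q', Z₁, Y', hI⟩ := (h.ginR2 hM hA hA1 hFA hFQ hm he).inpR
    exact hI.false_of hM hR hE
  · exact (h.ginN1 hM hel hn hVX hUX hXO hF hF2 hFB hm hc he bad).false_of hM hR hE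

end frn

end Cfsg.Agent.Omega.NOThreeL.RZ.TwoC

end

-- merged: Cfsg.Agent.Mrg.Omega.NOThreeL.RZ.TwoC.FrPOf
section

section


/-!
# [R-z], nonsplit (helper855 #26560, helper878, helper133 #25243): the frame `FrP` for `B = [V*, D]`, block-free

`V* = ⟨Z^Y⟩`, `Y = ⟨P*(S)⟩`, `D ≤ Y` normalised by `Y` and `N_G(S)`.

* `exa_of_AA` : `V* ≤ O`, no over-offenders: every `A ∈ AA(O)` is exact on `V*`;
* `low_of` : `C_Z(D) ≠ 1`, `1 ≠ e ∈ Z`, `Y = D C_Y(e)`, `[V*, D] ≤ ⟨Z^D⟩` imply `V* ≤ O₂(C_G(Z))`;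
* `frP_of` : all fields of `FrP S R [V*, D] e` for every `R ≤ V*` which is centralised by `D` and by the exact
  offenders of `S`.
-/

set_option autoImplicit false
set_option linter.unusedSectionVars false

namespace Cfsg.Agent.Omega.NOThreeL.RZ.TwoC.FrPOf

open Subgroup Cfsg
open Cfsg.Agent.ZN (o2 zc zl jj)
open Cfsg.Agent.ZN.ChoiceBase hiding mem_zc
open Cfsg.Agent.Omega.ML.GMod (hul hul_le hul_le_of le_hul cj_le_hul le_normalizer_hul nc)
open Cfsg.Agent.Omega.MinPar Cfsg.Agent.Omega.Frame Cfsg.Agent.Omega.FrameNOFF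
open Cfsg.Agent.Omega.FFThm (ElemM OffM NoOverM)
open Cfsg.Agent.Omega.NO1.BestOff (Best exists_best)
open Cfsg.Agent.Omega.NO3b.Bang (le_normalizer_sup cent_symm)
open Cfsg.Agent.Omega.NOThreeL.Star (YS le_YS S_le_YS zl_mono)
open Cfsg.Agent.Omega.NO3S.EThree.ExactA (eab_iff eab_mono)
open Cfsg.Agent.MinSimple.VModule (zc_le_zl le_normalizer_zl zl_le zc_le zc_sq mem_zc le_centralizer_zc
  le_normalizer_o2 o2_isPGroup o2_le le_o2 normalizer_le_normalizer_zc)
open Cfsg.Agent.Omega.NOThreeL.RTree (RB)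
open Cfsg.Agent.Omega.NOThreeL.RZ (norm_cent norm_V_of norm_commutator_of V_le_of le_norm_V V_mono)
open Cfsg.Agent.Omega.NOThreeL.RRed (Exa)
open Cfsg.Agent.Omega.NOThreeL.RRed.EOne (Vstar_eqD VC Vsq S_YS VS comm_leD VcZ_cent VcZ_le norm_commD)

universe u

variable {G : Type u} [Group G] [Finite G] {S : Sylow 2 G} {D R : Subgroup G} {e : G}

/-- **Every `A ∈ AA(O)` is exact on `V`**, if `V ≤ O` and there are no over-offenders. -/
theorem exa_of_AA {O V L A : Subgroup G} (hV : IsElementaryAbelian 2 V) (hVO : V ≤ O) (hA : A ∈ AA O) (hAL : A ≤ L)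
    (no : NoOverM V L) : ElemM V A ∧ Exa V A := by
  have hb := FrEOf.best_of_mem hV hVO hA
  refine ⟨hb.toElemM, ?_⟩
  have h1 := hb.max (A ⊓ centralizer (V : Set G)) inf_le_left le_rfl
  have h2 : V ⊓ centralizer ((A ⊓ centralizer (V : Set G) : Subgroup G) : Set G) = V :=
    inf_eq_left.2 (cent_symm inf_le_right)
  rw [h2] at h1
  have h3 := no A hAL hb.toElemM
  unfold Exa
  refine le_antisymm ?_ h3
  rwa [mul_comm] at h1

/-- **`V* ≤ O₂(C_G(Z))`** -/
theorem low_of (h : RB S) (hY : YS (S : Subgroup G) ≤ normalizer (D : Set G)) (hD : D ≤ YS (S : Subgroup G))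
    (hZ : zc (S : Subgroup G) ⊓ centralizer (D : Set G) ≠ ⊥) (eZ : e ∈ zc (S : Subgroup G)) (e1 : e ≠ 1)
    (tr : YS (S : Subgroup G) ≤ D ⊔ (YS (S : Subgroup G) ⊓ centralizer ({e} : Set G)))
    (gen : (⁅zl (S : Subgroup G) (YS S), D⁆ : Subgroup G) ≤ hul (zc (S : Subgroup G)) D) :
    zl (S : Subgroup G) (YS S) ≤ o2 (CZ (S : Subgroup G)) := by
  set R₀ : Subgroup G := NoFF.Basic.V (zc (S : Subgroup G) ⊓ centralizer (D : Set G)) (YS (S : Subgroup G)) with hR₀
  have hRD : R₀ ≤ centralizer (D : Set G) := VcZ_cent hY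
  have hDR : D ≤ centralizer (R₀ : Set G) := cent_symm hRD
  have hZR : zc (S : Subgroup G) ⊓ centralizer (D : Set G) ≤ R₀ ⊓ zc (S : Subgroup G) :=
    le_inf (RZ.Z_le _ _) inf_le_left
  have hRV : R₀ ≤ zl (S : Subgroup G) (YS S) := VcZ_le
  have ne : R₀ ⊓ zc (S : Subgroup G) ≠ ⊥ := fun h0 => hZ (le_bot_iff.1 (h0 ▸ hZR))
  refine LowP.low_star (R := R₀) (B := (⁅zl (S : Subgroup G) (YS S), D⁆ : Subgroup G)) h.ctx.char2 (le_norm_V _ _)
    (S.isPGroup'.to_le (hRV.trans (VS h))) (V_mono hZR le_rfl) ne eZ e1 ?_ (gen.trans ?_) (Vstar_eqD h hY hD).le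
  · exact tr.trans (sup_le ((le_inf hD hDR).trans le_sup_left) le_sup_right)
  · exact hul_le_of (le_hul _ _) (hDR.trans (le_normalizer_hul _ _))

/-- **The frame `FrP S R [V*, D] e`.** -/
theorem frP_of (h : RB S) (hY : YS (S : Subgroup G) ≤ normalizer (D : Set G)) (hD : D ≤ YS (S : Subgroup G))
    (nD : normalizer ((S : Subgroup G) : Set G) ≤ normalizer (D : Set G))
    (hZ : zc (S : Subgroup G) ⊓ centralizer (D : Set G) ≠ ⊥) (eZ : e ∈ zc (S : Subgroup G))
    (eB : e ∈ (⁅zl (S : Subgroup G) (YS S), D⁆ : Subgroup G)) (e1 : e ≠ 1)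
    (tr : YS (S : Subgroup G) ≤ D ⊔ (YS (S : Subgroup G) ⊓ centralizer ({e} : Set G)))
    (gen : (⁅zl (S : Subgroup G) (YS S), D⁆ : Subgroup G) ≤ hul (zc (S : Subgroup G)) D)
    (no : NoOverM (zl (S : Subgroup G) (YS S)) (YS (S : Subgroup G)))
    (RV : R ≤ zl (S : Subgroup G) (YS S)) (nR : YS (S : Subgroup G) ≤ normalizer (R : Set G))
    (nSR : normalizer ((S : Subgroup G) : Set G) ≤ normalizer (R : Set G)) (RD : R ≤ centralizer (D : Set G))
    (ne : R ⊓ zc (S : Subgroup G) ≠ ⊥)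
    (hex : ∀ A ≤ (S : Subgroup G), ElemM (zl (S : Subgroup G) (YS S)) A → Exa (zl (S : Subgroup G) (YS S)) A →
      A ≤ centralizer (R : Set G)) :
    FrP S R (⁅zl (S : Subgroup G) (YS S), D⁆ : Subgroup G) e := by
  have low := low_of h hY hD hZ eZ e1 tr gen
  have hsq : ∀ v ∈ zl (S : Subgroup G) (YS S), v ^ 2 = 1 := Vsq h
  have nB : normalizer ((S : Subgroup G) : Set G) ≤
      normalizer ((⁅zl (S : Subgroup G) (YS S), D⁆ : Subgroup G) : Set G) := norm_commutator_of RZ.Frm.nS_Vs nD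
  exact
    { ctx := h.ctx
      full := h.full
      nR := nR
      nB := norm_commD hY
      sE := inf_le_right.trans (le_inf nSR nB)
      sZ := inf_le_right.trans (le_inf nSR nB)
      RV := RV
      BV := comm_leD hD
      ne := ne
      hA := fun A hA => by
        have hAS : A ≤ (S : Subgroup G) := hA.2.1.trans Loc.o2C_le
        obtain ⟨h1, h2⟩ := exa_of_AA (eab_iff.2 ⟨VC h, hsq⟩) low hA (hAS.trans (S_YS h)) no
        exact hex A hAS h1 h2
      low := low
      vc := VC h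
      vs := hsq
      eZ := eZ
      eB := eB
      e1 := e1
      tr := tr.trans (sup_le ((le_inf hD (cent_symm RD)).trans le_sup_left) le_sup_right) }

end Cfsg.Agent.Omega.NOThreeL.RZ.TwoC.FrPOf

end

section


/-!
# The frame of `AbV.lean` with a variable group `Y` instead of `⟨P*(S)⟩` (bb #27002, #25865, #25243)

`S ≤ Y` normalises `R` and `B`, `V = ⟨Z^Y⟩`; every `P ∈ P*(S)` which centralises `e` or `Z₀` lies in `Y`; `N(S) ∩ C(e)` and
`N(S) ∩ C(Z₀)` normalise `R`, `B`, `Y`; no `2`-group `≠ 1` is normalised by `C_G(e)` and `C_Y(R)`.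

* `FrY S Y R B Z₀ e` : the frame;  **`FrY.main`** : (alpha) or (beta);
* `FrY.altX`, `FrY.le_o2_one`, `FrY.le_o2_two`, `FrY.sep`.
-/

set_option autoImplicit false
set_option linter.unusedSectionVars false

namespace Cfsg.Agent.Omega.NOThreeL.RZ.TwoC

open Subgroup Cfsg
open Cfsg.Agent.ZN (o2 zc zl jj)
open Cfsg.Agent.ZN.ChoiceBase hiding mem_zc
open Cfsg.Agent.Omega.ML.Final (MLK)
open Cfsg.Agent.Omega.ML.GMod (hul hul_le hul_le_of le_hul cj_le_hul le_normalizer_hul nc ri_mono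
  normalizer_le_normalizer_o2)
open Cfsg.Agent.Omega.MinPar Cfsg.Agent.Omega.Frame Cfsg.Agent.Omega.FrameNOFF
open Cfsg.Agent.Omega.NO3b.Bang (le_normalizer_sup cent_symm)
open Cfsg.Agent.Omega.NOThreeL.Star (YS le_YS S_le_YS zl_mono)
open Cfsg.Agent.Omega.NO3S.EThree.ExactA (eab_iff eab_mono)
open Cfsg.Agent.Omega.EK3.Rank (NoOn)
open Cfsg.Agent.Omega.NoFF.Basic (comm_symm)
open Cfsg.Agent.Omega.GI (relIndex_congr relIndex_sup_of_comm)
open Cfsg.Agent.MinSimple.VModule (zc_le_zl le_normalizer_zl zl_le zc_le zc_sq zc_comm mem_zc le_centralizer_zc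
  le_normalizer_o2 o2_isPGroup o2_le le_o2 normalizer_le_normalizer_zc)
open Cfsg.Agent.Omega.NOThreeL.RZ.TwoC.Loc (gml o2C_le inf_cent_le norm_inf)
open Cfsg.Agent.Omega.NOThreeL.RZ.TwoC.SideP (NoA TwoP)

universe u

variable {G : Type u} [Group G]

/-- **The frame.** -/
structure FrY [Finite G] (S : Sylow 2 G) (Y R B Z₀ : Subgroup G) (e : G) : Prop where
  ctx : Ctx G
  SY : (S : Subgroup G) ≤ Y
  nR : Y ≤ normalizer (R : Set G)
  nB : Y ≤ normalizer (B : Set G)
  sE : centralizer ({e} : Set G) ⊓ normalizer ((S : Subgroup G) : Set G) ≤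
    normalizer (R : Set G) ⊓ normalizer (B : Set G) ⊓ normalizer (Y : Set G)
  sZ : centralizer (Z₀ : Set G) ⊓ normalizer ((S : Subgroup G) : Set G) ≤
    normalizer (R : Set G) ⊓ normalizer (B : Set G) ⊓ normalizer (Y : Set G)
  parY : ∀ P, IsParS (S : Subgroup G) P → (P ≤ centralizer ({e} : Set G) ∨ P ≤ centralizer (Z₀ : Set G)) → P ≤ Y
  RV : R ≤ zl (S : Subgroup G) Y
  BV : B ≤ zl (S : Subgroup G) Y
  Z0R : Z₀ ≤ R ⊓ zc (S : Subgroup G)
  ne : Z₀ ≠ ⊥
  hA : ∀ A ∈ AA (o2 (CZ (S : Subgroup G))), A ≤ o2 (centralizer (Z₀ : Set G)) → A ≤ centralizer (R : Set G)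
  low : zl (S : Subgroup G) Y ≤ o2 (CZ (S : Subgroup G))
  vc : zl (S : Subgroup G) Y ≤ centralizer (zl (S : Subgroup G) Y : Set G)
  vs : ∀ v ∈ zl (S : Subgroup G) Y, v ^ 2 = 1
  eZ : e ∈ zc (S : Subgroup G)
  eB : e ∈ B
  e1 : e ≠ 1
  nl : ∀ U : Subgroup G, IsPGroup 2 U → centralizer ({e} : Set G) ≤ normalizer (U : Set G) →
    Y ⊓ centralizer (R : Set G) ≤ normalizer (U : Set G) → U = ⊥
  spl : B ⊓ R = ⊥

namespace FrY

variable [Finite G] {S : Sylow 2 G} {Y R B Z₀ : Subgroup G} {e : G} (h : FrY S Y R B Z₀ e)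
include h

theorem S_le_ys : (S : Subgroup G) ≤ Y := h.SY

theorem vel : IsElementaryAbelian 2 (zl (S : Subgroup G) Y) := eab_iff.2 ⟨h.vc, h.vs⟩

theorem vS : zl (S : Subgroup G) Y ≤ (S : Subgroup G) := h.low.trans o2C_le

theorem R2 : IsPGroup 2 R := S.isPGroup'.to_le (h.RV.trans h.vS)

theorem R1 : R ≠ ⊥ := fun e => h.ne (le_bot_iff.1 (e ▸ h.Z0R.trans inf_le_left))

theorem zc_ne : zc (S : Subgroup G) ≠ ⊥ := MinSimple.Basic.zc_ne_bot S.isPGroup' (h.ctx.sylow_ne_bot S)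

theorem kg {X : Subgroup G} (hL : IsLoc (S : Subgroup G) X) : IsKGroup X :=
  ML.GNN.kgroup_of_isLoc h.ctx h.ctx.not_isPGroup hL

/-! ### `K₁`, `K₂` -/

theorem C1 : CZ (S : Subgroup G) ≤ centralizer ({e} : Set G) := centralizer_le (Set.singleton_subset_iff.2 h.eZ)

theorem C2 : CZ (S : Subgroup G) ≤ centralizer (Z₀ : Set G) :=
  centralizer_le (h.Z0R.trans inf_le_right)

theorem lK1 : IsLoc (S : Subgroup G) (centralizer ({e} : Set G)) := RZ.LowR.isLoc_cent h.eZ h.e1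

theorem lK2 : IsLoc (S : Subgroup G) (centralizer (Z₀ : Set G)) :=
  isLoc_of_le_normalizer S ((le_CZ S).trans h.C2) (h.R2.to_le (h.Z0R.trans inf_le_left)) h.ne (centralizer_le_normalizer _)

theorem RK : centralizer (R : Set G) ≤ centralizer (Z₀ : Set G) :=
  centralizer_le (h.Z0R.trans inf_le_left)

/-- `Y C_G(R)` is local -/
theorem lX : IsLoc (S : Subgroup G) (Y ⊔ centralizer (R : Set G)) :=
  isLoc_of_le_normalizer S (h.S_le_ys.trans le_sup_left) h.R2 h.R1 (sup_le h.nR (centralizer_le_normalizer _))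

/-- `P ∈ P(S)`, `P ≤ K₁` or `P ≤ K₂` is in `C` or in `Y` -/
theorem le_of_par {P : Subgroup G} (hP : IsPar (S : Subgroup G) P)
    (hK : P ≤ centralizer ({e} : Set G) ∨ P ≤ centralizer (Z₀ : Set G)) : P ≤ CZ (S : Subgroup G) ∨
    (IsParS (S : Subgroup G) P ∧ P ≤ Y) := by
  by_cases hz : P ≤ normalizer (zc (S : Subgroup G) : Set G)
  · exact Or.inl (Nz.le_centralizer_of hP hz)
  · exact Or.inr ⟨⟨hP, hz⟩, h.parY P ⟨hP, hz⟩ hK⟩

/-! ### `V* ≤ A` -/

/-- **`O₂(C_G(R))` centralises `V*`** -/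
theorem QR_cent : o2 (centralizer (R : Set G)) ≤ centralizer (zl (S : Subgroup G) Y : Set G) := by
  have hn : Y ≤ normalizer (o2 (centralizer (R : Set G)) : Set G) :=
    (h.nR.trans (nc _)).trans (normalizer_le_normalizer_o2 _)
  have hS : o2 (centralizer (R : Set G)) ≤ (S : Subgroup G) :=
    le_of_le_normalizer S (o2_isPGroup _) (h.S_le_ys.trans hn)
  refine comm_symm (zl_le (comm_symm (hS.trans (le_CZ S))) ?_)
  exact hn.trans (nc _)

/-- `O₂(K) ∩ C_G(R) ≤ O₂(C_G(R))` for `K ≥ C_G(R)` -/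
theorem inf_le_QR {K : Subgroup G} (hK : centralizer (R : Set G) ≤ K) :
    o2 K ⊓ centralizer (R : Set G) ≤ o2 (centralizer (R : Set G)) :=
  le_o2 inf_le_right ((o2_isPGroup _).to_le inf_le_left)
    (le_trans (le_inf (hK.trans (le_normalizer_o2 _)) Subgroup.le_normalizer) inf_normalizer_le_normalizer_inf)

theorem inf_le_QB {K : Subgroup G} (hK : centralizer (B : Set G) ≤ K) :
    o2 K ⊓ centralizer (B : Set G) ≤ o2 (centralizer (B : Set G)) :=
  le_o2 inf_le_right ((o2_isPGroup _).to_le inf_le_left)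
    (le_trans (le_inf (hK.trans (le_normalizer_o2 _)) Subgroup.le_normalizer) inf_normalizer_le_normalizer_inf)

theorem BK : centralizer (B : Set G) ≤ centralizer ({e} : Set G) :=
  centralizer_le (Set.singleton_subset_iff.2 h.eB)

/-- `NR = ⟨Z^{Y C_G(R)}⟩ ≤ W₂` -/
theorem NR_le : zl (S : Subgroup G) (Y ⊔ centralizer (R : Set G)) ≤
    hul (zl (S : Subgroup G) Y) (centralizer (Z₀ : Set G)) := by
  refine le_trans (zl_le ((zc_le_zl _ _).trans (le_hul (zl (S : Subgroup G) Y) (centralizer (R : Set G)))) ?_)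
    (hul_mono h.RK)
  exact sup_le (norm_hul (le_normalizer_zl _ _) (h.nR.trans (nc _))) (le_normalizer_hul _ _)

variable (hM : MLK.{u, u})
include hM

/-- every `A ∈ AA(C_O(⟨Z^{K₂}⟩))` centralises `V*` -/
theorem cent_V {A : Subgroup G} (hA : A ∈ AA (o2 (CZ (S : Subgroup G)) ⊓
    centralizer (zl (S : Subgroup G) (centralizer (Z₀ : Set G)) : Set G))) :
    A ≤ centralizer (zl (S : Subgroup G) Y : Set G) := by
  have hU := h.lK2.zl_le S h.ctx.char2
  have hO2 : o2 (centralizer (Z₀ : Set G)) ≤ o2 (CZ (S : Subgroup G)) :=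
    o2_le_o2 S (le_CZ S) h.C2
  have hel : IsElementaryAbelian 2 (zl (S : Subgroup G) (centralizer (Z₀ : Set G))) :=
    eab_iff.2 ⟨fun x hx => mem_centralizer_iff.2 fun y hy => zc_comm _ _ (hU hy) _ (hU hx), fun x hx => zc_sq _ _ (hU hx)⟩
  have h1 : A ∈ AA (o2 (CZ (S : Subgroup G))) :=
    EK3.Rank.mem_AA_of_inf hel ((hU.trans (zc_le _)).trans hO2)
      (fun A' hel' hA' => gml hM h.ctx h.lK2 (h.kg h.lK2) hA' (eab_iff.1 hel').2) hA
  have h2 : A ≤ o2 (centralizer (Z₀ : Set G)) :=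
    hA.2.1.trans (inf_cent_le h.lK2.le (zc_le_zl _ _) (le_normalizer_zl _ _))
  exact ((le_inf h2 (h.hA A h1 h2)).trans (h.inf_le_QR h.RK)).trans h.QR_cent

/-- `W₂`: contained in every `A ∈ AA(C_O(⟨Z^{K₂}⟩))`, elementary abelian, `≤ O`, `(NO)` -/
theorem W2 :
    (∀ A ∈ AA (o2 (CZ (S : Subgroup G)) ⊓
      centralizer (zl (S : Subgroup G) (centralizer (Z₀ : Set G)) : Set G)),
      hul (zl (S : Subgroup G) Y) (centralizer (Z₀ : Set G)) ≤ A) ∧
    IsElementaryAbelian 2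
      (hul (zl (S : Subgroup G) Y) (centralizer (Z₀ : Set G))) ∧
    hul (zl (S : Subgroup G) Y) (centralizer (Z₀ : Set G)) ≤
      o2 (CZ (S : Subgroup G)) ∧
    NoA (o2 (CZ (S : Subgroup G)))
      (hul (zl (S : Subgroup G) Y) (centralizer (Z₀ : Set G))) := by
  have hU := h.lK2.zl_le S h.ctx.char2
  have hO2 : o2 (centralizer (Z₀ : Set G)) ≤ o2 (CZ (S : Subgroup G)) :=
    o2_le_o2 S (le_CZ S) h.C2
  refine SideP.noA_hul (U := zl (S : Subgroup G) (centralizer (Z₀ : Set G)))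
    (eab_iff.2 ⟨fun x hx => mem_centralizer_iff.2 fun y hy => zc_comm _ _ (hU hy) _ (hU hx),
      fun x hx => zc_sq _ _ (hU hx)⟩) ((hU.trans (zc_le _)).trans hO2)
    (fun A hA => gml hM h.ctx h.lK2 (h.kg h.lK2) hA.2.1 (eab_iff.1 hA.1).2)
    (norm_inf h.C2 (zc_le_zl _ _) (le_normalizer_zl _ _)) h.vel h.low ?_ fun A hA => h.cent_V hM hA
  exact zl_le ((zc_le_zl _ _).trans (le_hul _ _)) (le_normalizer_hul _ _)

/-- **The two sides.** -/
theorem twoP :
    TwoP (o2 (CZ (S : Subgroup G))) (CZ (S : Subgroup G)) (centralizer ({e} : Set G))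
      (centralizer (Z₀ : Set G))
      ((centralizer ({e} : Set G) ⊓ Y) ⊔
        (centralizer ({e} : Set G) ⊓ normalizer ((S : Subgroup G) : Set G)))
      (Y ⊓ centralizer (R : Set G))
      (zl (S : Subgroup G) (centralizer ({e} : Set G)))
      (hul (zl (S : Subgroup G) Y) (centralizer (Z₀ : Set G)))
      (zl (S : Subgroup G) (Y ⊔ centralizer (R : Set G)))
      (o2 (centralizer (B : Set G))) := by
  have hO1 : o2 (centralizer ({e} : Set G)) ≤ o2 (CZ (S : Subgroup G)) := o2_le_o2 S (le_CZ S) h.C1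
  have hz1 := h.lK1.zl_le S h.ctx.char2
  have hVW : zl (S : Subgroup G) Y ≤
      hul (zl (S : Subgroup G) Y) (centralizer (Z₀ : Set G)) := le_hul _ _
  obtain ⟨_, w1, w2, w3⟩ := h.W2 hM
  exact
  { D1 := h.C1
    D2 := h.C2
    e1 := sup_le inf_le_left inf_le_left
    g1 := by
      refine h.lK1.le_of_forall S (le_sup_right.trans le_sup_right) fun P hP hPK => ?_
      rcases h.le_of_par hP (Or.inl hPK) with h1 | h1
      · exact h1.trans le_sup_left
      · exact ((le_inf hPK h1.2).trans le_sup_left).trans le_sup_right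
    e2 := inf_le_right.trans h.RK
    el1 := eab_iff.2 ⟨fun x hx => mem_centralizer_iff.2 fun y hy => zc_comm _ _ (hz1 hy) _ (hz1 hx),
      fun x hx => zc_sq _ _ (hz1 hx)⟩
    el2 := w1
    UO := (hz1.trans (zc_le _)).trans hO1
    WO := w2
    KU := le_normalizer_zl _ _
    KW := le_normalizer_hul _ _
    q1 := norm_inf h.C1 (zc_le_zl _ _) (le_normalizer_zl _ _)
    q2 := norm_inf h.C2 ((zc_le_zl _ _).trans hVW) (le_normalizer_hul _ _)
    core1 := by
      intro X hX hn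
      have h1 : X ≤ o2 (centralizer ({e} : Set G)) := le_o2 (hX.trans ((o2_le _).trans h.C1)) ((o2_isPGroup _).to_le hX) hn
      intro x hx
      rw [mem_centralizer_iff]
      intro y hy
      exact ((mem_zc.1 (hz1 hy)).2.1 _ (h1 hx)).symm
    no1 := fun A hA => gml hM h.ctx h.lK1 (h.kg h.lK1) hA.2.1 (eab_iff.1 hA.1).2
    no2 := w3
    RW := h.NR_le
    ER := by
      refine sup_le (inf_le_right.trans (le_sup_left.trans (le_normalizer_zl _ _))) ?_
      intro n hn'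
      have hn := hn'.2
      have hnR := (h.sE hn').1.1
      have hnY := (h.sE hn').2
      have h1 : cj n (zl (S : Subgroup G) (Y ⊔ centralizer (R : Set G))) =
          zl (cj n (S : Subgroup G)) (cj n (Y ⊔ centralizer (R : Set G))) :=
        (MinSimple.CosetFam.zl_conj n _ _).symm
      rw [mem_normalizer_iff_cj, h1, cj_eq_of_mem_normalizer hn,
        cj_eq_of_mem_normalizer (le_normalizer_sup (A := zpowers n) (by rw [zpowers_le]; exact hnY)
          (by rw [zpowers_le]; exact nc _ hnR) (mem_zpowers n))]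
    noR := fun A hA => gml hM h.ctx h.lX (h.kg h.lX) (hA.2.1.trans inf_le_left) (eab_iff.1 hA.1).2
    qB := by
      refine le_trans (le_inf ?_ ?_) (h.inf_le_QB h.BK)
      · exact inf_le_left.trans (inf_cent_le h.lK1.le (zc_le_zl _ _) (le_normalizer_zl _ _))
      · exact inf_le_right.trans (centralizer_le (h.BV.trans hVW))
    EQ := (inf_le_left.trans h.nB).trans ((nc _).trans (normalizer_le_normalizer_o2 _))
    nonloc := fun X hX h1 h2 => h.nl X ((o2_isPGroup _).to_le hX) h1 h2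
    ne := fun e => h.zc_ne (le_bot_iff.1 (e ▸ zc_le_zl _ _)) }

/-- **(alpha) or (beta).** -/
theorem main :
    (∃ A ∈ AA (o2 (CZ (S : Subgroup G))), zl (S : Subgroup G) (centralizer ({e} : Set G)) ≤ A ∧
      A ≤ o2 (centralizer ({e} : Set G)) ∧ ∃ F : Subgroup G, F ≤ A ∧ F ≤ o2 (centralizer (R : Set G)) ∧
      ¬ F ≤ centralizer
        (hul (zl (S : Subgroup G) Y) (centralizer (Z₀ : Set G)) : Set G) ∧
      (centralizer (hul (zl (S : Subgroup G) Y)
        (centralizer (Z₀ : Set G)) : Set G)).relIndex F =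
        (centralizer (F : Set G)).relIndex
          (hul (zl (S : Subgroup G) Y) (centralizer (Z₀ : Set G)))) ∨
    (∃ X₁ : Subgroup G, IsElementaryAbelian 2 X₁ ∧ centralizer ({e} : Set G) ≤ normalizer (X₁ : Set G) ∧
      zl (S : Subgroup G) Y ≤ X₁ ∧ zl (S : Subgroup G) (centralizer ({e} : Set G)) ≤ X₁ ∧
      X₁ ≤ o2 (CZ (S : Subgroup G)) ∧
      ∃ F ∈ AA (o2 (CZ (S : Subgroup G))), zl (S : Subgroup G) Y ≤ F ∧
        F ≤ o2 (centralizer (Z₀ : Set G)) ∧
        F ≤ o2 (centralizer (B : Set G)) ∧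
        ¬ F ≤ centralizer (zl (S : Subgroup G) (centralizer ({e} : Set G)) : Set G) ∧
        ¬ F ≤ o2 (centralizer ({e} : Set G)) ∧
        F ⊓ centralizer (zl (S : Subgroup G) (centralizer ({e} : Set G)) : Set G) ≤ centralizer (X₁ : Set G) ∧
        (centralizer (X₁ : Set G)).relIndex F = (centralizer (F : Set G)).relIndex X₁) := by
  have D := h.twoP hM
  have hVW : zl (S : Subgroup G) Y ≤
      hul (zl (S : Subgroup G) Y) (centralizer (Z₀ : Set G)) := le_hul _ _
  rcases D.main with ⟨A, hA, hAO, hU, hm, he⟩ | ⟨X₁, _, hel, hn, hW, hU, hO, _, _, F, hF, hFO, hWF, hQ, hm, hc, he⟩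
  · refine Or.inl ⟨A, hAO, hU, hA.2.1.trans (inf_cent_le h.lK1.le (zc_le_zl _ _) (le_normalizer_zl _ _)), _,
      inf_le_left, ?_, hm, he⟩
    have h1 : A ⊓ centralizer (zl (S : Subgroup G) (Y ⊔ centralizer (R : Set G)) : Set G) ≤
        o2 (Y ⊔ centralizer (R : Set G)) :=
      (inf_le_inf_right _ hAO.2.1).trans (inf_cent_le h.lX.le (zc_le_zl _ _) (le_normalizer_zl _ _))
    exact (le_inf h1 (inf_le_right.trans (centralizer_le (h.RV.trans (zl_mono le_sup_left))))).trans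
      (h.inf_le_QR le_sup_right)
  · refine Or.inr ⟨X₁, hel, hn, hVW.trans hW, hU, hO, F, hFO, hVW.trans hWF, ?_, hQ, hm, ?_, hc, he⟩
    · exact hF.2.1.trans (inf_cent_le h.lK2.le ((zc_le_zl _ _).trans hVW) (le_normalizer_hul _ _))
    · intro hcon
      apply hm
      have hz1 := h.lK1.zl_le S h.ctx.char2
      intro x hx
      rw [mem_centralizer_iff]
      intro y hy
      exact ((mem_zc.1 (hz1 hy)).2.1 _ (hcon hx)).symm

omit hM

/-! ### The minimal parabolics -/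

/-- `P ∈ P*(S)`, `X = R` or `B`: `C_S(X) ≤ O₂(P)` or `P = C_P(X) S` -/
theorem altX {X P : Subgroup G} (nX : Y ≤ normalizer (X : Set G)) (hP : IsParS (S : Subgroup G) P) (hPY : P ≤ Y) :
    (S : Subgroup G) ⊓ centralizer (X : Set G) ≤ o2 P ∨ (P ⊓ centralizer (X : Set G)) ⊔ (S : Subgroup G) = P := by
  have hPR : P ≤ normalizer (X : Set G) := hPY.trans nX
  have hn : P ≤ normalizer ((P ⊓ centralizer (X : Set G) : Subgroup G) : Set G) := by
    intro p hp
    rw [mem_normalizer_iff_cj, cj_inf, cj_centralizer, cj_eq_of_mem_normalizer (le_normalizer hp),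
      cj_eq_of_mem_normalizer (hPR hp)]
  rcases hP.toIsPar.sup_eq_or_inf_le S inf_le_left hn with h1 | h1
  · exact Or.inr h1
  · exact Or.inl ((le_inf inf_le_left (le_inf (inf_le_left.trans hP.le) inf_le_right)).trans h1)

/-- then `P` centralises `X ∩ Z` -/
theorem le_of_alt {X P : Subgroup G} (h1 : (P ⊓ centralizer (X : Set G)) ⊔ (S : Subgroup G) = P) :
    P ≤ centralizer ((X ⊓ zc (S : Subgroup G) : Subgroup G) : Set G) := by
  rw [← h1]
  exact sup_le (inf_le_right.trans (centralizer_le inf_le_left))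
    ((le_CZ S).trans (centralizer_le inf_le_right))

/-- `P ∈ P*(S)` with `C_S(X) ≤ O₂(P)` normalises `C_S(X)` -/
theorem nJ {X P : Subgroup G} (nX : Y ≤ normalizer (X : Set G)) (hP : IsParS (S : Subgroup G) P) (hPY : P ≤ Y)
    (h1 : (S : Subgroup G) ⊓ centralizer (X : Set G) ≤ o2 P) :
    P ≤ normalizer (((S : Subgroup G) ⊓ centralizer (X : Set G) : Subgroup G) : Set G) := by
  have e : (S : Subgroup G) ⊓ centralizer (X : Set G) = o2 P ⊓ centralizer (X : Set G) :=
    le_antisymm (le_inf h1 inf_le_right) (inf_le_inf_right _ (hP.isLoc.o2_le S))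
  rw [e]
  intro p hp
  rw [mem_normalizer_iff_cj, cj_inf, cj_centralizer, cj_eq_of_mem_normalizer (le_normalizer_o2 P hp),
    cj_eq_of_mem_normalizer (nX (hPY hp))]

/-- **side 1**: `F ≤ O₂(P)` for all `P ∈ P(S)` -/
theorem le_o2_one {F : Subgroup G} (hFO : F ≤ o2 (CZ (S : Subgroup G))) (hFR : F ≤ centralizer (R : Set G))
    (hF2 : F ≤ o2 (centralizer (Z₀ : Set G))) {P : Subgroup G} (hP : IsPar (S : Subgroup G) P)
    (hK : P ≤ centralizer ({e} : Set G) ∨ P ≤ centralizer (Z₀ : Set G)) : F ≤ o2 P := by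
  rcases h.le_of_par hP hK with h1 | ⟨h1, hPY⟩
  · exact hFO.trans (o2_le_o2 S hP.le h1)
  · rcases h.altX h.nR h1 hPY with h2 | h2
    · exact (le_inf (hFO.trans Loc.o2C_le) hFR).trans h2
    · exact hF2.trans (o2_le_o2 S hP.le ((h.le_of_alt h2).trans (centralizer_le h.Z0R)))

theorem nQR : (S : Subgroup G) ≤ normalizer (o2 (centralizer (R : Set G)) : Set G) :=
  ((h.S_le_ys.trans h.nR).trans (nc _)).trans (normalizer_le_normalizer_o2 _)

theorem QR_le : o2 (centralizer (R : Set G)) ≤ (S : Subgroup G) :=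
  le_of_le_normalizer S (o2_isPGroup _) h.nQR

/-- **side 2**: `F ≤ O₂(P)` for all `P ∈ P(S)` -/
theorem le_o2_two {F : Subgroup G} (hFO : F ≤ o2 (CZ (S : Subgroup G)))
    (hFQ : F ≤ o2 (centralizer (R : Set G))) {P : Subgroup G}
    (hP : IsPar (S : Subgroup G) P) (hK : P ≤ centralizer ({e} : Set G) ∨ P ≤ centralizer (Z₀ : Set G)) :
    F ≤ o2 P := by
  rcases h.le_of_par hP hK with h1 | ⟨h1, hPY⟩
  · exact hFO.trans (o2_le_o2 S hP.le h1)
  · rcases h.altX h.nR h1 hPY with h2 | h2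
    · exact (le_inf (hFO.trans Loc.o2C_le) (hFQ.trans (o2_le _))).trans h2
    · refine hFQ.trans (le_o2 (h.QR_le.trans hP.le) (o2_isPGroup _) ?_)
      rw [← h2]
      exact sup_le (inf_le_right.trans (le_normalizer_o2 _)) h.nQR

/-- `C_{V*}(S) ≤ Z` -/
theorem fixV {v : G} (hv : v ∈ zl (S : Subgroup G) Y) (hs : ∀ s ∈ (S : Subgroup G), s * v = v * s) :
    v ∈ zc (S : Subgroup G) := mem_zc.2 ⟨h.vS hv, hs, h.vs v hv⟩

/-- **`g ∈ N(R) ∩ N(B)` which centralises `z y` centralises `z` and `y`** -/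
theorem sep {g z y : G} (hgR : g ∈ normalizer (R : Set G)) (hgB : g ∈ normalizer (B : Set G)) (hz : z ∈ R) (hy : y ∈ B)
    (hc : g * (z * y) = z * y * g) : g * z = z * g ∧ g * y = y * g := by
  have h1 : g * z * g⁻¹ ∈ R := (mem_normalizer_iff.1 hgR z).1 hz
  have h2 : g * y * g⁻¹ ∈ B := (mem_normalizer_iff.1 hgB y).1 hy
  have e1 : z⁻¹ * (g * z * g⁻¹) = y * (g * y * g⁻¹)⁻¹ := by
    have e2 : g * z * g⁻¹ * (g * y * g⁻¹) = z * y := by
      calc g * z * g⁻¹ * (g * y * g⁻¹) = g * (z * y) * g⁻¹ := by group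
        _ = z * y * g * g⁻¹ := by rw [hc]
        _ = z * y := by group
    calc z⁻¹ * (g * z * g⁻¹) = z⁻¹ * (g * z * g⁻¹ * (g * y * g⁻¹)) * (g * y * g⁻¹)⁻¹ := by group
      _ = z⁻¹ * (z * y) * (g * y * g⁻¹)⁻¹ := by rw [e2]
      _ = y * (g * y * g⁻¹)⁻¹ := by group
  have h3 : z⁻¹ * (g * z * g⁻¹) ∈ B ⊓ R :=
    ⟨by rw [e1]; exact B.mul_mem hy (B.inv_mem h2), R.mul_mem (R.inv_mem hz) h1⟩
  rw [h.spl, mem_bot] at h3
  have h4 : g * z * g⁻¹ = z := (inv_mul_eq_one.1 h3).symm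
  have h5 : g * y * g⁻¹ = y := by
    rw [h3] at e1
    exact (mul_inv_eq_one.1 e1.symm).symm
  exact ⟨mul_inv_eq_iff_eq_mul.1 h4, mul_inv_eq_iff_eq_mul.1 h5⟩

end FrY

end Cfsg.Agent.Omega.NOThreeL.RZ.TwoC

end

section


/-!
# Both sides of the frame `FrY` (variable `Y`) are impossible (bb #27002, #25865, #25243)

* `QY S Y R B J` = `⟨Y, N(S)⟩ ∩ N(R) ∩ N(B) ∩ N(J)`;
* **`FrY.alpha`** (side 2), **`FrY.beta`** (side 1), **`FrY.false_of`**.
-/

set_option autoImplicit false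
set_option linter.unusedSectionVars false

namespace Cfsg.Agent.Omega.NOThreeL.RZ.TwoC

open Subgroup Cfsg
open Cfsg.Agent.ZN (o2 zc zl jj)
open Cfsg.Agent.ZN.ChoiceBase hiding mem_zc
open Cfsg.Agent.Omega.ML.Final (MLK)
open Cfsg.Agent.Omega.ML.GMod (hul hul_le hul_le_of le_hul cj_le_hul le_normalizer_hul nc ri_mono
  normalizer_le_normalizer_o2)
open Cfsg.Agent.Omega.MinPar Cfsg.Agent.Omega.Frame Cfsg.Agent.Omega.FrameNOFF
open Cfsg.Agent.Omega.NO3b.Bang (le_normalizer_sup cent_symm)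
open Cfsg.Agent.Omega.NOThreeL.Star (YS le_YS S_le_YS zl_mono)
open Cfsg.Agent.Omega.NO3S.EThree.ExactA (eab_iff eab_mono)
open Cfsg.Agent.Omega.NoFF.Basic (comm_symm V V_le Z_le_V mem_conj)
open Cfsg.Agent.Omega.GI (relIndex_congr relIndex_sup_of_comm)
open Cfsg.Agent.MinSimple.VModule (zc_le_zl le_normalizer_zl zl_le zc_le zc_sq zc_comm mem_zc le_centralizer_zc
  le_normalizer_o2 o2_isPGroup o2_le le_o2 normalizer_le_normalizer_zc)
open Cfsg.Agent.MinSimple.Basic (not_dvd_relIndex)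
open Cfsg.Agent.MinSimple.MinParabolic (IsMinPar)
open Cfsg.Agent.Omega.NOThreeL.RZ.TwoC.Loc (gml o2C_le inf_cent_le norm_inf)
open Cfsg.Agent.Omega.NOThreeL.RZ.TwoC.SideP (NoA TwoP exch_inf)
open Cfsg.Agent.Omega.NO3b.EndX (RedP)
open Cfsg.Agent.Omega.KL.StarR (GInR)
open scoped Pointwise

universe u

variable {G : Type u} [Group G]

/-- the elements of `⟨Y, N(S)⟩` which normalise `R`, `B` and `J` -/
def QY (S Y R B J : Subgroup G) : Subgroup G :=
  (Y ⊔ normalizer (S : Set G)) ⊓ normalizer (R : Set G) ⊓ normalizer (B : Set G) ⊓ normalizer (J : Set G)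

namespace FrY

variable [Finite G] {S : Sylow 2 G} {Y R B Z₀ : Subgroup G} {e : G} (h : FrY S Y R B Z₀ e)
include h

/-- `C ∩ Q` for the two sides -/
theorem nS_QQ {X J K : Subgroup G} (hX : K ⊓ normalizer ((S : Subgroup G) : Set G) ≤
    normalizer (R : Set G) ⊓ normalizer (B : Set G) ⊓ normalizer (Y : Set G)) (hJ : J = (S : Subgroup G) ⊓ centralizer (X : Set G))
    (hN : normalizer (R : Set G) ⊓ normalizer (B : Set G) ≤ normalizer (X : Set G)) :
    K ⊓ normalizer ((S : Subgroup G) : Set G) ≤ QY (S : Subgroup G) Y R B J := by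
  intro g hg
  have h1 := (hX hg).1
  have h2 : g ∈ normalizer (((S : Subgroup G) ⊓ centralizer (X : Set G) : Subgroup G) : Set G) := by
    rw [mem_normalizer_iff_cj, cj_inf, cj_centralizer, cj_eq_of_mem_normalizer hg.2,
      cj_eq_of_mem_normalizer (hN h1)]
  exact ⟨⟨⟨le_sup_right (a := Y) hg.2, h1.1⟩, h1.2⟩, hJ ▸ h2⟩

theorem par_QQ {X P : Subgroup G} (nX : Y ≤ normalizer (X : Set G))
    (hP : IsParS (S : Subgroup G) P) (hPY : P ≤ Y) (h1 : (S : Subgroup G) ⊓ centralizer (X : Set G) ≤ o2 P) :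
    P ≤ QY (S : Subgroup G) Y R B ((S : Subgroup G) ⊓ centralizer (X : Set G)) :=
  le_inf (le_inf (le_inf (hPY.trans le_sup_left) (hPY.trans h.nR)) (hPY.trans h.nB))
    (h.nJ nX hP hPY h1)

/-- `O₂(C_G(X)) ≤ O₂(C_G(X) S)` -/
theorem o2_sup {X K : Subgroup G} (nX : Y ≤ normalizer (X : Set G))
    (hK : centralizer (X : Set G) ≤ K) :
    o2 (centralizer (X : Set G)) ≤ o2 (K ⊓ centralizer (X : Set G) ⊔ (S : Subgroup G)) := by
  rw [inf_eq_right.2 hK]
  refine le_o2 ((o2_le _).trans le_sup_left) (o2_isPGroup _) (sup_le (le_normalizer_o2 _) ?_)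
  exact ((h.S_le_ys.trans nX).trans (nc _)).trans (normalizer_le_normalizer_o2 _)

variable (hM : MLK.{u, u}) (hR : RedP.{u, u}) (hE : ML.Ex.Two.Ext.{u, u})
include hM hR hE

/-- **side 2** -/
theorem alpha
    (b2 : R ⊓ zc (S : Subgroup G) ≤ Z₀ ∨
      BadG (centralizer (Z₀ : Set G) ⊓ QY (S : Subgroup G) Y R B ((S : Subgroup G) ⊓ centralizer (B : Set G)))
        ((S : Subgroup G) ⊓ centralizer (B : Set G)) R)
    {A F : Subgroup G} (hA : A ∈ AA (o2 (CZ (S : Subgroup G)))) (hAK : A ≤ o2 (centralizer ({e} : Set G)))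
    (hFA : F ≤ A) (hFR : F ≤ o2 (centralizer (R : Set G)))
    (hm : ¬ F ≤ centralizer (hul (zl (S : Subgroup G) Y) (centralizer (Z₀ : Set G)) : Set G))
    (he : (centralizer (hul (zl (S : Subgroup G) Y) (centralizer (Z₀ : Set G)) : Set G)).relIndex F =
      (centralizer (F : Set G)).relIndex (hul (zl (S : Subgroup G) Y) (centralizer (Z₀ : Set G)))) : False := by
  set W : Subgroup G := hul (zl (S : Subgroup G) Y) (centralizer (Z₀ : Set G)) with hW
  obtain ⟨w0, w1, w2, -⟩ := h.W2 hM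
  rw [← hW] at w0 w1 w2
  have hFO : F ≤ o2 (CZ (S : Subgroup G)) := hFA.trans hA.2.1
  have hFS : F ≤ (S : Subgroup G) := hFO.trans o2C_le
  have hSK : (S : Subgroup G) ≤ centralizer (Z₀ : Set G) := (le_CZ S).trans h.C2
  have hZB : (S : Subgroup G) ≤ centralizer ((B ⊓ zc (S : Subgroup G) : Subgroup G) : Set G) :=
    (le_CZ S).trans (centralizer_le inf_le_right)
  have hVW : zl (S : Subgroup G) Y ≤ W := le_hul _ _
  have hU := h.lK2.zl_le S h.ctx.char2
  have hUO : zl (S : Subgroup G) (centralizer (Z₀ : Set G)) ≤ o2 (CZ (S : Subgroup G)) :=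
    (hU.trans (zc_le _)).trans (o2_le_o2 S (le_CZ S) h.C2)
  have hUel : IsElementaryAbelian 2 (zl (S : Subgroup G) (centralizer (Z₀ : Set G))) :=
    eab_iff.2 ⟨fun x hx => mem_centralizer_iff.2 fun y hy => zc_comm _ _ (hU hy) _ (hU hx), fun x hx => zc_sq _ _ (hU hx)⟩
  have hno : NoA (o2 (CZ (S : Subgroup G))) (zl (S : Subgroup G) (centralizer (Z₀ : Set G))) :=
    fun A' hA' => gml hM h.ctx h.lK2 (h.kg h.lK2) hA'.2.1 (eab_iff.1 hA'.1).2
  have hUW : zl (S : Subgroup G) (centralizer (Z₀ : Set G)) ≤ W := zl_le ((zc_le_zl _ _).trans hVW) (le_normalizer_hul _ _)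
  -- `C_A(U₂)` centralises `W₂`
  have hker : A ⊓ centralizer (zl (S : Subgroup G) (centralizer (Z₀ : Set G)) : Set G) ≤ centralizer (W : Set G) := by
    have h1 := exch_inf hUel hUO hno hA
    exact le_sup_left.trans (((eab_iff.1 h1.1).1).trans (centralizer_le (w0 _ h1)))
  have hgml : ∀ C : Subgroup G, C ≤ F → (centralizer (W : Set G)).relIndex C ≤ (centralizer (C : Set G)).relIndex W := by
    intro C hC
    have e1 : (centralizer (W : Set G)).relIndex C =
        (centralizer (zl (S : Subgroup G) (centralizer (Z₀ : Set G)) : Set G)).relIndex C :=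
      relIndex_congr (le_antisymm (inf_le_inf_left _ (centralizer_le hUW))
        (le_inf inf_le_left ((inf_le_inf_right _ (hC.trans hFA)).trans hker)))
    rw [e1]
    exact (gml hM h.ctx h.lK2 (h.kg h.lK2) (hC.trans hFO) (eab_iff.1 (eab_mono hA.1 (hC.trans hFA))).2).trans
      (ri_mono _ hUW)
  have hEN : normalizer (R : Set G) ⊓ normalizer (B : Set G) ≤ normalizer (B : Set G) := inf_le_right
  have hG : GInR (centralizer (Z₀ : Set G)) (S : Subgroup G) F ((S : Subgroup G) ⊓ centralizer (B : Set G))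
      (QY (S : Subgroup G) Y R B ((S : Subgroup G) ⊓ centralizer (B : Set G))) W (B ⊓ zc (S : Subgroup G))
      (zc (S : Subgroup G)) R :=
    { CM := le_normalizer_hul _ _
      sqM := (eab_iff.1 w1).2
      TC := hSK
      two := S.isPGroup'
      syl := not_dvd_relIndex S hSK
      ZM := inf_le_left.trans (h.BV.trans hVW)
      ZM' := (zc_le_zl _ _).trans hVW
      YM := h.RV.trans hVW
      TZ := hZB
      TZ' := le_centralizer_zc _
      NZ := by
        intro g hg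
        have h1 := (h.sZ hg).1
        rw [mem_normalizer_iff_cj, cj_inf, cj_eq_of_mem_normalizer h1.2,
          cj_eq_of_mem_normalizer (normalizer_le_normalizer_zc _ hg.2)]
      NQ := h.nS_QQ h.sZ rfl hEN
      QY := inf_le_right.trans ((inf_le_left.trans inf_le_left).trans inf_le_right)
      QJ := inf_le_right.trans inf_le_right
      JT := inf_le_left
      AT := hFS
      par := by
        intro P hP0 hPK
        have hP := h.lK2.isPar S hP0 hPK
        rcases h.le_of_par hP (Or.inr hPK) with h1 | ⟨h1, hPY⟩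
        · exact Or.inl (h1.trans (centralizer_le inf_le_right))
        · rcases h.altX h.nB h1 hPY with h2 | h2
          · exact Or.inr (Or.inr ⟨h.le_o2_two hFO hFR hP (Or.inr hPK), h2, h.par_QQ h.nB h1 hPY h2⟩)
          · exact Or.inl (h.le_of_alt h2)
      sep := by
        intro g _ hgQ _ z hz y hy hc
        have hc' : g * (y * z) = y * z * g := by
          have h3 : y * z = z * y := by
            have h4 := h.vc (h.RV hy)
            exact ((mem_centralizer_iff.1 h4) z (h.BV hz.1)).symm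
          rw [h3]
          exact hc
        exact (h.sep hgQ.1.1.2 hgQ.1.2 hy hz.1 hc').2
      hb := by
        rcases b2 with h1 | h1
        · right
          intro v hv
          have h2 : v ∈ Z₀ := h1 ⟨hv.1, h.fixV (h.RV hv.1) fun s hs => mem_centralizer_iff.1 hv.2 s hs⟩
          rw [mem_centralizer_iff]
          intro k hk
          exact ((mem_centralizer_iff.1 hk) v h2).symm
        · left
          intro d hdC hdQ hdo hcom
          exact h1 d ⟨hdC, hdQ⟩ hdo hcom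
      sqA := (eab_iff.1 (eab_mono hA.1 hFA)).2
      AZ := by
        refine (le_inf (hFA.trans hAK) (le_inf (hFS.trans hSK) (hFS.trans hZB))).trans ?_
        rw [inf_comm]
        refine le_o2 inf_le_left ((o2_isPGroup _).to_le inf_le_right) ?_
        refine le_trans (le_inf Subgroup.le_normalizer ?_) inf_normalizer_le_normalizer_inf
        refine (inf_le_right.trans (centralizer_le ?_)).trans (le_normalizer_o2 _)
        exact Set.singleton_subset_iff.2 ⟨h.eB, h.eZ⟩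
      AY := hFR.trans (h.o2_sup h.nR h.RK)
      nk := by
        rw [v_eq]
        exact (inf_le_inf_right _ hFA).trans hker
      mv := hm
      no := hgml
      le := he.ge
      K := h.kg h.lK2 }
  obtain ⟨X, N, _, _, _, _, _, T', A', J', Q', Z₁, Y', h1⟩ := hG.inpR
  exact h1.false_of hM hR hE

/-- **side 1** -/
theorem beta
    (b1 : BadG (centralizer ({e} : Set G) ⊓ QY (S : Subgroup G) Y R B ((S : Subgroup G) ⊓ centralizer (R : Set G)))
      ((S : Subgroup G) ⊓ centralizer (R : Set G)) B)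
    {X₁ F : Subgroup G} (hX : IsElementaryAbelian 2 X₁) (hXn : centralizer ({e} : Set G) ≤ normalizer (X₁ : Set G))
    (hVX : zl (S : Subgroup G) Y ≤ X₁) (hUX : zl (S : Subgroup G) (centralizer ({e} : Set G)) ≤ X₁)
    (hF : F ∈ AA (o2 (CZ (S : Subgroup G)))) (hF2 : F ≤ o2 (centralizer (Z₀ : Set G)))
    (hFB : F ≤ o2 (centralizer (B : Set G)))
    (hm : ¬ F ≤ centralizer (zl (S : Subgroup G) (centralizer ({e} : Set G)) : Set G))
    (hk : F ⊓ centralizer (zl (S : Subgroup G) (centralizer ({e} : Set G)) : Set G) ≤ centralizer (X₁ : Set G))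
    (he : (centralizer (X₁ : Set G)).relIndex F = (centralizer (F : Set G)).relIndex X₁) : False := by
  have hFO : F ≤ o2 (CZ (S : Subgroup G)) := hF.2.1
  have hFR : F ≤ centralizer (R : Set G) := h.hA F hF hF2
  have hFS : F ≤ (S : Subgroup G) := hFO.trans o2C_le
  have hSK : (S : Subgroup G) ≤ centralizer ({e} : Set G) := (le_CZ S).trans h.C1
  have hZR : (S : Subgroup G) ≤ centralizer ((R ⊓ zc (S : Subgroup G) : Subgroup G) : Set G) :=
    (le_CZ S).trans (centralizer_le inf_le_right)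
  have hgml : ∀ C : Subgroup G, C ≤ F → (centralizer (X₁ : Set G)).relIndex C ≤ (centralizer (C : Set G)).relIndex X₁ := by
    intro C hC
    have e1 : (centralizer (X₁ : Set G)).relIndex C =
        (centralizer (zl (S : Subgroup G) (centralizer ({e} : Set G)) : Set G)).relIndex C :=
      relIndex_congr (le_antisymm (inf_le_inf_left _ (centralizer_le hUX))
        (le_inf inf_le_left ((inf_le_inf_right _ hC).trans hk)))
    rw [e1]
    exact (gml hM h.ctx h.lK1 (h.kg h.lK1) (hC.trans hFO) (eab_iff.1 (eab_mono hF.1 hC)).2).trans (ri_mono _ hUX)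
  have hG : GInR (centralizer ({e} : Set G)) (S : Subgroup G) F ((S : Subgroup G) ⊓ centralizer (R : Set G))
      (QY (S : Subgroup G) Y R B ((S : Subgroup G) ⊓ centralizer (R : Set G))) X₁ (R ⊓ zc (S : Subgroup G))
      (zc (S : Subgroup G)) B :=
    { CM := hXn
      sqM := (eab_iff.1 hX).2
      TC := hSK
      two := S.isPGroup'
      syl := not_dvd_relIndex S hSK
      ZM := inf_le_left.trans (h.RV.trans hVX)
      ZM' := (zc_le_zl _ _).trans hVX
      YM := h.BV.trans hVX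
      TZ := hZR
      TZ' := le_centralizer_zc _
      NZ := by
        intro g hg
        have h1 := (h.sE hg).1
        rw [mem_normalizer_iff_cj, cj_inf, cj_eq_of_mem_normalizer h1.1,
          cj_eq_of_mem_normalizer (normalizer_le_normalizer_zc _ hg.2)]
      NQ := h.nS_QQ h.sE rfl inf_le_left
      QY := inf_le_right.trans (inf_le_left.trans inf_le_right)
      QJ := inf_le_right.trans inf_le_right
      JT := inf_le_left
      AT := hFS
      par := by
        intro P hP0 hPK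
        have hP := h.lK1.isPar S hP0 hPK
        rcases h.le_of_par hP (Or.inl hPK) with h1 | ⟨h1, hPY⟩
        · exact Or.inl (h1.trans (centralizer_le inf_le_right))
        · rcases h.altX h.nR h1 hPY with h2 | h2
          · exact Or.inr (Or.inr ⟨h.le_o2_one hFO hFR hF2 hP (Or.inl hPK), h2, h.par_QQ h.nR h1 hPY h2⟩)
          · exact Or.inl (h.le_of_alt h2)
      sep := by
        intro g _ hgQ _ z hz y hy hc
        exact (h.sep hgQ.1.1.2 hgQ.1.2 hz.1 hy hc).1
      hb := Or.inl fun d hdC hdQ hdo hcom => b1 d ⟨hdC, hdQ⟩ hdo hcom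
      sqA := (eab_iff.1 hF.1).2
      AZ := by
        refine (le_inf hF2 (le_inf (hFS.trans hSK) (hFS.trans hZR))).trans ?_
        rw [inf_comm]
        refine le_o2 inf_le_left ((o2_isPGroup _).to_le inf_le_right) ?_
        refine le_trans (le_inf Subgroup.le_normalizer ?_) inf_normalizer_le_normalizer_inf
        exact (inf_le_right.trans (centralizer_le h.Z0R)).trans (le_normalizer_o2 _)
      AY := hFB.trans (h.o2_sup h.nB h.BK)
      nk := by
        rw [v_eq]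
        exact hk
      mv := fun hc => hm (hc.trans (centralizer_le hUX))
      no := hgml
      le := he.ge
      K := h.kg h.lK1 }
  obtain ⟨X, N, _, _, _, _, _, T', A', J', Q', Z₁, Y', h1⟩ := hG.inpR
  exact h1.false_of hM hR hE

/-- **The frame is impossible.** -/
theorem false_of
    (b1 : BadG (centralizer ({e} : Set G) ⊓ QY (S : Subgroup G) Y R B ((S : Subgroup G) ⊓ centralizer (R : Set G)))
      ((S : Subgroup G) ⊓ centralizer (R : Set G)) B)
    (b2 : R ⊓ zc (S : Subgroup G) ≤ Z₀ ∨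
      BadG (centralizer (Z₀ : Set G) ⊓ QY (S : Subgroup G) Y R B ((S : Subgroup G) ⊓ centralizer (B : Set G)))
        ((S : Subgroup G) ⊓ centralizer (B : Set G)) R) : False := by
  rcases h.main hM with ⟨A, hA, -, hAK, F, hFA, hFR, hm, he⟩ | ⟨X₁, hX, hXn, hVX, hUX, -, F, hF, -, hF2, hFB, hm, -, hk, he⟩
  · exact h.alpha hM hR hE b2 hA hAK hFA hFR hm he
  · exact h.beta hM hR hE b1 hX hXn hVX hUX hF hF2 hFB hm hk he

end FrY

end Cfsg.Agent.Omega.NOThreeL.RZ.TwoC

end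

section


/-!
# [R-z], the nonsplit case: the lift of `bad` from `B/C_B(E)` to `B` (helper878, bb #27009)

`E ≤ Y = ⟨P*(S)⟩` normal, `B ≤ V*` normal in `Y`, `[V*, E] ≤ B ≤ [B, E]`.

* `kerD` : the elements of `E` which centralise `B/C_B(E)`;  **`kerD_le`** : they centralise `V*` (`V*` is 2-reduced);
* **`lift`** : an element which normalises `B`, `E` and centralises `B/C_B(E)` centralises `B`.
-/

set_option autoImplicit false

namespace Cfsg.Agent.Omega.NOThreeL.RZ.TwoC.BadN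

open Subgroup Cfsg
open Cfsg.Agent.ZN (o2 zc zl)
open Cfsg.Agent.Omega.MinPar Cfsg.Agent.Omega.Frame Cfsg.Agent.Omega.FrameNOFF
open Cfsg.Agent.Omega.NOThreeL.Star (YS le_YS S_le_YS)
open Cfsg.Agent.MinSimple.VModule (zc_le_zl le_normalizer_zl zl_le zc_le mem_zc)

open scoped commutatorElement

universe u

variable {G : Type u} [Group G]

/-- the elements of `E` which centralise `B/C_B(E)` -/
def kerD (E B : Subgroup G) (h : E ≤ normalizer (B : Set G)) : Subgroup G where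
  carrier := {k | k ∈ E ∧ ∀ w ∈ B, k * w * k⁻¹ * w⁻¹ ∈ centralizer (E : Set G)}
  one_mem' := ⟨E.one_mem, fun w _ => by simp [one_mem]⟩
  mul_mem' := by
    rintro k l ⟨hk, hk'⟩ ⟨hl, hl'⟩
    refine ⟨E.mul_mem hk hl, fun w hw => ?_⟩
    have h1 := mem_centralizer_iff.1 (hl' w hw) k hk
    have e1 : k * l * w * (k * l)⁻¹ * w⁻¹ = k * (l * w * l⁻¹ * w⁻¹) * k⁻¹ * (k * w * k⁻¹ * w⁻¹) := by group
    rw [e1, h1, mul_inv_cancel_right]
    exact mul_mem (hl' w hw) (hk' w hw)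
  inv_mem' := by
    rintro k ⟨hk, hk'⟩
    refine ⟨E.inv_mem hk, fun w hw => ?_⟩
    have h1 := hk' (k⁻¹ * w * k⁻¹⁻¹) ((mem_normalizer_iff.1 (h (E.inv_mem hk)) w).1 hw)
    have e1 : k⁻¹ * w * k⁻¹⁻¹ * w⁻¹ = (k * (k⁻¹ * w * k⁻¹⁻¹) * k⁻¹ * (k⁻¹ * w * k⁻¹⁻¹)⁻¹)⁻¹ := by group
    rw [e1]
    exact inv_mem h1

theorem mem_kerD {E B : Subgroup G} {h : E ≤ normalizer (B : Set G)} {k : G} :
    k ∈ kerD E B h ↔ k ∈ E ∧ ∀ w ∈ B, k * w * k⁻¹ * w⁻¹ ∈ centralizer (E : Set G) := Iff.rfl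

/-- **`C_E(B/C_B(E))` centralises `V*`** -/
theorem kerD_le [Finite G] {S : Sylow 2 G} {Y E B : Subgroup G} (SY : (S : Subgroup G) ≤ Y)
    (nE : Y ≤ normalizer (E : Set G)) (EY : E ≤ Y)
    (nB : Y ≤ normalizer (B : Set G)) (BV : B ≤ zl (S : Subgroup G) Y)
    (VE : ⁅zl (S : Subgroup G) Y, E⁆ ≤ B)
    (vc : zl (S : Subgroup G) Y ≤ centralizer (zl (S : Subgroup G) Y : Set G))
    (vs : ∀ v ∈ zl (S : Subgroup G) Y, v ^ 2 = 1) :
    kerD E B (EY.trans nB) ≤ centralizer (zl (S : Subgroup G) Y : Set G) := by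
  have hcom : ∀ a ∈ zl (S : Subgroup G) Y, ∀ b ∈ zl (S : Subgroup G) Y, a * b = b * a := fun a ha b hb =>
    mem_centralizer_iff.1 (vc hb) a ha
  refine HOne.TvHSide.red_of (Z₀ := (zc (S : Subgroup G) : Set G)) (S := (S : Subgroup G)) (H := Y) SY S.isPGroup'
    (MinSimple.Basic.not_dvd_relIndex S SY)
    (fun x hx z hz => (mem_zc.1 hz).2.1 x hx) (le_normalizer_zl _ _) (zc_le_zl _ _) ?_ _ (fun k hk => EY hk.1) ?_ ?_
  · refine zl_le ?_ ?_
    · intro z hz
      exact subset_closure ⟨1, Y.one_mem, z, hz, by simp⟩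
    · intro y hy
      have key : ∀ y ∈ Y, ∀ x ∈ closure {x : G | ∃ g ∈ Y, ∃ z ∈ (zc (S : Subgroup G) : Set G), g * z * g⁻¹ = x},
          y * x * y⁻¹ ∈ closure {x : G | ∃ g ∈ Y, ∃ z ∈ (zc (S : Subgroup G) : Set G), g * z * g⁻¹ = x} := by
        intro y hy x hx
        have h1 : closure {x : G | ∃ g ∈ Y, ∃ z ∈ (zc (S : Subgroup G) : Set G), g * z * g⁻¹ = x} ≤
            (closure {x : G | ∃ g ∈ Y, ∃ z ∈ (zc (S : Subgroup G) : Set G), g * z * g⁻¹ = x}).comap
              (MulAut.conj y).toMonoidHom := by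
          rw [closure_le]
          rintro _ ⟨g, hg, z, hz, rfl⟩
          exact subset_closure ⟨y * g, Y.mul_mem hy hg, z, hz, by
            change y * g * z * (y * g)⁻¹ = y * (g * z * g⁻¹) * y⁻¹
            group⟩
        exact h1 hx
      rw [mem_normalizer_iff]
      intro x
      refine ⟨key y hy x, fun hx => ?_⟩
      have h1 := key y⁻¹ (Y.inv_mem hy) _ hx
      have e1 : y⁻¹ * (y * x * y⁻¹) * y⁻¹⁻¹ = x := by group
      rwa [e1] at h1
  · have key : ∀ y ∈ Y, ∀ k ∈ kerD E B (EY.trans nB), y * k * y⁻¹ ∈ kerD E B (EY.trans nB) := by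
      intro y hy k hk
      refine ⟨(mem_normalizer_iff.1 (nE hy) k).1 hk.1, fun w hw => ?_⟩
      have hw' : y⁻¹ * w * y⁻¹⁻¹ ∈ B := (mem_normalizer_iff.1 (nB (Y.inv_mem hy)) w).1 hw
      have h1 := hk.2 _ hw'
      have e1 : y * k * y⁻¹ * w * (y * k * y⁻¹)⁻¹ * w⁻¹ =
          y * (k * (y⁻¹ * w * y⁻¹⁻¹) * k⁻¹ * (y⁻¹ * w * y⁻¹⁻¹)⁻¹) * y⁻¹ := by group
      rw [e1]
      have h2 := ML.GMod.nc _ (nE hy)
      exact (mem_normalizer_iff.1 h2 _).1 h1
    intro y hy
    rw [mem_normalizer_iff]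
    intro k
    refine ⟨key y hy k, fun hx => ?_⟩
    have h1 := key y⁻¹ (Y.inv_mem hy) _ hx
    have e1 : y⁻¹ * (y * k * y⁻¹) * y⁻¹⁻¹ = k := by group
    rwa [e1] at h1
  · rintro x ⟨hxE, hx⟩
    refine ⟨2, mem_centralizer_iff.2 fun v hv => ?_⟩
    -- `x v x⁻¹ = v b`, `x b x⁻¹ = b c`, `x c x⁻¹ = c`
    obtain ⟨b, hb, hb'⟩ : ∃ b ∈ B, x * v * x⁻¹ = v * b := by
      refine ⟨v⁻¹ * (x * v * x⁻¹), ?_, by group⟩
      have h1 : ⁅v⁻¹, x⁆ ∈ B := VE (commutator_mem_commutator (inv_mem hv) hxE)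
      have e1 : ⁅v⁻¹, x⁆ = v⁻¹ * (x * v * x⁻¹) := by rw [commutatorElement_def]; group
      rwa [e1] at h1
    obtain ⟨c, hc, hcE, hc'⟩ : ∃ c ∈ B, c ∈ centralizer (E : Set G) ∧ x * b * x⁻¹ = b * c := by
      have h1 := hx b hb
      have h2 : x * b * x⁻¹ ∈ B := (mem_normalizer_iff.1 (nB (EY hxE)) b).1 hb
      have h3 : b⁻¹ * (x * b * x⁻¹) = x * b * x⁻¹ * b⁻¹ := hcom _ (BV (B.inv_mem hb)) _ (BV h2)
      exact ⟨b⁻¹ * (x * b * x⁻¹), B.mul_mem (B.inv_mem hb) h2, by rw [h3]; exact h1, by group⟩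
    have hcx : x * c * x⁻¹ = c := by
      rw [mem_centralizer_iff.1 hcE x hxE, mul_inv_cancel_right]
    have hbb : b * b = 1 := by have := vs b (BV hb); rwa [pow_two] at this
    have hcc : c * c = 1 := by have := vs c (BV hc); rwa [pow_two] at this
    have h2 : x ^ 2 * v * (x ^ 2)⁻¹ = v * c := by
      have e1 : x ^ 2 * v * (x ^ 2)⁻¹ = x * (x * v * x⁻¹) * x⁻¹ := by rw [pow_two]; group
      have e2 : x * (v * b) * x⁻¹ = x * v * x⁻¹ * (x * b * x⁻¹) := by group
      rw [e1, hb', e2, hb', hc', ← mul_assoc, mul_assoc v b b, hbb, mul_one]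
    have h4 : x ^ 2 ^ 2 * v * (x ^ 2 ^ 2)⁻¹ = v := by
      have e0 : x ^ 2 ^ 2 = x ^ 2 * x ^ 2 := pow_add x 2 2
      have e1 : x ^ 2 ^ 2 * v * (x ^ 2 ^ 2)⁻¹ = x ^ 2 * (x ^ 2 * v * (x ^ 2)⁻¹) * (x ^ 2)⁻¹ := by rw [e0]; group
      have e2 : x ^ 2 * (v * c) * (x ^ 2)⁻¹ = x ^ 2 * v * (x ^ 2)⁻¹ * (x * (x * c * x⁻¹) * x⁻¹) := by
        rw [pow_two]; group
      rw [e1, h2, e2, h2, hcx, hcx, mul_assoc, hcc, mul_one]
    exact (mul_inv_eq_iff_eq_mul.1 h4).symm

/-- **the lift** -/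
theorem lift [Finite G] {S : Sylow 2 G} {Y E B : Subgroup G} (SY : (S : Subgroup G) ≤ Y)
    (nE : Y ≤ normalizer (E : Set G)) (EY : E ≤ Y)
    (nB : Y ≤ normalizer (B : Set G)) (BV : B ≤ zl (S : Subgroup G) Y)
    (VE : ⁅zl (S : Subgroup G) Y, E⁆ ≤ B) (BE : B ≤ ⁅B, E⁆)
    (vc : zl (S : Subgroup G) Y ≤ centralizer (zl (S : Subgroup G) Y : Set G))
    (vs : ∀ v ∈ zl (S : Subgroup G) Y, v ^ 2 = 1)
    {d : G} (dB : d ∈ normalizer (B : Set G)) (dE : d ∈ normalizer (E : Set G))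
    (hd : ∀ w ∈ B, d * w * d⁻¹ * w⁻¹ ∈ centralizer (E : Set G)) : d ∈ centralizer (B : Set G) := by
  have hcom : ∀ a ∈ B, ∀ b ∈ B, a * b = b * a := fun a ha b hb =>
    mem_centralizer_iff.1 (vc (BV hb)) a (BV ha)
  have hEB : E ≤ normalizer (B : Set G) := EY.trans nB
  -- `d w d⁻¹ = w δ`
  have hdd : ∀ w ∈ B, ∃ δ ∈ B, δ ∈ centralizer (E : Set G) ∧ d * w * d⁻¹ = w * δ := by
    intro w hw
    have h1 := hd w hw
    have h2 : d * w * d⁻¹ ∈ B := (mem_normalizer_iff.1 dB w).1 hw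
    have h3 : w⁻¹ * (d * w * d⁻¹) = d * w * d⁻¹ * w⁻¹ := hcom _ (B.inv_mem hw) _ h2
    exact ⟨w⁻¹ * (d * w * d⁻¹), B.mul_mem (B.inv_mem hw) h2, by rw [h3]; exact h1, by group⟩
  have dCE : d ∈ normalizer ((centralizer (E : Set G) : Subgroup G) : Set G) := ML.GMod.nc _ dE
  -- `[d, g]` centralises `B`
  have hK : ∀ g ∈ E, d * g * d⁻¹ * g⁻¹ ∈ centralizer (B : Set G) := by
    intro g hg
    have hgE : d * g * d⁻¹ * g⁻¹ ∈ E := E.mul_mem ((mem_normalizer_iff.1 dE g).1 hg) (E.inv_mem hg)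
    have hk : d * g * d⁻¹ * g⁻¹ ∈ kerD E B hEB := by
      refine ⟨hgE, fun w hw => ?_⟩
      -- `w₁ = g⁻¹ w g`
      have hw1 : g⁻¹ * w * g⁻¹⁻¹ ∈ B := (mem_normalizer_iff.1 (hEB (E.inv_mem hg)) w).1 hw
      rw [inv_inv] at hw1
      have hw2 : d⁻¹ * (g⁻¹ * w * g) * d⁻¹⁻¹ ∈ B := (mem_normalizer_iff.1 (inv_mem dB) _).1 hw1
      rw [inv_inv] at hw2
      obtain ⟨δ, hδB, hδ, hδ'⟩ := hdd _ hw2
      -- `g⁻¹ w g = w₂ δ`, `w₂ = d⁻¹ w₁ d`
      have h1 : g⁻¹ * w * g = d⁻¹ * (g⁻¹ * w * g) * d * δ := by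
        rw [← hδ']; group
      obtain ⟨ε, hεB, hε, hε'⟩ := hdd _ hw
      -- `(d g d⁻¹ g⁻¹) w (..)⁻¹ = d g w₂ g⁻¹ d⁻¹ = d (w δ⁻¹) d⁻¹ = w ε (d δ⁻¹ d⁻¹)`
      have h2 : g * (d⁻¹ * (g⁻¹ * w * g) * d) * g⁻¹ = w * δ⁻¹ := by
        have h3 : d⁻¹ * (g⁻¹ * w * g) * d = g⁻¹ * w * g * δ⁻¹ := by
          rw [eq_mul_inv_iff_mul_eq]; exact h1.symm
        rw [h3]
        have h4 : g * δ⁻¹ = δ⁻¹ * g := mem_centralizer_iff.1 (inv_mem hδ) g hg
        calc g * (g⁻¹ * w * g * δ⁻¹) * g⁻¹ = w * (g * δ⁻¹) * g⁻¹ := by group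
          _ = w * (δ⁻¹ * g) * g⁻¹ := by rw [h4]
          _ = w * δ⁻¹ := by group
      have h3 : d * g * d⁻¹ * g⁻¹ * w * (d * g * d⁻¹ * g⁻¹)⁻¹ * w⁻¹ =
          w * (ε * (d * δ⁻¹ * d⁻¹)) * w⁻¹ := by
        calc d * g * d⁻¹ * g⁻¹ * w * (d * g * d⁻¹ * g⁻¹)⁻¹ * w⁻¹
            = d * (g * (d⁻¹ * (g⁻¹ * w * g) * d) * g⁻¹) * d⁻¹ * w⁻¹ := by group
          _ = d * (w * δ⁻¹) * d⁻¹ * w⁻¹ := by rw [h2]
          _ = (d * w * d⁻¹) * (d * δ⁻¹ * d⁻¹) * w⁻¹ := by group
          _ = w * ε * (d * δ⁻¹ * d⁻¹) * w⁻¹ := by rw [hε']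
          _ = _ := by group
      have h5 : d * δ⁻¹ * d⁻¹ ∈ centralizer (E : Set G) := (mem_normalizer_iff.1 dCE _).1 (inv_mem hδ)
      have h6 : d * δ⁻¹ * d⁻¹ ∈ B := (mem_normalizer_iff.1 dB _).1 (B.inv_mem hδB)
      have h7 : w * (ε * (d * δ⁻¹ * d⁻¹)) * w⁻¹ = ε * (d * δ⁻¹ * d⁻¹) := by
        rw [hcom w hw _ (B.mul_mem hεB h6), mul_inv_cancel_right]
      rw [h3, h7]
      exact mul_mem hε h5
    exact centralizer_le BV (kerD_le SY nE EY nB BV VE vc vs hk)
  -- `d` centralises `[B, E]`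
  have h1 : ⁅B, E⁆ ≤ centralizer ({d} : Set G) := by
    rw [commutator_le]
    intro w hw g hg
    rw [mem_centralizer_singleton_iff]
    obtain ⟨δ, hδB, hδ, hδ'⟩ := hdd w hw
    have hk := hK g hg
    have h2 : d * ⁅w, g⁆ * d⁻¹ = ⁅w, g⁆ := by
      have hwB : g * (w * δ)⁻¹ * g⁻¹ ∈ B :=
        (mem_normalizer_iff.1 (hEB hg) _).1 (B.inv_mem (B.mul_mem hw hδB))
      have h3 : (d * g * d⁻¹ * g⁻¹) * (g * (w * δ)⁻¹ * g⁻¹) * (d * g * d⁻¹ * g⁻¹)⁻¹ = g * (w * δ)⁻¹ * g⁻¹ := by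
        rw [← mem_centralizer_iff.1 hk _ hwB, mul_inv_cancel_right]
      have h4 : g * δ⁻¹ = δ⁻¹ * g := mem_centralizer_iff.1 (inv_mem hδ) g hg
      calc d * ⁅w, g⁆ * d⁻¹ = (d * w * d⁻¹) * (d * g * d⁻¹ * g⁻¹) * (g * (d * w * d⁻¹)⁻¹ * g⁻¹) *
            (d * g * d⁻¹ * g⁻¹)⁻¹ := by rw [commutatorElement_def]; group
        _ = (w * δ) * ((d * g * d⁻¹ * g⁻¹) * (g * (w * δ)⁻¹ * g⁻¹) * (d * g * d⁻¹ * g⁻¹)⁻¹) := by
            rw [hδ']; group
        _ = (w * δ) * (g * (w * δ)⁻¹ * g⁻¹) := by rw [h3]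
        _ = w * δ * (g * δ⁻¹) * w⁻¹ * g⁻¹ := by group
        _ = w * δ * (δ⁻¹ * g) * w⁻¹ * g⁻¹ := by rw [h4]
        _ = ⁅w, g⁆ := by rw [commutatorElement_def]; group
    have h3 := mul_inv_eq_iff_eq_mul.1 h2
    exact h3.symm
  rw [mem_centralizer_iff]
  intro w hw
  exact mem_centralizer_singleton_iff.1 (h1 (BE hw))

end Cfsg.Agent.Omega.NOThreeL.RZ.TwoC.BadN

end

end

-- merged: Cfsg.Agent.Mrg.Omega.NOThreeL.RZ.TwoE.NonSplit
section

/-!
# [R-z], the nonsplit case: the frame `FrN` from the blocks (helper842 #27284, helper892 #27278, helper162)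

`V* = ⟨Z^Y⟩`, `Y = YS S`, `H = N_G(Y)`, `Q : Nrm H V*`, `X = XH Q` the group induced by `H` on `V*`, `T` the image of `S`.

* `FXM T EO FF NN LL ZZ v` (FXDef) : the module facts: `EO` is the normal closure of the root groups `D ∈ FF` of the nonsplit
  blocks, `NN`, `LL`, `ZZ` are the sums of the blocks, lines, radicals, `v ∈ LL` is a `T`-fixed vector of full support;
* `Dg Q EO = {y ∈ Y | ph y ∈ EO}`, `Rg = ⟨(Z ∩ ZZ)^Y⟩`;
* `comm_eq` : `[V*, Dg] = NN`;
* **`frN_of`** : `FrN S Rg NN LL v`.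
-/

set_option autoImplicit false
set_option linter.unusedSectionVars false

namespace Cfsg.Agent.Omega.NOThreeL.RZ.TwoE.NonSplit

open Subgroup Cfsg
open Cfsg.Agent.ZN (o2 zc zl jj)
open Cfsg.Agent.ZN.ChoiceBase hiding mem_zc
open Cfsg.Agent.Omega.ML.GMod (hul hul_le hul_le_of le_hul cj_le_hul le_normalizer_hul nc)
open Cfsg.Agent.Omega.MinPar Cfsg.Agent.Omega.Frame Cfsg.Agent.Omega.FrameNOFF
open Cfsg.Agent.Omega.FFThm (ElemM OffM NoOverM)
open Cfsg.Agent.Omega.NO3b.Bang (le_normalizer_sup cent_symm)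
open Cfsg.Agent.Omega.NOThreeL.Star (YS le_YS S_le_YS zl_mono)
open Cfsg.Agent.Omega.NO3S.EThree.ExactA (eab_iff eab_mono)
open Cfsg.Agent.MinSimple.VModule (zc_le_zl le_normalizer_zl zl_le zc_le zc_sq mem_zc le_centralizer_zc
  le_normalizer_o2 o2_isPGroup o2_le le_o2 normalizer_le_normalizer_zc)
open Cfsg.Agent.Omega.NOThreeL.RTree (RB)
open Cfsg.Agent.Omega.NOThreeL.RZ (norm_cent norm_V_of norm_commutator_of V_le_of le_norm_V V_mono)
open Cfsg.Agent.Omega.NOThreeL.RZ.TwoC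
open Cfsg.Agent.Omega.NOThreeL.RRed (Exa)
open Cfsg.Agent.Omega.NOThreeL.RRed.EOne (Vstar_eqD VC Vsq S_YS VS comm_leD VcZ_cent VcZ_le norm_commD)
open Cfsg.Agent.Omega.NOThreeL.RSplit (Nrm)
open Cfsg.Agent.Omega.NOThreeL.RRed.NS (fxd brk mem_fxd un val_mem_un smul_eq_iff)
open Cfsg.Agent.Omega.NOThreeL.RRed.Blk.TypesNat (XH ph ph_smul ph_surj ph_eq XH_faith)
open Cfsg.Agent.Omega.NOThreeL.RRed.Blk.AsmCore (im ph_mem_im im_mono im_cj im_le_of)
open Cfsg.Agent.Omega.NOThreeL.RRed.Blk.AsmUn (un_le un_le_sub un_mono un_eq_bot inv_iff brk_le_iff mem_brk)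
open Cfsg.Agent.Omega.NOThreeL.RRed.Blk.FXDef (FXM)
open scoped Pointwise commutatorElement

universe u v

variable {G : Type u} [Group G] [Finite G] {S : Sylow 2 G}

/-- `{y ∈ Y | ph y ∈ EO}` -/
def Dg {H U : Subgroup G} (Y : Subgroup G) (Q : Nrm H U) (EO : Subgroup (XH Q)) : Subgroup G :=
  Y ⊓ (EO.comap (ph Q)).map H.subtype

/-- `⟨(Z ∩ ZZ)^Y⟩` -/
def Rg {H U : Subgroup G} (S : Subgroup G) (Q : Nrm H U) (ZZ : AddSubgroup Q.Mod) : Subgroup G :=
  NoFF.Basic.V (zc S ⊓ un Q ZZ) (YS S)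

section basic

variable {H U Y : Subgroup G} {Q : Nrm H U} {EO : Subgroup (XH Q)}

theorem mem_Dg {g : G} : g ∈ Dg Y Q EO ↔ g ∈ Y ∧ ∃ h : g ∈ H, ph Q ⟨g, h⟩ ∈ EO := by
  constructor
  · rintro ⟨h1, ⟨y, hy, rfl⟩⟩
    exact ⟨h1, y.2, hy⟩
  · rintro ⟨h1, h2, h3⟩
    exact ⟨h1, ⟨⟨g, h2⟩, h3, rfl⟩⟩

theorem Dg_le : Dg Y Q EO ≤ Y := inf_le_left

/-- membership in the normalizer of `un Q B` -/
theorem mem_norm_un {B : AddSubgroup Q.Mod} {g : G} (hg : g ∈ H) (h : ∀ m ∈ B, ph Q ⟨g, hg⟩ • m ∈ B) :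
    g ∈ normalizer (un Q B : Set G) := by
  refine mem_normalizer_of_cj_le ?_
  rintro _ ⟨_, ⟨m, hm, rfl⟩, rfl⟩
  have h1 := h m hm
  rw [ph_smul] at h1
  exact ⟨_, h1, rfl⟩

theorem norm_Dg (hY : H ≤ normalizer (Y : Set G)) (hn : ∀ x, ∀ g ∈ EO, x * g * x⁻¹ ∈ EO) :
    H ≤ normalizer (Dg Y Q EO : Set G) := by
  have key : ∀ x ∈ H, ∀ g ∈ Dg Y Q EO, x * g * x⁻¹ ∈ Dg Y Q EO := by
    intro x hx g hg
    obtain ⟨h1, h2, h3⟩ := mem_Dg.1 hg
    refine mem_Dg.2 ⟨(mem_normalizer_iff.1 (hY hx) g).1 h1, mul_mem (mul_mem hx h2) (inv_mem hx), ?_⟩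
    have h4 := hn (ph Q ⟨x, hx⟩) _ h3
    rw [← map_mul, ← map_inv, ← map_mul] at h4
    exact h4
  intro x hx
  rw [mem_normalizer_iff]
  refine fun g => ⟨key x hx g, fun hg => ?_⟩
  have h1 := key x⁻¹ (inv_mem hx) _ hg
  have e : x⁻¹ * (x * g * x⁻¹) * x⁻¹⁻¹ = g := by group
  rwa [e] at h1

/-- elements of `EO` come from `Dg` -/
theorem exists_Dg (hE : EO ≤ im Q Y) {x : XH Q} (hx : x ∈ EO) :
    ∃ g, ∃ hg : g ∈ H, g ∈ Dg Y Q EO ∧ ph Q ⟨g, hg⟩ = x := by
  obtain ⟨a, ha, rfl⟩ := hE hx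
  exact ⟨a, a.2, mem_Dg.2 ⟨ha, a.2, hx⟩, rfl⟩

/-- **`[U, Dg] = NN`** -/
theorem comm_eq (hE : EO ≤ im Q Y) : (⁅U, Dg Y Q EO⁆ : Subgroup G) = un Q (brk Q.Mod EO) := by
  apply le_antisymm
  · rw [commutator_le]
    intro v hv d hd
    obtain ⟨-, h2, h3⟩ := mem_Dg.1 hd
    have h4 := mem_brk (V := Q.Mod) h3 (Q.of v hv)
    rw [ph_smul] at h4
    have h5 := (val_mem_un Q).2 h4
    have h6 := inv_mem h5
    have e : ⁅v, d⁆ = (Q.val ((⟨d, h2⟩ : H) • Q.of v hv - Q.of v hv))⁻¹ := by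
      rw [Nrm.val_sub, Nrm.val_smul, Nrm.val_of, commutatorElement_def]
      group
    rw [e]
    exact h6
  · rw [un_le_sub, brk_le_iff]
    intro x hx m
    obtain ⟨g, hg, hgD, rfl⟩ := exists_Dg hE hx
    change Q.val _ ∈ (⁅U, Dg Y Q EO⁆ : Subgroup G)
    rw [ph_smul, Nrm.val_sub, Nrm.val_smul, commutator_comm]
    have e : ((⟨g, hg⟩ : H) : G) * Q.val m * ((⟨g, hg⟩ : H) : G)⁻¹ * (Q.val m)⁻¹ = ⁅g, Q.val m⁆ := by
      rw [commutatorElement_def]
    rw [e]
    exact commutator_mem_commutator hgD (Q.val_mem m)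

end basic

section frame

variable {Q : Nrm (normalizer (YS (S : Subgroup G) : Set G)) (zl (S : Subgroup G) (YS S))}
  {EO : Subgroup (XH Q)} {FF : Set (Subgroup (XH Q))} {NN LL ZZ : AddSubgroup Q.Mod} {v : Q.Mod}

theorem Y_le_H : YS (S : Subgroup G) ≤ normalizer (YS (S : Subgroup G) : Set G) := le_normalizer

theorem nS_le_H : normalizer ((S : Subgroup G) : Set G) ≤ normalizer (YS (S : Subgroup G) : Set G) := nS_ys

variable (h : RB S) (F : FXM (im Q (S : Subgroup G)) EO FF NN LL ZZ v)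
include h F

theorem EO_le : EO ≤ im Q (YS (S : Subgroup G)) := by
  refine F.EOgen _ ?_ (im_mono Q (S_YS h))
  rintro x _ ⟨a, ha, rfl⟩
  obtain ⟨y, rfl⟩ := ph_surj Q x
  refine ⟨y * a * y⁻¹, ?_, by rw [map_mul, map_mul, map_inv]⟩
  exact (mem_normalizer_iff.1 y.2 _).1 ha

theorem comm_NN : (⁅zl (S : Subgroup G) (YS S), Dg (YS (S : Subgroup G)) Q EO⁆ : Subgroup G) = un Q NN := by
  rw [comm_eq (EO_le h F), F.brk]

omit h in
theorem norm_ZZ : normalizer (YS (S : Subgroup G) : Set G) ≤ normalizer (un Q ZZ : Set G) :=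
  (inv_iff Q ZZ).1 F.Zinv

omit h in
theorem ZZ_cent : un Q ZZ ≤ centralizer (Dg (YS (S : Subgroup G)) Q EO : Set G) := by
  rintro _ ⟨m, hm, rfl⟩
  rw [mem_centralizer_iff]
  intro g hg
  obtain ⟨-, h2, h3⟩ := mem_Dg.1 hg
  have h4 := F.fix _ h3 m hm
  rw [ph_smul, smul_eq_iff, mul_inv_eq_iff_eq_mul] at h4
  exact h4

omit h in
theorem Rg_le : Rg (S : Subgroup G) Q ZZ ≤ un Q ZZ :=
  V_le_of inf_le_right (Y_le_H.trans (norm_ZZ F))

omit h in
theorem nS_Rg : normalizer ((S : Subgroup G) : Set G) ≤ normalizer (Rg (S : Subgroup G) Q ZZ : Set G) := by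
  refine norm_V_of ?_ nS_ys
  intro n hn
  rw [mem_normalizer_iff_cj, cj_inf, cj_eq_of_mem_normalizer (normalizer_le_normalizer_zc _ hn),
    cj_eq_of_mem_normalizer (norm_ZZ F (nS_le_H hn))]

theorem zc_ZZ_ne (Zne : ZZ ≠ ⊥) : zc (S : Subgroup G) ⊓ un Q ZZ ≠ ⊥ := by
  have hne : un Q ZZ ≠ ⊥ := fun h0 => Zne ((un_eq_bot Q).1 h0)
  have hS : (S : Subgroup G) ≤ normalizer (un Q ZZ : Set G) := (S_YS h).trans (Y_le_H.trans (norm_ZZ F))
  obtain ⟨z, hz, hz1, hzT⟩ := NOThreeL.AdjTransv.exists_fixed S.isPGroup' hne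
    (fun n hn => by rw [← pow_two]; exact Vsq h n (un_le Q _ hn)) fun s hs n hn' =>
      (mem_normalizer_iff.1 (hS hs) n).1 hn'
  intro h0
  have hzV := un_le Q _ hz
  have h2 : z ∈ zc (S : Subgroup G) := mem_zc.2 ⟨VS h hzV, fun s hs => mul_inv_eq_iff_eq_mul.1 (hzT s hs), Vsq h z hzV⟩
  have h3 : z ∈ zc (S : Subgroup G) ⊓ un Q ZZ := ⟨h2, hz⟩
  rw [h0, mem_bot] at h3
  exact hz1 h3

omit h in
theorem Rg_ge : zc (S : Subgroup G) ⊓ un Q ZZ ≤ Rg (S : Subgroup G) Q ZZ ⊓ zc (S : Subgroup G) :=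
  le_inf (RZ.Z_le _ _) inf_le_left

omit h in
/-- an element which conjugates the root groups into `S` normalises `LL` -/
theorem norm_LL {g : G} (hg : g ∈ normalizer (YS (S : Subgroup G) : Set G))
    (hD : ∀ D ∈ FF, MulAut.conj (ph Q ⟨g, hg⟩) • D ≤ im Q (S : Subgroup G)) : g ∈ normalizer (un Q LL : Set G) :=
  mem_norm_un hg (F.Linv _ hD)

omit h in
theorem nS_LL : normalizer ((S : Subgroup G) : Set G) ≤ normalizer (un Q LL : Set G) := by
  intro n hn
  refine norm_LL F (nS_le_H hn) fun D hD => ?_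
  have h1 : MulAut.conj (ph Q ⟨n, nS_le_H hn⟩) • D ≤ MulAut.conj (ph Q ⟨n, nS_le_H hn⟩) • im Q (S : Subgroup G) :=
    Subgroup.pointwise_smul_le_pointwise_smul_iff.2 (F.FT D hD)
  refine h1.trans ?_
  rw [← im_cj]
  refine im_mono Q ?_
  change MulAut.conj n • (S : Subgroup G) ≤ _
  exact (mem_normalizer_iff_cj.1 hn).le

theorem eZ : Q.val v ∈ zc (S : Subgroup G) := by
  have hV := Q.val_mem v
  refine mem_zc.2 ⟨VS h hV, fun s hs => ?_, Vsq h _ hV⟩
  have h1 := F.vT _ (ph_mem_im Q (a := ⟨s, Y_le_H (S_YS h hs)⟩) hs)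
  rw [ph_smul, smul_eq_iff, mul_inv_eq_iff_eq_mul] at h1
  exact h1

/-- **The frame `FrN`.** -/
theorem frN_of (Zne : ZZ ≠ ⊥) (no : NoOverM (zl (S : Subgroup G) (YS S)) (YS (S : Subgroup G)))
    (hex : ∀ A ≤ (S : Subgroup G), ElemM (zl (S : Subgroup G) (YS S)) A → Exa (zl (S : Subgroup G) (YS S)) A →
      A ≤ centralizer (un Q ZZ : Set G)) :
    FrN S (Rg (S : Subgroup G) Q ZZ) (un Q NN) (un Q LL) (Q.val v) := by
  have hDn : normalizer (YS (S : Subgroup G) : Set G) ≤ normalizer (Dg (YS (S : Subgroup G)) Q EO : Set G) :=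
    norm_Dg le_rfl F.EOn
  have hR := Rg_le F
  have hRV : Rg (S : Subgroup G) Q ZZ ≤ zl (S : Subgroup G) (YS S) := hR.trans (un_le Q _)
  have hRD : Rg (S : Subgroup G) Q ZZ ≤ centralizer (Dg (YS (S : Subgroup G)) Q EO : Set G) := hR.trans (ZZ_cent F)
  have hne : Rg (S : Subgroup G) Q ZZ ⊓ zc (S : Subgroup G) ≠ ⊥ := fun h0 =>
    zc_ZZ_ne h F Zne (le_bot_iff.1 ((Rg_ge F).trans h0.le))
  have e1 : Q.val v ≠ 1 := fun h0 => F.v0 (Nrm.eq_zero_iff.2 h0)
  have heZ := eZ h F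
  have hP : FrP S (Rg (S : Subgroup G) Q ZZ) (⁅zl (S : Subgroup G) (YS S), Dg (YS (S : Subgroup G)) Q EO⁆ : Subgroup G)
      (Q.val v) := by
    refine FrPOf.frP_of h (Y_le_H.trans hDn) Dg_le (nS_le_H.trans hDn) ?_ heZ ?_ e1 ?_ ?_ no hRV (le_norm_V _ _)
      (nS_Rg F) hRD hne fun A hA h1 h2 => (hex A hA h1 h2).trans (centralizer_le hR)
    · intro h0
      refine hne (le_bot_iff.1 (h0 ▸ ?_))
      exact le_inf inf_le_right (inf_le_left.trans hRD)
    · rw [comm_NN h F]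
      exact (val_mem_un Q).2 (F.LN F.vL)
    · intro y hy
      obtain ⟨z, hz, e⟩ := F.tr (ph Q ⟨y, Y_le_H hy⟩)
      obtain ⟨d, hd, hdD, rfl⟩ := exists_Dg (EO_le h F) hz
      have h3 : d⁻¹ * y ∈ YS (S : Subgroup G) ⊓ centralizer ({Q.val v} : Set G) := by
        refine ⟨(YS (S : Subgroup G)).mul_mem ((YS (S : Subgroup G)).inv_mem (Dg_le hdD)) hy, mem_centralizer_iff.2 ?_⟩
        intro w hw
        rw [Set.mem_singleton_iff.1 hw]
        rw [ph_smul, ph_smul, Nrm.ext_iff, Nrm.val_smul, Nrm.val_smul] at e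
        have e' : d * Q.val v * d⁻¹ = y * Q.val v * y⁻¹ := e
        calc Q.val v * (d⁻¹ * y) = d⁻¹ * (d * Q.val v * d⁻¹) * y := by group
          _ = d⁻¹ * (y * Q.val v * y⁻¹) * y := by rw [e']
          _ = d⁻¹ * y * Q.val v := by group
      have e3 : y = d * (d⁻¹ * y) := by group
      rw [e3]
      exact mul_mem (mem_sup_left hdD) (mem_sup_right h3)
    · rw [comm_NN h F, un_le_sub]
      refine F.gen.trans ((AddSubgroup.closure_le _).2 ?_)
      rintro _ ⟨x, hx, rfl⟩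
      obtain ⟨d, hd, hdD, rfl⟩ := exists_Dg (EO_le h F) hx
      change Q.val _ ∈ hul (zc (S : Subgroup G)) (Dg (YS (S : Subgroup G)) Q EO)
      rw [ph_smul, Nrm.val_sub, Nrm.val_smul]
      exact (hul (zc (S : Subgroup G)) (Dg (YS (S : Subgroup G)) Q EO)).mul_mem (cj_le_hul hdD ⟨Q.val v, heZ, rfl⟩)
        (Subgroup.inv_mem _ (le_hul _ _ heZ))
  rw [comm_NN h F] at hP
  have hnL := nS_LL F
  exact
    { toFrP := hP
      XB := un_mono F.LN
      RB := hR.trans (un_mono F.ZN)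
      eX := (val_mem_un Q).2 F.vL
      sX := (le_normalizer).trans hnL
      sXE := inf_le_right.trans hnL
      sXZ := inf_le_right.trans hnL
      alt := by
        rintro s ⟨hs, hsX⟩
        refine centralizer_le hR ?_
        rw [mem_centralizer_iff]
        rintro _ ⟨m, hm, rfl⟩
        have hsH : s ∈ normalizer (YS (S : Subgroup G) : Set G) := Y_le_H (S_YS h hs)
        have h1 := F.alt _ (ph_mem_im Q (a := ⟨s, hsH⟩) hs) (fun l hl => by
          rw [ph_smul, smul_eq_iff, mul_inv_eq_iff_eq_mul]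
          exact (mem_centralizer_iff.1 hsX _ ((val_mem_un Q).2 hl)).symm) m hm
        rw [ph_smul, smul_eq_iff, mul_inv_eq_iff_eq_mul] at h1
        exact h1.symm
      pX := by
        intro P hP hSR _ g hg
        have hPY := le_YS hP
        have hgH : g ∈ normalizer (YS (S : Subgroup G) : Set G) := Y_le_H (hPY hg)
        refine norm_LL F hgH fun D hD => ?_
        rintro _ ⟨x, hx, rfl⟩
        obtain ⟨a, ha, rfl⟩ := F.FT D hD hx
        have haS : (a : G) ∈ (S : Subgroup G) := ha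
        have haR : (a : G) ∈ centralizer (Rg (S : Subgroup G) Q ZZ : Set G) := by
          rw [mem_centralizer_iff]
          intro r hr
          obtain ⟨m, hm, rfl⟩ := hR hr
          have h4 := F.fix _ (F.FE D hD hx) m hm
          rw [ph_smul, smul_eq_iff, mul_inv_eq_iff_eq_mul] at h4
          exact h4.symm
        have h5 : (a : G) ∈ o2 P := hSR ⟨haS, haR⟩
        have h6 : g * a * g⁻¹ ∈ o2 P := (mem_normalizer_iff.1 (le_normalizer_o2 P hg) _).1 h5
        have h7 : g * a * g⁻¹ ∈ (S : Subgroup G) := hP.isLoc.o2_le S h6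
        have h8 := ph_mem_im Q (A := (S : Subgroup G)) (a := (⟨g, hgH⟩ : normalizer (YS (S : Subgroup G) : Set G)) * a *
          (⟨g, hgH⟩ : normalizer (YS (S : Subgroup G) : Set G))⁻¹) h7
        rw [map_mul, map_mul, map_inv] at h8
        exact h8
      sepX := by
        intro x hx x' hx' y hy hr
        obtain ⟨m, hm, rfl⟩ := hx
        obtain ⟨m', hm', rfl⟩ := hx'
        have hyH : y ∈ normalizer (YS (S : Subgroup G) : Set G) := Y_le_H hy
        obtain ⟨z, hz, e⟩ := hR hr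
        have h1 : ph Q ⟨y, hyH⟩ • m - m' = z := by
          rw [ph_smul]
          refine Nrm.ext ?_
          have e2 : (⟨y, hyH⟩ : normalizer (YS (S : Subgroup G) : Set G)) • m - m' = -m' +
            (⟨y, hyH⟩ : normalizer (YS (S : Subgroup G) : Set G)) • m := by abel
          rw [e2, Nrm.val_add, Nrm.val_neg, Nrm.val_smul, e]
        have h2 := F.sep m hm m' hm' (ph Q ⟨y, hyH⟩) (h1 ▸ hz)
        rw [ph_smul] at h2
        have h3 := congrArg Q.val h2
        rw [Nrm.val_smul] at h3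
        exact h3 }

end frame

end Cfsg.Agent.Omega.NOThreeL.RZ.TwoE.NonSplit

end

-- merged: Cfsg.Agent.Mrg.Omega.NOThreeL.RZ.TwoE.TvBad
section

/-!
# [R-z]: the field `bad` for letter blocks (`TvFin.Full`)

* `E_gen` : `⨆ E b` is generated by the transvections (and `C_M(V)`), so it is normalised by `N(M) ∩ N(V)`;
* `perm` : `N(M) ∩ N(V)` permutes the `N b`; `norm_B` : and normalises `⨆ N b`;
* **`tv_bad`** : the hypothesis `bad` of `FrE.false_of`, `B = ⨆ b, N b`, `R ≤ R₀`.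
-/

set_option autoImplicit false
set_option linter.unusedSectionVars false

namespace Cfsg.Agent.Omega.NOThreeL.RZ.TwoE.TvBad

open Subgroup Cfsg
open Cfsg.Agent.Omega.NOThreeL.RRed
open Cfsg.Agent.Omega.NOThreeL.RRed.Blk
open Cfsg.Agent.Omega.KL.TwoS (Rel Lett)
open scoped Pointwise

universe u

variable {G : Type u} [Group G] {S M V : Subgroup G} {I : Type u} {N E : I → Subgroup G} {R₀ : Subgroup G}
  {Om : I → Type u} [∀ i, Fintype (Om i)] [∀ i, DecidableEq (Om i)] {phi : ∀ i, Finset (Om i) → G}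

/-- generated by the transvections in `M` -/
def TT (M V : Subgroup G) : Subgroup G := closure {x | x ∈ M ∧ ∃ c ∈ V, TvFin.TvV V c x}

theorem norm_TT {d : G} (hM : d ∈ normalizer (M : Set G)) (hV : d ∈ normalizer (V : Set G)) :
    d ∈ normalizer (TT M V : Set G) := by
  have key : ∀ d : G, d ∈ normalizer (M : Set G) → d ∈ normalizer (V : Set G) → ∀ x ∈ TT M V, d * x * d⁻¹ ∈ TT M V := by
    intro d hM hV
    have h1 : TT M V ≤ (TT M V).comap (MulAut.conj d).toMonoidHom := by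
      rw [TT, closure_le]
      rintro x ⟨hx, c, hc, h⟩
      refine subset_closure ⟨(mem_normalizer_iff.1 hM x).1 hx, d * c * d⁻¹, (mem_normalizer_iff.1 hV c).1 hc, ?_⟩
      intro w hw
      have hw' : d⁻¹ * w * d ∈ V := TvKind.conj_mem' hV hw
      have e0 : (MulAut.conj d).toMonoidHom x = d * x * d⁻¹ := rfl
      rw [e0]
      rcases h _ hw' with e | e
      · left
        calc d * x * d⁻¹ * w * (d * x * d⁻¹)⁻¹ = d * (x * (d⁻¹ * w * d) * x⁻¹) * d⁻¹ := by group
          _ = w := by rw [e]; group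
      · right
        calc d * x * d⁻¹ * w * (d * x * d⁻¹)⁻¹ = d * (x * (d⁻¹ * w * d) * x⁻¹) * d⁻¹ := by group
          _ = w * (d * c * d⁻¹) := by rw [e]; group
    exact fun x hx => h1 hx
  rw [mem_normalizer_iff]
  refine fun x => ⟨key d hM hV x, fun hx => ?_⟩
  have h1 := key d⁻¹ (inv_mem hM) (inv_mem hV) _ hx
  have e : d⁻¹ * (d * x * d⁻¹) * d⁻¹⁻¹ = x := by group
  rwa [e] at h1

/-- `⨆ E b` is generated by the transvections -/
theorem E_gen [Nonempty I] (F : TvFin.Full S M V N E R₀ Om phi) : (⨆ b, E b) = TT M V := by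
  apply le_antisymm
  · refine iSup_le fun b => ?_
    have key : ∀ σ : Equiv.Perm (Om b), ∀ g ∈ E b, Rel (phi b) g σ → g ∈ TT M V := by
      intro σ
      refine Equiv.Perm.swap_induction_on σ ?_ ?_
      · intro g hg h
        have h1 : g ∈ centralizer (V : Set G) := by
          rw [← F.toDec.sup_Co b]
          have h2 : N b ⊔ Co N R₀ b ≤ centralizer ({g} : Set G) := by
            refine sup_le ?_ (sup_le (iSup_le fun k => ?_) ?_)
            · intro z hz
              rw [mem_centralizer_singleton_iff]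
              exact mem_centralizer_iff.1 ((F.lett b).cent_of_one h) z hz
            · intro z hz
              rw [mem_centralizer_singleton_iff]
              exact mem_centralizer_iff.1 (F.EC b k.1 (Ne.symm k.2) hg) z hz
            · intro z hz
              rw [mem_centralizer_singleton_iff]
              exact mem_centralizer_iff.1 (F.ER b hg) z hz
          rw [mem_centralizer_iff]
          intro z hz
          exact mem_centralizer_singleton_iff.1 (h2 hz)
        refine subset_closure ⟨F.EL b hg, 1, one_mem _, fun w hw => Or.inl ?_⟩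
        rw [← mem_centralizer_iff.1 h1 w hw, mul_inv_cancel_right]
      · intro f x y hxy ih g hg h
        obtain ⟨s, hs, h1, h2⟩ := F.swap b x y hxy
        have h3 : s ∈ TT M V := by
          refine subset_closure ⟨F.EL b hs, phi b {x, y}, F.toDec.NU b ?_, h2⟩
          exact ((F.lett b).mem _).2 ⟨_, by rw [Finset.card_pair hxy]; exact even_two, rfl⟩
        have h4 : s⁻¹ * g ∈ TT M V := by
          refine ih _ (mul_mem (inv_mem hs) hg) ?_
          have h5 := h1.inv.mul h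
          rwa [← mul_assoc, inv_mul_cancel, one_mul] at h5
        have e : g = s * (s⁻¹ * g) := by group
        rw [e]
        exact mul_mem h3 h4
    intro g hg
    obtain ⟨σ, h⟩ := (F.lett b).act g hg
    exact key σ g hg h
  · rw [TT, closure_le]
    rintro x ⟨hx, c, hc, h⟩
    by_cases hne : x ∈ centralizer (V : Set G)
    · obtain ⟨b⟩ := ‹Nonempty I›
      exact (le_iSup E b) (F.CE b (mem_inf.2 ⟨hx, hne⟩))
    · obtain ⟨i, hi, -⟩ := F.tvs x hx c hc h hne
      exact (le_iSup E i) hi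

theorem norm_E [Nonempty I] (F : TvFin.Full S M V N E R₀ Om phi) {d : G} (hM : d ∈ normalizer (M : Set G))
    (hV : d ∈ normalizer (V : Set G)) : d ∈ normalizer ((⨆ b, E b : Subgroup G) : Set G) := by
  rw [E_gen F]
  exact norm_TT hM hV

section syl

variable [Finite G] {S : Sylow 2 G}

/-- `N(M) ∩ N(V)` permutes the `N b` -/
theorem perm [Nonempty I] (F : TvFin.Full (S : Subgroup G) M V N E R₀ Om phi) {d : G}
    (hM : d ∈ normalizer (M : Set G)) (hV : d ∈ normalizer (V : Set G)) (b : I) :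
    ∃ c, MulAut.conj d • N b = N c :=
  TwoC.BadE.perm_of F.toDec (fun b _ hW hn hne => TvKind.irr F b hW hn hne) (TvKind.mv F) hV (norm_E F hM hV) b

theorem norm_B [Nonempty I] (F : TvFin.Full (S : Subgroup G) M V N E R₀ Om phi) {d : G}
    (hM : d ∈ normalizer (M : Set G)) (hV : d ∈ normalizer (V : Set G)) :
    d ∈ normalizer ((⨆ b, N b : Subgroup G) : Set G) := by
  have key : ∀ d : G, d ∈ normalizer (M : Set G) → d ∈ normalizer (V : Set G) → ∀ x ∈ ⨆ b, N b,
      d * x * d⁻¹ ∈ ⨆ b, N b := by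
    intro d hM hV
    have h1 : (⨆ b, N b) ≤ (⨆ b, N b : Subgroup G).comap (MulAut.conj d).toMonoidHom := by
      refine iSup_le fun b x hx => ?_
      obtain ⟨c, hc⟩ := perm F hM hV b
      exact (le_iSup N c) ((conj_smul hc).1 hx)
    exact fun x hx => h1 hx
  rw [mem_normalizer_iff]
  refine fun x => ⟨key d hM hV x, fun hx => ?_⟩
  have h1 := key d⁻¹ (inv_mem hM) (inv_mem hV) _ hx
  have e : d⁻¹ * (d * x * d⁻¹) * d⁻¹⁻¹ = x := by group
  rwa [e] at h1

end syl

section glue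

open Cfsg.Agent.ZN (zc zl)
open Cfsg.Agent.Omega.NOThreeL.Star (YS)

variable [Finite G] {S : Sylow 2 G} [Finite I] [Nonempty I] {R : Subgroup G}

/-- `N_G(S)` normalises `⨆ N b` -/
theorem nS_B (F : TvFin.Full (S : Subgroup G) (YS (S : Subgroup G)) (zl (S : Subgroup G) (YS S)) N E R₀ Om phi)
    (hn : normalizer ((S : Subgroup G) : Set G) ≤ normalizer (YS (S : Subgroup G) : Set G)) :
    normalizer ((S : Subgroup G) : Set G) ≤ normalizer ((⨆ b, N b : Subgroup G) : Set G) := fun _ hd =>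
  norm_B F (hn hd) (TwoC.BadE.norm_zl F.toDec.SL (hn hd))

/-- **the hypothesis `bad` of `FrE.false_of`, letter blocks** -/
theorem tv_bad (F : TvFin.Full (S : Subgroup G) (YS (S : Subgroup G)) (zl (S : Subgroup G) (YS S)) N E R₀ Om phi)
    (hR : R ≤ R₀) (hsq : ∀ x ∈ zl (S : Subgroup G) (YS S), x ^ 2 = 1) {e : G} :
    ∀ d ∈ centralizer ({e} : Set G), d ∈ normalizer (R : Set G) → d ∈ normalizer ((⨆ b, N b : Subgroup G) : Set G) →
      d ∈ normalizer (((S : Subgroup G) ⊓ centralizer (R : Set G) : Subgroup G) : Set G) →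
      d ∈ normalizer (YS (S : Subgroup G) : Set G) → Odd (orderOf d) →
      (∀ j ∈ (S : Subgroup G) ⊓ centralizer (R : Set G), ∀ w ∈ (⨆ b, N b : Subgroup G),
        (j * d * j⁻¹ * d⁻¹) * (d * w * d⁻¹ * w⁻¹) = (d * w * d⁻¹ * w⁻¹) * (j * d * j⁻¹ * d⁻¹)) →
      d ∈ centralizer ((⨆ b, N b : Subgroup G) : Set G) :=
  TwoC.BadE.bad_of F.toDec hR (fun b _ hW hn hne => TvKind.irr F b hW hn hne) (TvKind.mv F) hsq (l := fun _ => ⊥)
    (fun b => Or.inr fun _ ho hN hE hd _ => TvKind.kind F b ho hN hE hd)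
    (fun _ hdY hdU _ _ => norm_E F hdY hdU)

end glue

end Cfsg.Agent.Omega.NOThreeL.RZ.TwoE.TvBad

end

-- merged: Cfsg.Agent.Mrg.Omega.NOThreeL.RRed.Ex.Cent
section

section


/-!
# NO-3L, box R: THEOREM EX (#26554), group form (text: helper245)

* `ExG S L` : if all minimal exact `B ≤ S` on `V = zl S L` centralise the `L`-invariant `D ≤ V`, then all exact
  elementary abelian `A ≤ S` centralise `D`;
* **`exG_of`** : `ExG S L` from the statement `ExThm` for the faithful module;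
* `cent_of_exG` : best offenders instead of exact groups;
* **`best_cent`, `hb_of`** : `V* = ⟨Z^Y⟩`: the best offenders of `S` centralise the `Y`-invariant `D ≤ V*` which is
  centralised by `E₁`; in particular `R₁`.
-/

set_option autoImplicit false
set_option linter.unusedSectionVars false

namespace Cfsg.Agent.Omega.NOThreeL.RRed.Ex.Cent

open Subgroup Cfsg
open Cfsg.Agent.ZN (o2 zc zl jj)
open Cfsg.Agent.ZN.ChoiceBase hiding mem_zc
open Cfsg.Agent.Omega.MinPar Cfsg.Agent.Omega.Frame Cfsg.Agent.Omega.FrameNOFF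
open Cfsg.Agent.Omega.FFThm (ElemM OffM NoOverM)
open Cfsg.Agent.Omega.NO1.BestOff (Best)
open Cfsg.Agent.Omega.NOThreeL.Star (YS le_YS S_le_YS)
open Cfsg.Agent.Omega.NOThreeL.RSplit (Nrm)
open Cfsg.Agent.Omega.NOThreeL.RRed.Blk.AsmCore (im im_mono)
open Cfsg.Agent.Omega.NOThreeL.RRed.EOne (E1 Z1 R1)
open Cfsg.Agent.Omega.NOThreeL.RTree (RB)
open Cfsg.Agent.MinSimple.VModule (le_normalizer_zl)
open scoped Pointwise

universe u

variable {G : Type u} [Group G]

/-- **THEOREM EX in `G`.** -/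
def ExG (S L : Subgroup G) : Prop :=
  ∀ D ≤ zl S L, L ≤ normalizer (D : Set G) → (∀ B ≤ S, Mx (zl S L) B → B ≤ centralizer (D : Set G)) →
    ∀ A ≤ S, ElemM (zl S L) A → Exa (zl S L) A → A ≤ centralizer (D : Set G)

section fin

variable [Finite G]

/-- from the faithful module to `G` -/
theorem exG_of {S L : Subgroup G} (Q : Nrm L (zl S L)) (hSL : S ≤ L) (hp : IsPGroup 2 S)
    (hno : NoOverM (zl S L) L) (ex : ExThm Q.Mod (im Q S)) : ExG S L := by
  intro D hD hLD hb A hA hE hX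
  have hAL := hA.trans hSL
  rw [← Dict.ad_le_fxd Q hD hAL]
  refine ex (Q.ad D) (Dict.inv_ad Q hLD) (fun B' hB' hm => ?_) (im Q A) (im_mono Q hA)
    ((Dict.el_iff Q hAL).2 hE) (Dict.xa_of Q hAL hX)
  obtain ⟨B, hBS, hBL, rfl⟩ := Dict.exists_im Q hB'
  exact (Dict.ad_le_fxd Q hD hBL).2 (hb B hBS (Dict.mx_of Q hno hBL (hp.to_le hBS) hm))

/-- the same for best offenders -/
theorem cent_of_exG {S L D A : Subgroup G} (ex : ExG S L) (hSL : S ≤ L) (hno : NoOverM (zl S L) L) (hD : D ≤ zl S L)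
    (hLD : L ≤ normalizer (D : Set G)) (hb : ∀ B ≤ S, Mx (zl S L) B → B ≤ centralizer (D : Set G)) (hA : A ≤ S)
    (hbA : Best (zl S L) A) : A ≤ centralizer (D : Set G) :=
  ex D hD hLD hb A hA hbA.toElemM (TvExa.exa_of_best hno (hA.trans hSL) hbA)

variable {S : Sylow 2 G}

/-- an offender of `S` on `V*` : no over-offenders -/
theorem no_of_off (h : RB S) {A : Subgroup G} (hA : A ≤ YS (S : Subgroup G))
    (hm : OffM (zl (S : Subgroup G) (YS S)) A) : NoOverM (zl (S : Subgroup G) (YS S)) (YS (S : Subgroup G)) := by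
  have hSY := S_le_YS h.ctx h.full
  have hne : (S : Subgroup G) ≠ ⊥ := by
    intro h0
    apply hm.ne
    have h1 : zl (S : Subgroup G) (YS S) = ⊥ := le_bot_iff.1 (h0 ▸ EOne.VS h)
    rw [h1]
    exact fun x _ => mem_centralizer_iff.2 fun y hy => by rw [mem_bot.1 hy, one_mul, mul_one]
  exact (exists_gOne h.ctx.char2 (Star.isLoc h.ctx.char2 h.data.noff hSY hne)
    (sSup_le fun P hP => le_sSup ⟨hP, le_YS hP⟩) ⟨A, hA, hm⟩).choose_spec.choose_spec.no

theorem off_of_best {V A : Subgroup G} (hb : Best V A) (hne : ¬ A ≤ centralizer (V : Set G)) : OffM V A := by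
  refine { toElemM := hb.toElemM, ne := hne, le := ?_ }
  have h1 := hb.max (A ⊓ centralizer (V : Set G)) inf_le_left le_rfl
  have h2 : V ⊓ centralizer ((A ⊓ centralizer (V : Set G) : Subgroup G) : Set G) = V :=
    inf_eq_left.2 (le_centralizer_iff.1 inf_le_right)
  rw [h2, mul_comm] at h1
  exact h1

/-- **The best offenders of `S` centralise the `Y`-invariant subgroups of `C_{V*}(E₁)`.** -/
theorem best_cent (h : RB S)
    (ex : NoOverM (zl (S : Subgroup G) (YS S)) (YS (S : Subgroup G)) → ExG (S : Subgroup G) (YS S)) {D : Subgroup G}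
    (hD : D ≤ zl (S : Subgroup G) (YS S)) (hYD : YS (S : Subgroup G) ≤ normalizer (D : Set G))
    (hE : E1 (S : Subgroup G) ≤ centralizer (D : Set G)) :
    ∀ A ≤ (S : Subgroup G), Best (zl (S : Subgroup G) (YS S)) A → A ≤ centralizer (D : Set G) := by
  intro A hA hbA
  by_cases hne : A ≤ centralizer (zl (S : Subgroup G) (YS S) : Set G)
  · exact hne.trans (centralizer_le hD)
  have hSY := S_le_YS h.ctx h.full
  have hno := no_of_off h (hA.trans hSY) (off_of_best hbA hne)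
  exact cent_of_exG (ex hno) hSY hno hD hYD (fun B hB hm => (EOne.mx_le_E1 hB hm).trans hE) hA hbA

/-- **`hb`: the best offenders of `S` centralise `R₁`.** -/
theorem hb_of (h : RB S)
    (ex : NoOverM (zl (S : Subgroup G) (YS S)) (YS (S : Subgroup G)) → ExG (S : Subgroup G) (YS S)) :
    ∀ A ≤ (S : Subgroup G), Best (zl (S : Subgroup G) (YS S)) A → A ≤ centralizer (R1 (S : Subgroup G) : Set G) :=
  best_cent h ex EOne.R1_le (EOne.YS_le_norm_R1 _) EOne.E1_cent

/-- the same for the groups of `𝒜(O₂(C_G(Z)))` (Thompson) -/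
theorem hA_of (h : RB S)
    (ex : NoOverM (zl (S : Subgroup G) (YS S)) (YS (S : Subgroup G)) → ExG (S : Subgroup G) (YS S)) {D : Subgroup G}
    (hD : D ≤ zl (S : Subgroup G) (YS S)) (hYD : YS (S : Subgroup G) ≤ normalizer (D : Set G))
    (hE : E1 (S : Subgroup G) ≤ centralizer (D : Set G))
    (low : zl (S : Subgroup G) (YS S) ≤ o2 (CZ (S : Subgroup G))) :
    ∀ A ∈ AA (o2 (CZ (S : Subgroup G))), A ≤ centralizer (D : Set G) := fun A hA =>
  best_cent h ex hD hYD hE A (hA.2.1.trans RZ.TwoC.Loc.o2C_le)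
    (RZ.TwoC.FrEOf.best_of_mem (NO3S.EThree.ExactA.eab_iff.2 ⟨EOne.VC h, EOne.Vsq h⟩) low hA)

end fin

end Cfsg.Agent.Omega.NOThreeL.RRed.Ex.Cent

end

section


/-!
# NO-3L, box R: THEOREM EX (#26554), assembly

* `gp_of` : `Gp` for one `P`;
* **`exG`** : `ExG S L` for `L` local, generated by its `P ∈ P*(S)`;  **`exB`** : for `V*`.
-/

set_option autoImplicit false
set_option linter.unusedSectionVars false

namespace Cfsg.Agent.Omega.NOThreeL.RRed.Ex.Main

open Subgroup Cfsg Cfsg.Agent.ZN Cfsg.Agent.Omega.MinPar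
open Cfsg.Agent.Omega.FFThm
open Cfsg.Agent.Omega.FrameFF (cv)
open Cfsg.Agent.Omega.NO3S.ThmB (Sb)
open Cfsg.Agent.Omega.NOThreeL.Star (YS)
open Cfsg.Agent.Omega.NOThreeL.RSplit (Nrm)
open Cfsg.Agent.Omega.NOThreeL.RRed.Blk.AsmCore (im)
open Cfsg.Agent.Omega.NOThreeL.RTree (RB)
open Cfsg.Agent.Omega.NOThreeL.RRed.Ex.Inst (Gp gy_of)
open Cfsg.Agent.Omega.NOThreeL.RRed.Ex.Cent (ExG exG_of)

universe u

variable {G : Type u} [Group G] [Finite G] {S : Sylow 2 G} {L P : Subgroup G}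

theorem gp_of (hc : IsCharacteristicTwoType G) (Q : Nrm L (zl (S : Subgroup G) L))
    (hL : IsLoc (S : Subgroup G) L) (hP : IsParS (S : Subgroup G) P)
    (hPL : P ≤ L) (hno : NoOverM (zl (S : Subgroup G) L) L) :
    Gp Q.Mod (im Q (S : Subgroup G)) (im Q P) (Q.ad (zl (S : Subgroup G) P)) := by
  have hU2 := FFThm.elem_zl hc S hL
  have hVU : zl (S : Subgroup G) P ≤ zl (S : Subgroup G) L := NOThreeL.Star.zl_mono _ hPL
  have pf : ConclM (S : Subgroup G) P → Pf (S : Subgroup G) P (zl (S : Subgroup G) P) (zl (S : Subgroup G) L) :=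
    fun con => pf_of' hc hP hU2 hVU con fun hM => SymOut.pf_sym hM hU2 hVU
  exact
    { sy := InstB.sy S Q hP.le hPL
      split := InstB.split hc Q hP hPL hno
      one := OneQuad.one Q hc hL hP hPL hno
      quad := OneQuad.quad Q hc hL hP hPL hno
      out := Tr1.out Q hc hP hPL hno pf
      pair := Tr1.pair Q hc hP hPL hno pf
      sg := Sg.sg hc Q hP hPL hno pf
      cov := Cov.cov hc Q hP hPL hno
      wab := Wab.wab hc Q hP hPL hno }

/-- **THEOREM EX for a local `L`.** -/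
theorem exG (hc : IsCharacteristicTwoType G) (hSL : (S : Subgroup G) ≤ L)
    (hL : IsLoc (S : Subgroup G) L) (gen : L ≤ sSup {P | IsParS (S : Subgroup G) P ∧ P ≤ L})
    (hno : NoOverM (zl (S : Subgroup G) L) L) : ExG (S : Subgroup G) L := by
  have el := FFThm.elem_zl hc S hL
  have Q : Nrm L (zl (S : Subgroup G) L) :=
    { ab := fun u hu v hv => congrArg Subtype.val (el.1.is_comm.comm ⟨u, hu⟩ ⟨v, hv⟩)
      nrm := MinSimple.VModule.le_normalizer_zl _ _ }
  have g := gy_of Q hc hSL hL gen el hno fun P hP hPL => gp_of hc Q hL hP hPL hno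
  exact exG_of Q hSL S.isPGroup' hno (exThm g g.commX)

/-- **THEOREM EX for `V*`.** -/
theorem exB (hG : RB S) (hno : NoOverM (zl (S : Subgroup G) (YS S)) (YS (S : Subgroup G))) :
    ExG (S : Subgroup G) (YS S) :=
  exG hG.ctx.char2 (EOne.S_YS hG) (Merge.isLoc_MZ hG.ctx hG.full hG.data.noff) (FourTree.gen_MZ S) hno

end Cfsg.Agent.Omega.NOThreeL.RRed.Ex.Main

end

section


/-!
# [R-z]: the socket `TvO` (a transvection in `S`, `C_Z(E₁) ≠ 1`)

`frE_tvS` (the frame `FrE S R₁ (∏ N b) e` from the transvection blocks), `FrE.false_of`, `tv_bad`, and THEOREM EX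
(`Ex.Main.exB`, the best offenders of `S` centralise `R₁`).

* **`tvO`** : `TvO`.
-/

set_option autoImplicit false
set_option linter.unusedSectionVars false

namespace Cfsg.Agent.Omega.NOThreeL.RZ.TwoE.TvEnd

open Subgroup Cfsg
open Cfsg.Agent.ZN (o2 zc zl jj)
open Cfsg.Agent.Omega.ML.Final (MLK)
open Cfsg.Agent.Omega.NOThreeL.Star (YS)
open Cfsg.Agent.Omega.NOThreeL.RTreeF (RBF)
open Cfsg.Agent.Omega.NOThreeL.RTree (RB)
open Cfsg.Agent.Omega.NOThreeL.RZ.TwoC (FrE)
open Cfsg.Agent.Omega.NOThreeL.RRed.Ex.Cent (hb_of)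

universe u

/-- **The socket `TvO`.** -/
theorem tvO (hM : MLK.{u, u}) (hR : NO3b.EndX.RedP.{u, u}) (hE : ML.Ex.Two.Ext.{u, u}) : NrTree.TvO.{u} := by
  intro G _ _ S h h1 ht
  have hB : RB S := h.toRB
  obtain ⟨I, i1, i2, N, E, R₀, Om, i3, i4, phi, F, hRR, e, he, f⟩ :=
    Tv.frE_tvS hB ht h1 (hb_of hB (RRed.Ex.Main.exB hB))
  have := F.nonempty
  exact f.false_of hM hR hE (TvBad.tv_bad F.toFull hRR (RRed.EOne.Vsq hB))

end Cfsg.Agent.Omega.NOThreeL.RZ.TwoE.TvEnd

end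

end

-- merged: Cfsg.Agent.Mrg.Omega.NOThreeL.RZ.TwoC.BadN
section

/-!
# [R-z], the nonsplit case: the field `bad`, group level (helper878, bb #27357)

`Q : Nrm H U`, `FamN (im Q S) (im Q '' EE S U) FF N C L Z` (the root groups of one class of blocks with radicals),
`B ≤ U` the product of the blocks, `e ∈ U` with all `L`-components `≠ 1`, the atoms `A ≤ S` centralise `R`.

* **`bad_grp`** : `d` of odd order, `d ∈ N(H) ∩ N(U) ∩ N(B) ∩ N(C_S(R)) ∩ C(e)`, `[[B, d], [C_S(R), d]] = 1` ⟹ `d ∈ C(B)`;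
* **`bad_of`**, **`bad_un`** : the hypothesis `bad` of `FrN.false_of` for `H = Y`, `H = N_G(Y)`.
-/

set_option autoImplicit false
set_option linter.unusedSectionVars false

namespace Cfsg.Agent.Omega.NOThreeL.RZ.TwoC.BadN

open Subgroup Cfsg
open Cfsg.Agent.ZN (o2 zc zl)
open Cfsg.Agent.Omega.NOThreeL.Star (YS S_le_YS)
open Cfsg.Agent.Omega.NOThreeL.RSplit (Nrm)
open Cfsg.Agent.Omega.NOThreeL.RRed (Mx)
open Cfsg.Agent.Omega.NOThreeL.RRed.NS (conj_eq_cj smul_eq_iff un val_mem_un)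
open Cfsg.Agent.Omega.NOThreeL.RRed.Blk.TypesNat (XH ph ph_smul XH_faith tau val_tau sig sig_ph tau_sig map_sig cjH)
open Cfsg.Agent.Omega.NOThreeL.RRed.Blk.AsmCore (EE im)
open Cfsg.Agent.Omega.NOThreeL.RRed.Blk.AsmN (FamN)
open Cfsg.Agent.Omega.NOThreeL.RRed.Blk.BadFam (AutN)
open scoped Pointwise

universe u

variable {G : Type u} [Group G]

/-- conjugates of the atoms under `N(U) ∩ N(C_S(R))` -/
theorem EE_conj [Finite G] {S U R : Subgroup G} (hR : ∀ A ∈ EE S U, A ≤ centralizer (R : Set G)) {d : G}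
    (hdU : d ∈ normalizer (U : Set G)) (hdJ : d ∈ normalizer ((S ⊓ centralizer (R : Set G) : Subgroup G) : Set G))
    {A : Subgroup G} (hA : A ∈ EE S U) : MulAut.conj d • A ∈ EE S U := by
  rw [conj_eq_cj]
  refine ⟨?_, NOThreeL.RRed.CI.mx_conj hA.2 hdU⟩
  intro x hx
  rw [ZN.ChoiceBase.mem_cj] at hx
  have h1 : d⁻¹ * x * d ∈ S ⊓ centralizer (R : Set G) := ⟨hA.1 hx, hR A hA hx⟩
  have h2 := (mem_normalizer_iff.1 hdJ _).1 h1
  have e : d * (d⁻¹ * x * d) * d⁻¹ = x := by group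
  rw [e] at h2
  exact h2.1

/-- **`bad`, group level** -/
theorem bad_grp [Finite G] {S H U R B : Subgroup G} (Q : Nrm H U) (hU2 : ∀ x ∈ U, x ^ 2 = 1) (hSH : S ≤ H)
    {FF : Set (Subgroup (XH Q))} {N C L Z : Subgroup (XH Q) → AddSubgroup Q.Mod}
    (h : FamN (im Q S) (im Q '' EE S U) FF N C L Z) (hB : B ≤ U) (hBN : Q.ad B = ⨆ D ∈ FF, N D)
    (hR : ∀ A ∈ EE S U, A ≤ centralizer (R : Set G)) {e : G} (heU : e ∈ U)
    (hc : ∀ D ∈ FF, ∃ x ∈ L D, x ≠ 0 ∧ Q.of e heU - x ∈ C D) {d : G}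
    (hdH : d ∈ normalizer (H : Set G)) (hdU : d ∈ normalizer (U : Set G)) (hde : d * e = e * d)
    (hdB : d ∈ normalizer (B : Set G))
    (hdJ : d ∈ normalizer ((S ⊓ centralizer (R : Set G) : Subgroup G) : Set G)) (hd : Odd (orderOf d))
    (hcom : ∀ j ∈ S ⊓ centralizer (R : Set G), ∀ w ∈ B,
      (j * d * j⁻¹ * d⁻¹) * (d * w * d⁻¹ * w⁻¹) = (d * w * d⁻¹ * w⁻¹) * (j * d * j⁻¹ * d⁻¹)) :
    d ∈ centralizer (B : Set G) := by
  have h2 : ∀ v : Q.Mod, v + v = 0 := fun v => Nrm.ext (by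
    rw [Nrm.val_add, Nrm.val_zero]
    have := hU2 _ (Q.val_mem v)
    rwa [pow_two] at this)
  have hAH : ∀ A ∈ EE S U, A ≤ H := fun A hA => hA.1.trans hSH
  have ha : AutN (im Q '' EE S U) (⨆ D ∈ FF, N D) (tau Q hdU) (sig Q hdU hdH) :=
    { smul := tau_sig Q hdU hdH
      E := by
        rintro _ ⟨A, hA, rfl⟩
        exact ⟨_, EE_conj hR hdU hdJ hA, (map_sig Q hdU hdH A (hAH A hA)).symm⟩
      E' := by
        rintro _ ⟨A, hA, rfl⟩
        have hA' := EE_conj hR (inv_mem hdU) (inv_mem hdJ) hA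
        refine ⟨_, ⟨_, hA', rfl⟩, ?_⟩
        rw [im, im, map_sig Q hdU hdH _ (hAH _ hA'), smul_smul, ← map_mul, mul_inv_cancel, map_one, one_smul]
      nB := by
        intro m hm
        rw [← hBN] at hm ⊢
        exact (mem_normalizer_iff.1 hdB _).1 hm
      com := by
        rintro _ ⟨A, hA, rfl⟩ _ ⟨a, ha, rfl⟩ m hm
        rw [← hBN] at hm
        have hj : (a : G) ∈ S ⊓ centralizer (R : Set G) := ⟨hA.1 ha, hR A hA ha⟩
        rw [sig_ph, ← map_inv, ← map_mul, ph_smul, smul_eq_iff, Nrm.val_sub, val_tau]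
        have h1 := hcom a hj (Q.val m) hm
        have e1 : ((a * (cjH hdH a)⁻¹ : H) : G) = a * d * (a : G)⁻¹ * d⁻¹ := by
          change (a : G) * (d * a * d⁻¹)⁻¹ = _
          group
        rw [e1, h1, mul_inv_cancel_right] }
  have hα : ∀ v : Q.Mod, (⇑(tau Q hdU))^[orderOf d] v = v := by
    have h1 : ∀ (k : ℕ) (v : Q.Mod), Q.val ((⇑(tau Q hdU))^[k] v) = d ^ k * Q.val v * (d ^ k)⁻¹ := by
      intro k v
      induction k with
      | zero => simp
      | succ k ih =>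
        rw [Function.iterate_succ_apply', val_tau, ih, pow_succ']
        group
    intro v
    refine Nrm.ext ?_
    rw [h1, pow_orderOf_eq_one]
    simp
  have he : tau Q hdU (Q.of e heU) = Q.of e heU := Nrm.ext (by
    rw [val_tau, Nrm.val_of, hde, mul_inv_cancel_right])
  have key := RRed.Blk.BadFam.bad h2 (XH_faith Q) h ha hd hα he hc
  rw [mem_centralizer_iff]
  intro w hw
  have h1 : Q.of w (hB hw) ∈ (⨆ D ∈ FF, N D : AddSubgroup Q.Mod) := by
    rw [← hBN]
    exact hw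
  have h3 := congrArg Q.val (key _ h1)
  rw [val_tau, Nrm.val_of] at h3
  exact (mul_inv_eq_iff_eq_mul.1 h3).symm

/-- **the hypothesis `bad` of `FrN.false_of`** -/
theorem bad_of [Finite G] {S : Sylow 2 G} {R B : Subgroup G} (hSY : (S : Subgroup G) ≤ YS (S : Subgroup G))
    (Q : Nrm (YS (S : Subgroup G)) (zl (S : Subgroup G) (YS S)))
    (hU2 : ∀ x ∈ zl (S : Subgroup G) (YS S), x ^ 2 = 1)
    {FF : Set (Subgroup (XH Q))} {N C L Z : Subgroup (XH Q) → AddSubgroup Q.Mod}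
    (h : FamN (im Q S) (im Q '' EE (S : Subgroup G) (zl (S : Subgroup G) (YS S))) FF N C L Z)
    (hB : B ≤ zl (S : Subgroup G) (YS S)) (hBN : Q.ad B = ⨆ D ∈ FF, N D)
    (hR : ∀ A ∈ EE (S : Subgroup G) (zl (S : Subgroup G) (YS S)), A ≤ centralizer (R : Set G)) {e : G}
    (heU : e ∈ zl (S : Subgroup G) (YS S)) (hc : ∀ D ∈ FF, ∃ x ∈ L D, x ≠ 0 ∧ Q.of e heU - x ∈ C D) :
    ∀ d ∈ centralizer ({e} : Set G), d ∈ normalizer (R : Set G) → d ∈ normalizer (B : Set G) →
      d ∈ normalizer (((S : Subgroup G) ⊓ centralizer (R : Set G) : Subgroup G) : Set G) →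
      d ∈ normalizer (YS (S : Subgroup G) : Set G) → Odd (orderOf d) →
      (∀ j ∈ (S : Subgroup G) ⊓ centralizer (R : Set G), ∀ w ∈ B,
        (j * d * j⁻¹ * d⁻¹) * (d * w * d⁻¹ * w⁻¹) = (d * w * d⁻¹ * w⁻¹) * (j * d * j⁻¹ * d⁻¹)) →
      d ∈ centralizer (B : Set G) := by
  intro d hde _ hdB hdJ hdY hd hcom
  exact bad_grp Q hU2 hSY h hB hBN hR heU hc hdY (BadE.norm_zl hSY hdY) (mem_centralizer_singleton_iff.1 hde) hdB hdJ
    hd hcom

/-- **the hypothesis `bad` of `FrN.false_of`**, with `H := N_G(Y)` and `B := un Q (⨆ N)` -/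
theorem bad_un [Finite G] {S : Sylow 2 G} {R : Subgroup G} (hSY : (S : Subgroup G) ≤ YS (S : Subgroup G))
    (Q : Nrm (normalizer (YS (S : Subgroup G) : Set G)) (zl (S : Subgroup G) (YS S)))
    (hU2 : ∀ x ∈ zl (S : Subgroup G) (YS S), x ^ 2 = 1)
    {FF : Set (Subgroup (XH Q))} {N C L Z : Subgroup (XH Q) → AddSubgroup Q.Mod}
    (h : FamN (im Q S) (im Q '' EE (S : Subgroup G) (zl (S : Subgroup G) (YS S))) FF N C L Z)
    (hR : ∀ A ∈ EE (S : Subgroup G) (zl (S : Subgroup G) (YS S)), A ≤ centralizer (R : Set G)) {v : Q.Mod}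
    (hc : ∀ D ∈ FF, ∃ x ∈ L D, x ≠ 0 ∧ v - x ∈ C D) :
    ∀ d ∈ centralizer ({Q.val v} : Set G), d ∈ normalizer (R : Set G) →
      d ∈ normalizer ((un Q (⨆ D ∈ FF, N D) : Subgroup G) : Set G) →
      d ∈ normalizer (((S : Subgroup G) ⊓ centralizer (R : Set G) : Subgroup G) : Set G) →
      d ∈ normalizer (YS (S : Subgroup G) : Set G) → Odd (orderOf d) →
      (∀ j ∈ (S : Subgroup G) ⊓ centralizer (R : Set G), ∀ w ∈ un Q (⨆ D ∈ FF, N D),
        (j * d * j⁻¹ * d⁻¹) * (d * w * d⁻¹ * w⁻¹) = (d * w * d⁻¹ * w⁻¹) * (j * d * j⁻¹ * d⁻¹)) →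
      d ∈ centralizer ((un Q (⨆ D ∈ FF, N D) : Subgroup G) : Set G) := by
  intro d hde _ hdB hdJ hdY hd hcom
  refine bad_grp Q hU2 (hSY.trans le_normalizer) h ?_ ?_ hR (Q.val_mem v) hc (le_normalizer hdY)
    (BadE.norm_zl hSY hdY) (mem_centralizer_singleton_iff.1 hde) hdB hdJ hd hcom
  · rintro _ ⟨m, _, rfl⟩
    exact Q.val_mem m
  · exact AddSubgroup.ext fun m => val_mem_un Q

end Cfsg.Agent.Omega.NOThreeL.RZ.TwoC.BadN

end

-- merged: Cfsg.Agent.Mrg.Omega.NOThreeL.RZ.TwoE.NsEnd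
section

/-!
# [R-z]: the socket `NsO` (a nonsplit natural block, `C_Z(E₁) ≠ 1`)

* `InB` : the two inputs `InN` of the family of the nonsplit blocks (active `P ∈ P*(S)`; other atoms centralise the block);
* `Z_cent` : the exact groups of `S` centralise the sum of the radicals (THEOREM EX);
* `false_of` : no family of natural blocks with `ZZ ≠ 0`;
* **`nsO`** : `NsO`.
-/

set_option autoImplicit false
set_option linter.unusedSectionVars false

namespace Cfsg.Agent.Omega.NOThreeL.RZ.TwoE.NsEnd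

open Subgroup Cfsg
open Cfsg.Agent.ZN (o2 zc zl jj)
open Cfsg.Agent.Omega.MinPar Cfsg.Agent.Omega.Frame
open Cfsg.Agent.Omega.FrameFF (cv)
open Cfsg.Agent.Omega.NO3S.ThmB Cfsg.Agent.Omega.NO3S.KeyRad
open Cfsg.Agent.Omega.ML.Final (MLK)
open Cfsg.Agent.Omega.FFThm (ElemM OffM NoOverM)
open Cfsg.Agent.Omega.NOThreeL.Star (YS S_le_YS)
open Cfsg.Agent.Omega.NOThreeL.Merge (MZ le_MZ isLoc_MZ)
open Cfsg.Agent.Omega.NOThreeL.RTreeF (RBF)
open Cfsg.Agent.Omega.NOThreeL.RTree (RB)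
open Cfsg.Agent.Omega.NOThreeL.RSplit (Nrm)
open Cfsg.Agent.Omega.NOThreeL.RZ.TwoC (FrN)
open Cfsg.Agent.Omega.NOThreeL.RRed (Mx Exa)
open Cfsg.Agent.Omega.NOThreeL.RRed.EOne (Vsq S_YS no_of_mx)
open Cfsg.Agent.Omega.NOThreeL.RRed.NS (fxd brk mem_fxd un val_mem_un smul_eq_iff)
open Cfsg.Agent.Omega.NOThreeL.RRed.Blk.AsmInp (Spl)
open Cfsg.Agent.Omega.NOThreeL.RRed.Blk.TypesNat (XH ph ph_smul ph_surj XH_faith imS)
open Cfsg.Agent.Omega.NOThreeL.RRed.Blk.AsmCore (EE EP im ph_mem_im)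
open Cfsg.Agent.Omega.NOThreeL.RRed.Blk.AsmUn (un_le)
open Cfsg.Agent.Omega.NOThreeL.RRed.Blk.AsmN (FamN)
open Cfsg.Agent.Omega.NOThreeL.RRed.Blk.AsmN.FamN (sN)
open Cfsg.Agent.Omega.NOThreeL.RRed.Blk.Asm (FFs le_FFs)
open Cfsg.Agent.Omega.NOThreeL.RRed.Blk.FXDef (FXM)
open Cfsg.Agent.Omega.NOThreeL.RRed.Blk.FamOf (InN famN_of exists_RRN nrm_norm)
open Cfsg.Agent.Omega.NOThreeL.RRed.Ex.Cent (ExG)
open Cfsg.Agent.Omega.NOThreeL.RZ.TwoE.NonSplit
open Cfsg.Agent.Omega.NOThreeL.RZ.TwoE.NrTree (NonS NsO)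
open scoped Pointwise

universe u

/-- **The inputs of the family of the nonsplit blocks.** -/
def InB : Prop :=
  ∀ (G : Type u) [Group G] [Finite G] (S : Sylow 2 G), RB S →
    NoOverM (zl (S : Subgroup G) (MZ (S : Subgroup G))) (MZ (S : Subgroup G)) →
    ∀ Q : Nrm (normalizer (MZ (S : Subgroup G) : Set G)) (zl (S : Subgroup G) (MZ (S : Subgroup G))), InN S Q

section one

variable {G : Type u} [Group G] [Finite G] {S : Sylow 2 G}
  {Q : Nrm (normalizer (YS (S : Subgroup G) : Set G)) (zl (S : Subgroup G) (YS S))}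
  {FF : Set (Subgroup (XH Q))} {N C L Z : Subgroup (XH Q) → AddSubgroup Q.Mod}

theorem two (h : RB S) : ∀ v : Q.Mod, v + v = 0 := fun v => Nrm.ext (by
  rw [Nrm.val_add, Nrm.val_zero]
  have := Vsq h _ (Q.val_mem v)
  rwa [pow_two] at this)

/-- the atoms of `S` centralise the sum of the radicals -/
theorem atom_cent (h : RB S)
    (F : FamN (im Q (S : Subgroup G)) (im Q '' EE (S : Subgroup G) (zl (S : Subgroup G) (YS S))) FF N C L Z)
    {A : Subgroup G} (hA : A ∈ EE (S : Subgroup G) (zl (S : Subgroup G) (YS S))) :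
    A ≤ centralizer (un Q (sN FF Z) : Set G) := by
  intro a ha
  rw [mem_centralizer_iff]
  rintro _ ⟨m, hm, rfl⟩
  have haH : a ∈ normalizer (YS (S : Subgroup G) : Set G) := Y_le_H (S_YS h (hA.1 ha))
  have h1 := mem_fxd.1 (F.EE_Z (two h) (fun x hx => XH_faith Q x hx) ⟨A, hA, rfl⟩ hm) _
    (ph_mem_im Q (A := A) (a := ⟨a, haH⟩) ha)
  rw [ph_smul, smul_eq_iff, mul_inv_eq_iff_eq_mul] at h1
  exact h1.symm

theorem no_of (h : RB S)
    (F : FamN (im Q (S : Subgroup G)) (im Q '' EE (S : Subgroup G) (zl (S : Subgroup G) (YS S))) FF N C L Z)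
    (hF : FF.Nonempty) : NoOverM (zl (S : Subgroup G) (YS S)) (YS (S : Subgroup G)) := by
  obtain ⟨D, hD⟩ := hF
  obtain ⟨A, hA, -⟩ := F.sub hD
  exact no_of_mx h hA.1 hA.2

/-- the exact groups of `S` centralise the sum of the radicals -/
theorem Z_cent (h : RB S) (ex : ExG (S : Subgroup G) (YS S))
    (F : FamN (im Q (S : Subgroup G)) (im Q '' EE (S : Subgroup G) (zl (S : Subgroup G) (YS S))) FF N C L Z)
    {EO : Subgroup (XH Q)} {NN LL : AddSubgroup Q.Mod} {v : Q.Mod}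
    (f : FXM (im Q (S : Subgroup G)) EO FF NN LL (sN FF Z) v) :
    ∀ A ≤ (S : Subgroup G), ElemM (zl (S : Subgroup G) (YS S)) A → Exa (zl (S : Subgroup G) (YS S)) A →
      A ≤ centralizer (un Q (sN FF Z) : Set G) :=
  ex _ (un_le Q _) (Y_le_H.trans (norm_ZZ f)) fun _ hB hm => atom_cent h F ⟨hB, hm⟩

/-- **No nonsplit block.** -/
theorem false_of (hM : MLK.{u, u}) (hR : NO3b.EndX.RedP.{u, u}) (hE : ML.Ex.Two.Ext.{u, u}) (h : RB S)
    (F : FamN (im Q (S : Subgroup G)) (im Q '' EE (S : Subgroup G) (zl (S : Subgroup G) (YS S))) FF N C L Z)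
    {D : Subgroup (XH Q)} (hD : D ∈ FF) (hZ : Z D ≠ ⊥) : False := by
  have hSH : (S : Subgroup G) ≤ normalizer (YS (S : Subgroup G) : Set G) := (S_YS h).trans Y_le_H
  obtain ⟨v, f, hc⟩ := RRed.Blk.FxmOf.fxm_of (T := imS Q S hSH) F (RRed.Blk.AsmG.EEc Q hSH) (two h)
    (fun x hx => XH_faith Q x hx) ⟨D, hD⟩
  have no := no_of h F ⟨D, hD⟩
  have Zne : sN FF Z ≠ ⊥ := fun h0 => hZ (le_bot_iff.1 ((le_iSup₂ (f := fun D (_ : D ∈ FF) => Z D) D hD).trans h0.le))
  have hf := frN_of h f Zne no (Z_cent h (RRed.Ex.Main.exB h no) F f)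
  exact hf.false_of hM hR hE (TwoC.BadN.bad_un (S_YS h) Q (Vsq h) F
    (fun A hA => (atom_cent h F hA).trans (centralizer_le (Rg_le f))) hc)

end one

/-- **The socket `NsO`.** -/
theorem nsO (hM : MLK.{u, u}) (hR : NO3b.EndX.RedP.{u, u}) (hE : ML.Ex.Two.Ext.{u, u}) (inp : InB.{u}) :
    NsO.{u} := by
  intro G _ _ S hBF _ _ hn
  have h : RB S := hBF.toRB
  have hc := h.ctx.char2
  by_contra
  apply hn
  intro P hP hPM ne F i1 i2 i3 k M hF
  by_contra hns
  obtain ⟨A, hA⟩ := ne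
  have no : NoOverM (zl (S : Subgroup G) (MZ (S : Subgroup G))) (MZ (S : Subgroup G)) := no_of_mx h hA.1.1 hA.1.2
  have hne : (S : Subgroup G) ≠ ⊥ := by
    intro h0
    apply hA.1.2.ne
    have h1 : A = ⊥ := le_bot_iff.1 (h0 ▸ hA.1.1)
    rw [h1]
    exact bot_le
  have hSM : (S : Subgroup G) ≤ MZ (S : Subgroup G) := S_YS h
  have hL : IsLoc (S : Subgroup G) (MZ (S : Subgroup G)) := Star.isLoc hc h.data.noff hSM hne
  have Q := nrm_norm hSM (FFThm.elem_zl hc S hL)
  have I := inp G S h no Q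
  obtain ⟨D, hD⟩ := exists_RRN hc hL no Q I hP ⟨A, hA⟩ M hF hns
  obtain ⟨N, C, L, Z, Fm, -, hZ⟩ := famN_of hc hL no Q I
  exact false_of hM hR hE h Fm (le_FFs hD) (hZ D (le_FFs hD))

end Cfsg.Agent.Omega.NOThreeL.RZ.TwoE.NsEnd

end
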